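import Mathlib
import Cfsg.Prelude.Def_GeometricClasses
import Cfsg.Agent.Lib.Aschbacher.Basic

/-!
Degrees attached to the members of the geometric classes: the degree of a field subalgebra divides
the dimension, and an absolutely irreducible group of symplectic type of order `z·r^(2m)` has
dimension `r^m`.
-/

set_option autoImplicit false
set_option linter.style.haveILetI false

namespace Cfsg.Agent.Lib.MaxClass

open Cfsg Cfsg.Geo Matrix
open Cfsg.Agent.Lib.Aschbacher

variable {ι : Type} [Fintype ι] [DecidableEq ι] {F : Type*} [Field F]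

theorem finrank_dvd_of_isFieldSubalgebra [Nonempty ι] {r : ℕ} {K : Subalgebra F (Matrix ι ι F)}
    (hK : IsFieldSubalgebra r K) : r ∣ Fintype.card ι := by
  classical
  haveI : Nontrivial K := ⟨⟨1, 0, fun h => by
    have := congrArg (fun a : K => (a : Matrix ι ι F) (Classical.arbitrary ι) (Classical.arbitrary ι)) h
    simp at this⟩⟩
  letI fK : Field K :=
    IsField.toField
      { exists_pair_ne := exists_pair_ne K
        mul_comm := fun x y => Subtype.ext (hK.comm x x.2 y y.2)
        mul_inv_cancel := fun {x} hx => by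
          obtain ⟨y, hy, hxy⟩ := hK.inv x x.2 (fun h => hx (Subtype.ext h))
          exact ⟨⟨y, hy⟩, Subtype.ext hxy⟩ }
  letI mK : Module K (ι → F) :=
    { smul := fun a v => (a : Matrix ι ι F) *ᵥ v
      one_smul := fun v => Matrix.one_mulVec v
      mul_smul := fun a b v => (Matrix.mulVec_mulVec v _ _).symm
      smul_zero := fun a => Matrix.mulVec_zero _
      zero_smul := fun v => Matrix.zero_mulVec v
      smul_add := fun a v w => Matrix.mulVec_add _ v w
      add_smul := fun a b v => Matrix.add_mulVec _ _ v }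
  haveI hT : IsScalarTower F K (ι → F) := ⟨fun c a v => Matrix.smul_mulVec c _ v⟩
  have h := Module.finrank_mul_finrank F K (ι → F)
  rw [hK.finrank_eq, Module.finrank_fintype_fun_eq_card] at h
  exact Dvd.intro _ h

theorem isMDecomposition_card {t m : ℕ} {D : Fin t → Submodule F (ι → F)} (hD : IsMDecomposition m D) :
    t * m = Fintype.card ι := by
  classical
  have hint : DirectSum.IsInternal D :=
    (DirectSum.isInternal_submodule_iff_iSupIndep_and_iSup_eq_top D).mpr ⟨hD.indep, hD.iSup_eq_top⟩
  letI := DirectSum.IsInternal.chooseDecomposition D hint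
  have h := (DirectSum.decomposeLinearEquiv D).finrank_eq
  rw [Module.finrank_fintype_fun_eq_card, Module.finrank_directSum] at h
  rw [h]
  simp [hD.finrank_eq]

/-- The elements of the centre of an absolutely irreducible group are scalar. -/
theorem center_mem_scalars {R : Subgroup (GL ι F)} (hR : ActsAbsolutelyIrreducibly (matrixSet R))
    {x : R} (hx : x ∈ Subgroup.center R) : (x : GL ι F) ∈ scalars ι F :=
  centralizer_scalar hR fun y hy => congrArg Subtype.val (Subgroup.mem_center_iff.mp hx ⟨y, hy⟩).symm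

theorem scalar_mem_center {R : Subgroup (GL ι F)} {x : R} (hx : (x : GL ι F) ∈ scalars ι F) :
    x ∈ Subgroup.center R :=
  Subgroup.mem_center_iff.mpr fun y => Subtype.ext (scalars_commute hx y).symm

/-- A symplectic-type group whose exponent divides the order of its centre has class at most two. -/
theorem commutator_le_center_of_exponent {P : Type*} [Group P] [Finite P] {r : ℕ} [Fact r.Prime]
    (hP : IsPGroup r P) (hc : ∀ A : Subgroup P, A.Characteristic → IsMulCommutative A → IsCyclic A)
    (hexp : Monoid.exponent P ∣ Nat.card (Subgroup.center P)) :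
    commutator P ≤ Subgroup.center P := by
  set Z := Subgroup.center P with hZ
  let π := QuotientGroup.mk' Z
  set Z₂ := (Subgroup.center (P ⧸ Z)).comap π with hZ₂
  have hmem : ∀ z, z ∈ Z₂ ↔ ∀ x, z * x * z⁻¹ * x⁻¹ ∈ Z := by
    intro z
    rw [hZ₂, Subgroup.mem_comap, Subgroup.mem_center_iff]
    constructor
    · intro h x
      have := h (π x)
      apply (QuotientGroup.eq_one_iff _).mp
      show π (z * x * z⁻¹ * x⁻¹) = 1
      rw [map_mul, map_mul, map_mul, map_inv, map_inv, ← this, mul_inv_cancel_right, mul_inv_cancel]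
    · intro h y
      obtain ⟨x, rfl⟩ := QuotientGroup.mk'_surjective Z y
      have h1 : π (z * x * z⁻¹ * x⁻¹) = 1 := (QuotientGroup.eq_one_iff _).mpr (h x)
      rw [map_mul, map_mul, map_mul, map_inv, map_inv] at h1
      exact (mul_inv_eq_iff_eq_mul.mp (mul_inv_eq_one.mp h1)).symm
  -- the second centre commutes with the derived group
  have hcomm : ∀ z ∈ Z₂, ∀ d ∈ commutator P, z * d = d * z := by
    intro z hz
    let f : P →* Z :=
      { toFun := fun x => ⟨z * x * z⁻¹ * x⁻¹, (hmem z).mp hz x⟩
        map_one' := Subtype.ext (by simp)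
        map_mul' := fun x y => Subtype.ext (by
          show z * (x * y) * z⁻¹ * (x * y)⁻¹ = z * x * z⁻¹ * x⁻¹ * (z * y * z⁻¹ * y⁻¹)
          have hcen := Subgroup.mem_center_iff.mp ((hmem z).mp hz y) x⁻¹
          rw [mul_assoc (z * x * z⁻¹) x⁻¹ (z * y * z⁻¹ * y⁻¹), hcen]
          group) }
    intro d hd
    have hle : commutator P ≤ f.ker := by
      rw [commutator_def, Subgroup.commutator_le]
      intro a _ b _
      rw [MonoidHom.mem_ker, map_commutatorElement, commutatorElement_def]
      apply Subtype.ext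
      show (f a : P) * f b * (f a : P)⁻¹ * (f b : P)⁻¹ = 1
      rw [← Subgroup.mem_center_iff.mp (f a).2 (f b : P)]
      group
    have h1 : z * d * z⁻¹ * d⁻¹ = 1 := congrArg Subtype.val (MonoidHom.mem_ker.mp (hle hd))
    exact mul_inv_eq_iff_eq_mul.mp (mul_inv_eq_one.mp h1)
  set A := (commutator P ⊓ Z₂) ⊔ Z with hA
  have hAle : A ≤ Z₂ := sup_le inf_le_right fun z hz => (hmem z).mpr fun x => by
    rw [← Subgroup.mem_center_iff.mp hz x, mul_inv_cancel_right, mul_inv_cancel]; exact Z.one_mem
  have hAcomm : IsMulCommutative A := by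
    constructor
    constructor
    intro a b
    apply Subtype.ext
    have hmul : ∀ w ∈ A, ∀ y ∈ A, w * y = y * w := by
      intro w hw y hy
      have h : A ≤ Subgroup.centralizer (A : Set P) := by
        refine sup_le ?_ ?_
        · intro u hu
          rw [Subgroup.mem_centralizer_iff]
          intro y hy
          exact hcomm y (hAle hy) u hu.1
        · exact fun u hu => Subgroup.mem_centralizer_iff.mpr fun y _ => Subgroup.mem_center_iff.mp hu y
      exact Subgroup.mem_centralizer_iff.mp (h hy) w hw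
    exact hmul a a.2 b b.2
  have hAchar : A.Characteristic := by
    haveI : Z.Characteristic := by rw [hZ]; infer_instance
    haveI : Z₂.Characteristic := by
      rw [Subgroup.characteristic_iff_map_le]
      rintro φ _ ⟨z, hz, rfl⟩
      rw [hmem]
      intro x
      have h1 := (Subgroup.characteristic_iff_map_le.mp (inferInstance : Z.Characteristic)) φ
        ⟨_, (hmem z).mp hz (φ.symm x), rfl⟩
      simpa using h1
    rw [Subgroup.characteristic_iff_map_le]
    intro φ
    rw [hA, Subgroup.map_sup]
    exact sup_le_sup (le_trans (Subgroup.map_inf_le _ _ _) (inf_le_inf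
      ((Subgroup.characteristic_iff_map_le.mp (inferInstance : (commutator P).Characteristic)) φ)
      ((Subgroup.characteristic_iff_map_le.mp (inferInstance : Z₂.Characteristic)) φ)))
      ((Subgroup.characteristic_iff_map_le.mp (inferInstance : Z.Characteristic)) φ)
  have hAZ : A = Z := by
    haveI := hc A hAchar hAcomm
    refine le_antisymm ?_ le_sup_right
    have h1 : Nat.card A ∣ Monoid.exponent P := by
      rw [← IsCyclic.exponent_eq_card]
      exact Monoid.exponent_dvd_of_monoidHom A.subtype A.subtype_injective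
    have h2 := Nat.le_of_dvd Nat.card_pos (h1.trans hexp)
    exact (SetLike.coe_injective (Set.eq_of_subset_of_ncard_le (le_sup_right : Z ≤ A) h2 (Set.toFinite _))).symm.le
  by_contra hne
  -- a non-trivial normal subgroup of `P/Z` meets the centre
  set C := (commutator P).map π with hCdef
  have hC0 : C ≠ ⊥ := by
    intro h
    rw [hCdef, Subgroup.map_eq_bot_iff, QuotientGroup.ker_mk'] at h
    exact hne h
  haveI : C.Normal := (inferInstance : (commutator P).Normal).map _ (QuotientGroup.mk'_surjective Z)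
  haveI : Finite (P ⧸ Z) := inferInstance
  have hCP : IsPGroup r (P ⧸ Z) := hP.to_quotient Z
  haveI : Nontrivial C := (Subgroup.nontrivial_iff_ne_bot C).mpr hC0
  -- fixed points of conjugation on `C`
  have hdvd : r ∣ Nat.card C := by
    obtain ⟨k, hk⟩ := IsPGroup.iff_card.mp (hCP.to_subgroup C)
    rw [hk]
    refine dvd_pow_self r ?_
    rintro rfl
    have h1 := Finite.one_lt_card (α := C)
    rw [hk, pow_zero] at h1
    exact lt_irrefl _ h1
  letI : MulAction (ConjAct (P ⧸ Z)) C :=
    { smul := fun g c => ⟨ConjAct.ofConjAct g * c * (ConjAct.ofConjAct g)⁻¹, ‹C.Normal›.conj_mem _ c.2 _⟩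
      one_smul := fun c => Subtype.ext (by show (ConjAct.ofConjAct (1 : ConjAct (P ⧸ Z))) * (c : P ⧸ Z) * _ = c; simp)
      mul_smul := fun a b c => Subtype.ext (by
        show ConjAct.ofConjAct (a * b) * (c : P ⧸ Z) * _ = ConjAct.ofConjAct a * (ConjAct.ofConjAct b * c * _) * _
        rw [map_mul]; group) }
  have h1fix : (1 : C) ∈ MulAction.fixedPoints (ConjAct (P ⧸ Z)) C := fun g => Subtype.ext (by
    show ConjAct.ofConjAct g * (1 : P ⧸ Z) * _ = 1
    simp)
  obtain ⟨c, hcfix, hc1⟩ := (IsPGroup.exists_fixed_point_of_prime_dvd_card_of_fixed_point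
    (hCP.of_equiv ConjAct.toConjAct) C hdvd h1fix)
  obtain ⟨d, hd, hdc⟩ := c.2
  have hdZ₂ : d ∈ Z₂ := by
    rw [hZ₂, Subgroup.mem_comap, Subgroup.mem_center_iff]
    intro y
    rw [hdc]
    have := congrArg Subtype.val (hcfix (ConjAct.toConjAct y))
    exact mul_inv_eq_iff_eq_mul.mp this
  have hdZ : d ∈ Z := hAZ ▸ (le_sup_left : commutator P ⊓ Z₂ ≤ A) ⟨hd, hdZ₂⟩
  apply hc1
  apply Subtype.ext
  rw [← hdc]
  exact ((QuotientGroup.eq_one_iff d).mpr hdZ).symm

theorem symplecticType_degree_of_class [Fintype F] [Nonempty ι] {r p m z : ℕ} [CharP F p] (hrp : r ≠ p)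
    {R : Subgroup (GL ι F)} (hR : IsSymplecticTypeGroup r R) (hirr : ActsAbsolutelyIrreducibly (matrixSet R))
    (hz : Nat.card (Subgroup.center R) = z) (hclass : commutator R ≤ Subgroup.center R)
    (hcard : Nat.card R = z * r ^ (2 * m)) : Fintype.card ι = r ^ m := by
  classical
  haveI := Fact.mk hR.prime
  haveI := Fact.mk (CharP.char_is_prime F p)
  set Z := Subgroup.center R with hZ
  -- trace vanishes off the centre
  have htr : ∀ x : R, x ∉ Z → ((x : GL ι F) : Matrix ι ι F).trace = 0 := by
    intro x hx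
    rw [hZ, Subgroup.mem_center_iff] at hx
    push Not at hx
    obtain ⟨y, hy⟩ := hx
    have hmem : y * x * y⁻¹ * x⁻¹ ∈ Z :=
      hclass (Subgroup.commutator_mem_commutator (Subgroup.mem_top y) (Subgroup.mem_top x))
    obtain ⟨c, hc⟩ := (mem_scalars_iff _).mp (center_mem_scalars hirr hmem)
    have hc1 : (c : F) ≠ 1 := by
      intro h
      apply hy
      have h1 : y * x * y⁻¹ * x⁻¹ = 1 := Subtype.ext (Units.ext (by rw [hc, h, one_smul]; rfl))
      exact mul_inv_eq_iff_eq_mul.mp (mul_inv_eq_one.mp h1)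
    have h2 : ((y * x * y⁻¹ : R) : GL ι F) = ((y * x * y⁻¹ * x⁻¹ : R) : GL ι F) * (x : GL ι F) := by
      rw [← Subgroup.coe_mul, inv_mul_cancel_right]
    have h3 := congrArg (fun g : GL ι F => (g : Matrix ι ι F).trace) h2
    simp only [Units.val_mul, hc, Matrix.smul_mul, Matrix.one_mul, Matrix.trace_smul, smul_eq_mul] at h3
    have h4 : (((y * x * y⁻¹ : R) : GL ι F) : Matrix ι ι F).trace = ((x : GL ι F) : Matrix ι ι F).trace := by
      simp only [Subgroup.coe_mul, Subgroup.coe_inv, Units.val_mul]
      rw [Matrix.trace_mul_cycle, Units.inv_mul, Matrix.one_mul]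
    rw [h4] at h3
    exact (mul_left_eq_self₀.mp h3.symm).resolve_left hc1
  -- averaging over `R/Z`
  haveI : Fintype (R ⧸ Z) := Fintype.ofFinite _
  let σ : R ⧸ Z → GL ι F := fun q => ((q.out : R) : GL ι F)
  have hN : Fintype.card (R ⧸ Z) = r ^ (2 * m) := by
    have h := Subgroup.card_eq_card_quotient_mul_card_subgroup Z
    rw [hcard, hz, Nat.card_eq_fintype_card (α := R ⧸ Z), mul_comm] at h
    exact (Nat.eq_of_mul_eq_mul_right (hz ▸ Nat.card_pos) h).symm
  have hrF : ((r : F)) ≠ 0 := by
    intro h
    rw [CharP.cast_eq_zero_iff F p] at h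
    exact hrp ((Nat.prime_dvd_prime_iff_eq (Fact.out : p.Prime) hR.prime).mp h).symm
  have hNF : ((Fintype.card (R ⧸ Z) : ℕ) : F) ≠ 0 := by
    rw [hN, Nat.cast_pow]
    exact pow_ne_zero _ hrF
  let S : Matrix ι ι F → Matrix ι ι F := fun X => ∑ q, conjM (σ q) X
  have hconjZ : ∀ (x : R), x ∈ Z → ∀ X, conjM ((x : R) : GL ι F) X = X := by
    intro x hx X
    obtain ⟨c, hc⟩ := (mem_scalars_iff _).mp (center_mem_scalars hirr hx)
    rw [conjM_apply, hc, Matrix.smul_mul, Matrix.one_mul, ← Matrix.mul_one ((c : F) • X), mul_assoc,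
      Matrix.one_mul, Matrix.smul_mul, ← Matrix.mul_smul]
    have hinv : (c : F) • (((x : GL ι F))⁻¹ : GL ι F).val = 1 := by
      rw [← Matrix.one_mul ((((x : GL ι F))⁻¹ : GL ι F).val), ← Matrix.smul_mul, ← hc, Units.mul_inv]
    rw [hinv, Matrix.mul_one]
  have hS : ∀ X, ∃ c : F, S X = c • 1 := by
    intro X
    refine hirr.2 (S X) ?_
    rintro _ ⟨y, hy, rfl⟩
    suffices conjM y (S X) = S X from (commute_of_conjM_eq this).symm
    show conjM y (∑ q, conjM (σ q) X) = ∑ q, conjM (σ q) X
    rw [map_sum]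
    refine Fintype.sum_equiv (Equiv.mulLeft (QuotientGroup.mk (⟨y, hy⟩ : R) : R ⧸ Z)) _ _ fun q => ?_
    simp only [Equiv.coe_mulLeft]
    rw [← conjM_mul]
    set q' := ((QuotientGroup.mk (⟨y, hy⟩ : R) : R ⧸ Z) * q) with hq'
    have hmem : (q'.out)⁻¹ * (⟨y, hy⟩ * q.out) ∈ Z := by
      rw [← QuotientGroup.eq_one_iff, QuotientGroup.mk_mul, QuotientGroup.mk_inv, QuotientGroup.mk_mul,
        QuotientGroup.out_eq', QuotientGroup.out_eq', hq', inv_mul_cancel]
    show conjM (y * σ q) X = conjM (σ q') X
    have hyq : y * σ q = σ q' * (((q'.out)⁻¹ * (⟨y, hy⟩ * q.out) : R) : GL ι F) := by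
      show y * σ q = σ q' * ((q'.out : GL ι F)⁻¹ * (y * (q.out : GL ι F)))
      rw [mul_inv_cancel_left]
    rw [hyq, conjM_mul, hconjZ _ hmem]
  have hStr : ∀ X, (S X).trace = (Fintype.card (R ⧸ Z) : F) * X.trace := by
    intro X
    show (∑ q, conjM (σ q) X).trace = _
    rw [Matrix.trace_sum]
    simp only [conjM_apply]
    rw [Finset.sum_congr rfl (fun q _ => by rw [Matrix.trace_mul_cycle, Units.inv_mul, Matrix.one_mul]),
      Finset.sum_const, Finset.card_univ, nsmul_eq_mul]
  obtain ⟨i₀⟩ := (inferInstance : Nonempty ι)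
  have hn : (Fintype.card ι : F) ≠ 0 := by
    intro h
    obtain ⟨c, hc⟩ := hS (Matrix.single i₀ i₀ 1)
    have h1 := hStr (Matrix.single i₀ i₀ 1)
    rw [hc, Matrix.trace_smul, Matrix.trace_one, smul_eq_mul, h, mul_zero, Matrix.trace_single_eq_same, mul_one] at h1
    exact hNF h1.symm
  -- the representatives span
  let comb : (R ⧸ Z → F) →ₗ[F] Matrix ι ι F := Fintype.linearCombination F fun q => ((σ q : GL ι F) : Matrix ι ι F)
  have hcomb : ∀ a, comb a = ∑ q, a q • ((σ q : GL ι F) : Matrix ι ι F) := fun a => Fintype.linearCombination_apply F _ a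
  have hsurj : Function.Surjective comb := by
    rw [← LinearMap.range_eq_top, eq_top_iff]
    intro X _
    rw [Matrix.matrix_eq_sum_single X]
    refine Submodule.sum_mem _ fun a _ => Submodule.sum_mem _ fun b _ => ?_
    -- coefficients from the average of a matrix unit
    set k : F := (Fintype.card (R ⧸ Z) : F) / (Fintype.card ι : F) with hk
    have hSab : ∀ i j, S (Matrix.single i j 1) = (if i = j then k else 0) • 1 := by
      intro i j
      obtain ⟨c, hc⟩ := hS (Matrix.single i j 1)
      have h1 := hStr (Matrix.single i j 1)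
      rw [hc, Matrix.trace_smul, Matrix.trace_one, smul_eq_mul] at h1
      rw [hc]
      congr 1
      by_cases hij : i = j
      · subst hij
        rw [Matrix.trace_single_eq_same, mul_one] at h1
        rw [if_pos rfl, hk, eq_div_iff hn, h1]
      · rw [Matrix.trace_single_eq_of_ne _ _ _ hij, mul_zero] at h1
        rw [if_neg hij]
        exact (mul_eq_zero.mp h1).resolve_right hn
    refine ⟨fun q => (X a b / k) * (((σ q)⁻¹ : GL ι F) : Matrix ι ι F) b a, ?_⟩
    rw [hcomb]
    ext u w
    rw [Matrix.sum_apply]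
    have h2 := congrFun (congrFun (hSab w b) u) a
    have h3 : S (Matrix.single w b 1) u a =
        ∑ q, ((σ q : GL ι F) : Matrix ι ι F) u w * (((σ q)⁻¹ : GL ι F) : Matrix ι ι F) b a := by
      show (∑ q, conjM (σ q) (Matrix.single w b 1)) u a = _
      rw [Matrix.sum_apply]
      refine Finset.sum_congr rfl fun q _ => ?_
      rw [conjM_apply, Matrix.mul_apply]
      simp [Matrix.mul_apply, Matrix.single_apply, Finset.sum_ite_eq', ite_and]
    rw [h3, Matrix.smul_apply, Matrix.one_apply, smul_eq_mul] at h2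
    calc ∑ q, ((X a b / k * (((σ q)⁻¹ : GL ι F) : Matrix ι ι F) b a) • ((σ q : GL ι F) : Matrix ι ι F)) u w
        = (X a b / k) * ∑ q, ((σ q : GL ι F) : Matrix ι ι F) u w * (((σ q)⁻¹ : GL ι F) : Matrix ι ι F) b a := by
          rw [Finset.mul_sum]
          exact Finset.sum_congr rfl fun q _ => by rw [Matrix.smul_apply, smul_eq_mul]; ring
      _ = Matrix.single a b (X a b) u w := by
          have hk0 : k ≠ 0 := div_ne_zero hNF hn
          rw [h2, Matrix.single_apply]
          by_cases h1 : w = b <;> by_cases h4 : u = a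
          · rw [if_pos h1, if_pos h4, if_pos ⟨h4.symm, h1.symm⟩, mul_one, div_mul_cancel₀ _ hk0]
          · rw [if_pos h1, if_neg h4, if_neg (fun h => h4 h.1.symm), mul_zero, mul_zero]
          · rw [if_neg h1, if_pos h4, if_neg (fun h => h1 h.2.symm), zero_mul, mul_zero]
          · rw [if_neg h1, if_neg h4, if_neg (fun h => h4 h.1.symm), zero_mul, mul_zero]
  have hinj : Function.Injective comb := by
    refine (injective_iff_map_eq_zero comb).mpr fun a ha => funext fun q₀ => ?_
    have h1 := congrArg (fun M => (M * (((σ q₀)⁻¹ : GL ι F) : Matrix ι ι F)).trace) ha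
    simp only [hcomb, Matrix.sum_mul, Matrix.trace_sum, Matrix.smul_mul, Matrix.trace_smul, Matrix.zero_mul,
      Matrix.trace_zero, smul_eq_mul] at h1
    rw [Finset.sum_eq_single q₀ (fun q _ hq => ?_) (fun h => absurd (Finset.mem_univ _) h), Units.mul_inv,
      Matrix.trace_one] at h1
    · exact (mul_eq_zero.mp h1).resolve_right hn
    · rw [← Units.val_mul]
      have hne : (q.out * (q₀.out)⁻¹ : R) ∉ Z := by
        intro h
        apply hq
        rw [← QuotientGroup.eq_one_iff, QuotientGroup.mk_mul, QuotientGroup.mk_inv,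
          QuotientGroup.out_eq', QuotientGroup.out_eq'] at h
        exact mul_inv_eq_one.mp h
      rw [show σ q * (σ q₀)⁻¹ = ((q.out * (q₀.out)⁻¹ : R) : GL ι F) from rfl, htr _ hne, mul_zero]
  have hdim := (LinearEquiv.ofBijective comb ⟨hinj, hsurj⟩).finrank_eq
  rw [Module.finrank_fintype_fun_eq_card, Module.finrank_matrix, Module.finrank_self, mul_one, hN, pow_mul'] at hdim
  rw [← sq] at hdim
  exact (Nat.pow_left_injective two_ne_zero hdim).symm

theorem symplecticType_degree [Fintype F] [Nonempty ι] {r p m z : ℕ} [CharP F p] (hrp : r ≠ p)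
    {R : Subgroup (GL ι F)} (hR : IsSymplecticTypeGroup r R) (hirr : ActsAbsolutelyIrreducibly (matrixSet R))
    (hz : Nat.card (Subgroup.center R) = z) (hexp : Monoid.exponent R ∣ z)
    (hcard : Nat.card R = z * r ^ (2 * m)) : Fintype.card ι = r ^ m :=
  haveI := Fact.mk hR.prime
  symplecticType_degree_of_class hrp hR hirr hz
    (commutator_le_center_of_exponent hR.pGroup hR.cyclic_of_characteristic (hz ▸ hexp)) hcard

end Cfsg.Agent.Lib.MaxClass
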