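import Mathlib
import Cfsg.Prelude.Def_GeometricClasses

/-!
No member of the geometric classes of subgroups of `GL_n(F)` contains `SL_n(F)` (`n ≥ 3`):
in each case a transvection is missing.
-/

set_option autoImplicit false
set_option linter.style.haveILetI false

namespace Cfsg.Agent.Lib.MaxClass

open Cfsg Cfsg.Geo Matrix
open scoped Kronecker

variable {ι : Type} [Fintype ι] [DecidableEq ι] {F : Type*} [Field F]

/-- The transvection `x ↦ x + φ(x) v`, for `φ(v) = 0`. -/
def tv (v φ : ι → F) (h : φ ⬝ᵥ v = 0) : GL ι F where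
  val := 1 + vecMulVec v φ
  inv := 1 - vecMulVec v φ
  val_inv := by
    rw [mul_sub, add_mul, add_mul, mul_one, one_mul, mul_one, vecMulVec_mul_vecMulVec, h]
    simp
  inv_val := by
    rw [mul_add, sub_mul, sub_mul, mul_one, one_mul, mul_one, vecMulVec_mul_vecMulVec, h]
    simp

lemma coe_tv (v φ : ι → F) (h : φ ⬝ᵥ v = 0) : (tv v φ h : Matrix ι ι F) = 1 + vecMulVec v φ := rfl

lemma coe_tv_inv (v φ : ι → F) (h : φ ⬝ᵥ v = 0) :
    (((tv v φ h)⁻¹ : GL ι F) : Matrix ι ι F) = 1 - vecMulVec v φ := rfl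

lemma tv_mem_specialLinear (v φ : ι → F) (h : φ ⬝ᵥ v = 0) : tv v φ h ∈ specialLinear ι F := by
  show Matrix.GeneralLinearGroup.det (tv v φ h) = 1
  apply Units.ext
  rw [Matrix.GeneralLinearGroup.val_det_apply, coe_tv, vecMulVec_eq Unit,
    Matrix.det_one_add_replicateCol_mul_replicateRow, h, add_zero, Units.val_one]

lemma tv_mulVec (v φ : ι → F) (h : φ ⬝ᵥ v = 0) (x : ι → F) :
    (tv v φ h : Matrix ι ι F) *ᵥ x = x + (φ ⬝ᵥ x) • v := by
  rw [coe_tv, Matrix.add_mulVec, Matrix.one_mulVec, vecMulVec_mulVec, op_smul_eq_smul]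

/-- A functional vanishing on a subspace but not at a given point outside. -/
lemma exists_dot {W : Submodule F (ι → F)} {w : ι → F} (h : w ∉ W) :
    ∃ φ : ι → F, φ ⬝ᵥ w = 1 ∧ ∀ x ∈ W, φ ⬝ᵥ x = 0 := by
  obtain ⟨f, hf, hW⟩ := Submodule.exists_dual_map_eq_bot_of_notMem h inferInstance
  have hval : ∀ x, (fun i => (f w)⁻¹ * f (Pi.single i 1)) ⬝ᵥ x = (f w)⁻¹ * f x := by
    intro x
    conv_rhs => rw [pi_eq_sum_univ' x, map_sum, Finset.mul_sum]
    refine Finset.sum_congr rfl fun i _ => ?_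
    rw [map_smul, smul_eq_mul]
    ring
  refine ⟨_, by rw [hval, inv_mul_cancel₀ hf], fun x hx => ?_⟩
  have h0 : f x ∈ W.map f := ⟨x, hx, rfl⟩
  rw [hW, Submodule.mem_bot] at h0
  rw [hval, h0, mul_zero]

lemma exists_notMem_of_finrank_lt {W : Submodule F (ι → F)} (h : Module.finrank F W < Fintype.card ι) :
    ∃ x, x ∉ W := by
  by_contra hc
  push Not at hc
  have : W = ⊤ := top_unique fun x _ => hc x
  rw [this, finrank_top, Module.finrank_fintype_fun_eq_card] at h
  exact lt_irrefl _ h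

lemma finrank_span_pair_le (a b : ι → F) : Module.finrank F (Submodule.span F {a, b} : Submodule F (ι → F)) ≤ 2 := by
  classical
  have h := finrank_span_finset_le_card (R := F) (M := ι → F) {a, b}
  rw [Set.finrank, Finset.coe_pair] at h
  exact h.trans Finset.card_le_two

/-! ### Class 1 -/

theorem not_le_subspaceStabilizer {W : Submodule F (ι → F)} (h0 : W ≠ ⊥) (h1 : W ≠ ⊤) :
    ¬ specialLinear ι F ≤ subspaceStabilizer W := by
  intro hle
  obtain ⟨w, hw, hw0⟩ := W.ne_bot_iff.mp h0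
  obtain ⟨v, -, hv⟩ := SetLike.exists_of_lt (lt_top_iff_ne_top.mpr h1)
  have hwv : w ∉ Submodule.span F {v} := fun h => by
    obtain ⟨c, rfl⟩ := Submodule.mem_span_singleton.mp h
    have hc : c ≠ 0 := fun hc => hw0 (by rw [hc, zero_smul])
    exact hv (by simpa [smul_smul, hc] using W.smul_mem c⁻¹ hw)
  obtain ⟨φ, hφw, hφv⟩ := exists_dot hwv
  have hmem := (hle (tv_mem_specialLinear v φ (hφv v (Submodule.mem_span_singleton_self v))) w).mp hw
  have h2 : (tv v φ (hφv v (Submodule.mem_span_singleton_self v)) : Matrix ι ι F) *ᵥ w ∈ W := hmem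
  rw [tv_mulVec, hφw, one_smul] at h2
  exact hv (by simpa using W.sub_mem h2 hw)

/-! ### Class 2 -/

theorem not_le_decompositionStabilizer {t m : ℕ} {D : Fin t → Submodule F (ι → F)}
    (hD : IsMDecomposition m D) : ¬ specialLinear ι F ≤ decompositionStabilizer D := by
  intro hle
  let i : Fin t := ⟨0, lt_of_lt_of_le Nat.zero_lt_two hD.two_le⟩
  let j : Fin t := ⟨1, hD.two_le⟩
  have hij : i ≠ j := fun h => by simpa [i, j] using congrArg Fin.val h
  have hne : ∀ k, D k ≠ ⊥ := fun k h => by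
    have := hD.finrank_eq k
    rw [h, finrank_bot] at this
    exact hD.pos.ne this
  obtain ⟨w, hw, hw0⟩ := (D i).ne_bot_iff.mp (hne i)
  obtain ⟨v, hv, hv0⟩ := (D j).ne_bot_iff.mp (hne j)
  have hwv : w ∉ D j := fun h => hw0 (Submodule.disjoint_def.mp (hD.indep.pairwiseDisjoint hij) w hw h)
  obtain ⟨φ, hφw, hφ⟩ := exists_dot hwv
  obtain ⟨σ, hσ⟩ := hle (tv_mem_specialLinear v φ (hφ v hv))
  have h1 : w + v ∈ D (σ i) := by
    rw [← hσ i]
    exact ⟨w, hw, by rw [Matrix.toLin'_apply, tv_mulVec, hφw, one_smul]⟩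
  rcases eq_or_ne (σ i) i with hk | hk
  · rw [hk] at h1
    have : v ∈ D i := by simpa using (D i).sub_mem h1 hw
    exact hv0 (Submodule.disjoint_def.mp (hD.indep.pairwiseDisjoint hij) v this hv)
  · have h2 : w ∈ ⨆ (k : Fin t) (_ : k ≠ i), D k := by
      have h3 : w + v ∈ ⨆ (k : Fin t) (_ : k ≠ i), D k :=
        Submodule.mem_iSup_of_mem (σ i) (Submodule.mem_iSup_of_mem hk h1)
      have h4 : v ∈ ⨆ (k : Fin t) (_ : k ≠ i), D k :=
        Submodule.mem_iSup_of_mem j (Submodule.mem_iSup_of_mem hij.symm hv)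
      simpa using Submodule.sub_mem _ h3 h4
    exact hw0 (Submodule.disjoint_def.mp (hD.indep i) w hw h2)

/-! ### Class 3 -/

lemma exists_notMem_bot_of_finrank [Nonempty ι] {r : ℕ} (hr : 2 ≤ r) {K : Subalgebra F (Matrix ι ι F)}
    (hK : IsFieldSubalgebra r K) : ∃ k ∈ K, ∀ c : F, k ≠ c • (1 : Matrix ι ι F) := by
  by_contra hc
  push Not at hc
  have h1 : K = ⊥ := by
    refine le_bot_iff.mp fun k hk => ?_
    obtain ⟨c, rfl⟩ := hc k hk
    exact Algebra.mem_bot.mpr ⟨c, Algebra.algebraMap_eq_smul_one c⟩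
  have h2 := hK.finrank_eq
  rw [h1, Subalgebra.finrank_bot] at h2
  omega

theorem not_le_subalgebraNormalizer (hn : 3 ≤ Fintype.card ι) {r : ℕ} (hr : 2 ≤ r)
    {K : Subalgebra F (Matrix ι ι F)} (hK : IsFieldSubalgebra r K) :
    ¬ specialLinear ι F ≤ subalgebraNormalizer K := by
  intro hle
  haveI : Nonempty ι := Fintype.card_pos_iff.mp (by omega)
  obtain ⟨k, hk, hknot⟩ := exists_notMem_bot_of_finrank hr hK
  obtain ⟨v, hv⟩ := Fintype.card_pos_iff.mp (show 0 < Fintype.card ι by omega) |> fun i =>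
    (⟨Pi.single i.some (1 : F), by simp⟩ : ∃ v : ι → F, v ≠ 0)
  have hkv : ∀ c : F, k *ᵥ v ≠ c • v := by
    intro c h
    obtain ⟨y, -, hy⟩ := hK.inv (k - c • 1) (K.sub_mem hk (K.smul_mem K.one_mem c)) (sub_ne_zero.mpr (hknot c))
    have h1 : y *ᵥ ((k - c • 1) *ᵥ v) = 0 := by
      rw [Matrix.sub_mulVec, h, Matrix.smul_mulVec, Matrix.one_mulVec, sub_self, Matrix.mulVec_zero]
    rw [Matrix.mulVec_mulVec, mul_eq_one_comm.mp hy, Matrix.one_mulVec] at h1
    exact hv h1
  have hk0 : k *ᵥ v ∉ Submodule.span F {v} := fun h => by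
    obtain ⟨c, hc⟩ := Submodule.mem_span_singleton.mp h
    exact hkv c hc.symm
  obtain ⟨φ, hφ, hφv⟩ := exists_dot hk0
  have hv' : φ ⬝ᵥ v = 0 := hφv v (Submodule.mem_span_singleton_self v)
  set N := vecMulVec v φ with hN
  have hNx : ∀ x, N *ᵥ x = (φ ⬝ᵥ x) • v := fun x => by rw [hN, vecMulVec_mulVec, op_smul_eq_smul]
  have hmem : (1 + N) * k * (1 - N) ∈ K := (hle (tv_mem_specialLinear v φ hv') k).mp hk
  set d := (1 + N) * k * (1 - N) - k with hd
  have hd0 : d = 0 := by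
    by_contra hd0
    obtain ⟨y, -, hy⟩ := hK.inv d (K.sub_mem hmem hk) hd0
    obtain ⟨u, hu⟩ := exists_notMem_of_finrank_lt
      (lt_of_le_of_lt (finrank_span_pair_le v (k *ᵥ v)) (show 2 < Fintype.card ι by omega))
    apply hu
    have hrange : ∀ x, d *ᵥ x ∈ Submodule.span F {v, k *ᵥ v} := by
      intro x
      have e : d = N * (k * (1 - N)) - k * N := by rw [hd]; noncomm_ring
      rw [e]
      simp only [Matrix.sub_mulVec, ← Matrix.mulVec_mulVec, hNx, Matrix.mulVec_smul]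
      exact Submodule.sub_mem _ (Submodule.smul_mem _ _ (Submodule.subset_span (by simp)))
        (Submodule.smul_mem _ _ (Submodule.subset_span (by simp)))
    have h2 := hrange (y *ᵥ u)
    rwa [Matrix.mulVec_mulVec, hy, Matrix.one_mulVec] at h2
  have h3 : (1 + N) * k * (1 - N) * (1 + N) = k * (1 + N) := congrArg (· * (1 + N)) (sub_eq_zero.mp hd0)
  have hinv : (1 - N) * (1 + N) = 1 := (tv v φ hv').inv_mul
  rw [mul_assoc, hinv, mul_one] at h3
  have h4 := congrArg (· *ᵥ v) h3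
  simp only [← Matrix.mulVec_mulVec, Matrix.add_mulVec, Matrix.one_mulVec, hNx, hv', zero_smul,
    add_zero, Matrix.mulVec_add, hφ, one_smul] at h4
  exact hv (by simpa using h4)

/-! ### Class 4 -/

lemma glReindex_mem_specialLinear_iff {κ : Type} [Fintype κ] [DecidableEq κ] (e : κ ≃ ι) (g : GL κ F) :
    glReindex e g ∈ specialLinear ι F ↔ g ∈ specialLinear κ F := by
  show Matrix.GeneralLinearGroup.det _ = 1 ↔ Matrix.GeneralLinearGroup.det g = 1
  rw [Units.ext_iff, Units.ext_iff, Matrix.GeneralLinearGroup.val_det_apply, Matrix.GeneralLinearGroup.val_det_apply]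
  show (Matrix.reindexAlgEquiv F F e (g : Matrix κ κ F)).det = _ ↔ _
  rw [Matrix.det_reindexAlgEquiv]

lemma not_le_conj_map {κ : Type} [Fintype κ] [DecidableEq κ] (e : κ ≃ ι) (P : GL ι F) (K : Subgroup (GL κ F))
    {g : GL κ F} (hg : g ∈ specialLinear κ F) (hgK : g ∉ K) :
    ¬ specialLinear ι F ≤ (K.map (glReindex e).toMonoidHom).map (MulAut.conj P).toMonoidHom := by
  intro hle
  have hmem : MulAut.conj P (glReindex e g) ∈ specialLinear ι F :=
    (MonoidHom.normal_ker (Matrix.GeneralLinearGroup.det : GL ι F →* Fˣ)).conj_mem _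
      ((glReindex_mem_specialLinear_iff e g).mpr hg) P
  obtain ⟨x, ⟨y, hy, rfl⟩, hx⟩ := hle hmem
  exact hgK ((glReindex e).injective ((MulAut.conj P).injective hx) ▸ hy)

lemma single_dot_single {κ : Type*} [Fintype κ] [DecidableEq κ] {i j : κ} (h : i ≠ j) :
    (Pi.single j (1 : F)) ⬝ᵥ (Pi.single i 1) = 0 := by
  rw [single_dotProduct, Pi.single_eq_of_ne h.symm, mul_zero]

lemma tv_single_apply {κ : Type} [Fintype κ] [DecidableEq κ] (i j : κ) (c : F)
    (h : (Pi.single j (1 : F)) ⬝ᵥ (Pi.single i c) = 0) (a b : κ) :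
    (tv (Pi.single i c) (Pi.single j 1) h : Matrix κ κ F) a b =
      (if a = b then 1 else 0) + (if a = i ∧ b = j then c else 0) := by
  rw [coe_tv, Matrix.add_apply, Matrix.one_apply, vecMulVec_apply, Pi.single_apply, Pi.single_apply]
  split_ifs <;> simp_all

theorem not_le_tensorProductSubgroup {n₁ n₂ : ℕ} (h1 : 2 ≤ n₁) (h2 : 2 ≤ n₂) (e : ι ≃ Fin n₁ × Fin n₂)
    (P : GL ι F) : ¬ specialLinear ι F ≤ tensorProductSubgroup n₁ n₂ e P := by
  let o₁ : Fin n₁ := ⟨0, by omega⟩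
  let l₁ : Fin n₁ := ⟨1, by omega⟩
  let o₂ : Fin n₂ := ⟨0, by omega⟩
  let l₂ : Fin n₂ := ⟨1, by omega⟩
  have ho₁ : o₁ ≠ l₁ := fun h => by simpa [o₁, l₁] using congrArg Fin.val h
  have ho₂ : o₂ ≠ l₂ := fun h => by simpa [o₂, l₂] using congrArg Fin.val h
  have hne : (o₁, o₂) ≠ (l₁, l₂) := fun h => ho₁ (congrArg Prod.fst h)
  refine not_le_conj_map e.symm P (kroneckerSubgroup n₁ n₂ F)
    (tv_mem_specialLinear (Pi.single (o₁, o₂) (1 : F)) (Pi.single (l₁, l₂) 1) (single_dot_single hne)) ?_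
  rintro ⟨a, b, hab⟩
  have hv : ∀ x y, (if x = y then (1 : F) else 0) + (if x = (o₁, o₂) ∧ y = (l₁, l₂) then 1 else 0) =
      (a : Matrix (Fin n₁) (Fin n₁) F) x.1 y.1 * (b : Matrix (Fin n₂) (Fin n₂) F) x.2 y.2 := by
    intro x y
    rw [← tv_single_apply _ _ _ (single_dot_single hne), hab, Matrix.kroneckerMap_apply]
  have e1 := hv (o₁, o₂) (l₁, l₂)
  have e2 := hv (o₁, o₂) (o₁, o₂)
  have e3 := hv (o₁, o₂) (l₁, o₂)
  simp [hne, ho₁, ho₂, Ne.symm ho₁] at e1 e2 e3
  rcases e3 with h | h <;> simp [h] at e1 e2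

/-! ### Class 5 -/

theorem not_le_subfieldSubgroup (hn : 2 ≤ Fintype.card ι) {F₀ : Subfield F} (hF : F₀ ≠ ⊤) (P : GL ι F) :
    ¬ specialLinear ι F ≤ subfieldSubgroup F₀ P := by
  intro hle
  obtain ⟨i, j, hij⟩ := Fintype.exists_pair_of_one_lt_card hn
  obtain ⟨c, hc⟩ : ∃ c, c ∉ F₀ := by
    by_contra h
    push Not at h
    exact hF (top_unique fun x _ => h x)
  have h0 : (Pi.single j (1 : F)) ⬝ᵥ (Pi.single i c : ι → F) = 0 := by
    rw [single_dotProduct, Pi.single_eq_of_ne hij.symm, mul_zero]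
  have hmem : P * tv (Pi.single i c) (Pi.single j 1) h0 * P⁻¹ ∈ specialLinear ι F :=
    (MonoidHom.normal_ker _).conj_mem _ (tv_mem_specialLinear _ _ _) P
  obtain ⟨x, hx, hxe⟩ := hle hmem
  have hxt : x = tv (Pi.single i c) (Pi.single j 1) h0 := by
    have : MulAut.conj P x = MulAut.conj P (tv (Pi.single i c) (Pi.single j 1) h0) := hxe
    exact (MulAut.conj P).injective this
  subst hxt
  rw [Subgroup.mul_normal] at hx
  obtain ⟨_, ⟨a, rfl⟩, z, hz, haz⟩ := hx
  obtain ⟨d, hd⟩ := (mem_scalars_iff z).mp hz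
  have hent : ∀ k l, (tv (Pi.single i c) (Pi.single j 1) h0 : Matrix ι ι F) k l =
      (d : F) * ((a : Matrix ι ι F₀) k l : F) := by
    intro k l
    rw [← haz, Units.val_mul, hd, Matrix.mul_smul, Matrix.mul_one, Matrix.smul_apply, smul_eq_mul]
    rfl
  have e1 := hent i i
  have e2 := hent i j
  rw [tv_single_apply] at e1 e2
  simp [hij] at e1 e2
  have hd' : (d : F)⁻¹ = ((a : Matrix ι ι F₀) i i : F) := inv_eq_of_mul_eq_one_right e1.symm
  apply hc
  rw [e2]
  refine F₀.mul_mem ?_ ((a : Matrix ι ι F₀) i j).2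
  rw [← inv_inv (d : F), hd']
  exact F₀.inv_mem ((a : Matrix ι ι F₀) i i).2

/-! ### Class 6 -/

theorem not_le_subgroupNormalizer [Finite F] (hn : 3 ≤ Fintype.card ι) {r p : ℕ} [CharP F p] (hrp : r ≠ p)
    (hr : r.Prime) {R : Subgroup (GL ι F)} (hR : IsPGroup r R) (hns : ¬ R ≤ scalars ι F) :
    ¬ specialLinear ι F ≤ subgroupNormalizer R := by
  intro hle
  haveI : Nonempty ι := Fintype.card_pos_iff.mp (by omega)
  haveI := Fact.mk (CharP.char_is_prime F p)
  haveI : CharP (Matrix ι ι F) p := inferInstance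
  obtain ⟨x, hxR, hx⟩ := SetLike.not_le_iff_exists.mp hns
  -- a vector moved off its line
  obtain ⟨v, hv⟩ : ∃ v : ι → F, (x : Matrix ι ι F) *ᵥ v ∉ Submodule.span F {v} := by
    by_contra hc
    push Not at hc
    apply hx
    have hb : ∀ k : ι, ∃ c : F, (x : Matrix ι ι F) *ᵥ Pi.single k 1 = c • Pi.single k 1 := fun k => by
      obtain ⟨c, hc'⟩ := Submodule.mem_span_singleton.mp (hc (Pi.single k 1))
      exact ⟨c, hc'.symm⟩
    choose c hc' using hb
    obtain ⟨k₀⟩ := (inferInstance : Nonempty ι)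
    have hall : ∀ k, c k = c k₀ := by
      intro k
      by_cases hk : k = k₀
      · rw [hk]
      obtain ⟨d, hd⟩ := Submodule.mem_span_singleton.mp (hc (Pi.single k 1 + Pi.single k₀ 1))
      rw [Matrix.mulVec_add, hc', hc'] at hd
      have e1 := congrFun hd k
      have e2 := congrFun hd k₀
      simp [hk, Ne.symm hk] at e1 e2
      rw [← e1, e2]
    have hxe : (x : Matrix ι ι F) = c k₀ • 1 := by
      refine Matrix.ext_of_mulVec_single fun k => ?_
      rw [hc', hall, Matrix.smul_mulVec, Matrix.one_mulVec]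
    refine (mem_scalars_iff x).mpr ⟨Units.mk0 (c k₀) fun h0 => ?_, hxe⟩
    have h1 : (x : Matrix ι ι F) * ((x⁻¹ : GL ι F) : Matrix ι ι F) = 1 := x.mul_inv
    rw [hxe, h0, zero_smul, zero_mul] at h1
    exact zero_ne_one (congrFun (congrFun h1 k₀) k₀ |>.trans (Matrix.one_apply_eq k₀))
  set u := (x : Matrix ι ι F) *ᵥ v with hu
  have hv0 : v ≠ 0 := fun h => hv (by rw [hu, h, Matrix.mulVec_zero]; exact Submodule.zero_mem _)
  obtain ⟨y₀, hy₀⟩ := exists_notMem_of_finrank_lt
    (lt_of_le_of_lt (finrank_span_pair_le v u) (show 2 < Fintype.card ι by omega))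
  obtain ⟨φ, hφy, hφ⟩ := exists_dot hy₀
  have hφv : φ ⬝ᵥ v = 0 := hφ v (Submodule.subset_span (by simp))
  have hφu : φ ⬝ᵥ u = 0 := hφ u (Submodule.subset_span (by simp))
  set t := tv v φ hφv with ht
  set N := vecMulVec v φ with hN
  set N' := (x : Matrix ι ι F) * N * ((x⁻¹ : GL ι F) : Matrix ι ι F) with hN'
  set y := t * x * t⁻¹ * x⁻¹ with hy
  have hyR : y ∈ R := R.mul_mem ((Subgroup.mem_normalizer_iff.mp (hle (tv_mem_specialLinear v φ hφv)) x).mp hxR) (R.inv_mem hxR)
  have hyv : (y : Matrix ι ι F) = (1 + N) * (1 - N') := by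
    rw [hy, Units.val_mul, Units.val_mul, Units.val_mul, coe_tv, coe_tv_inv, hN']
    simp only [hN, mul_sub, sub_mul, mul_one, Units.mul_inv, mul_assoc]
  have hNN : N * N = 0 := by rw [hN, vecMulVec_mul_vecMulVec, hφv]; simp
  have hNN' : N * N' = 0 := by
    rw [hN', ← mul_assoc, ← mul_assoc, hN, vecMulVec_mul, vecMulVec_mul_vecMulVec,
      ← Matrix.dotProduct_mulVec, ← hu, hφu]
    simp
  have hN'N' : N' * N' = 0 := by
    calc N' * N' = (x : Matrix ι ι F) * (N * (((x⁻¹ : GL ι F) : Matrix ι ι F) * (x : Matrix ι ι F)) * N) *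
          ((x⁻¹ : GL ι F) : Matrix ι ι F) := by rw [hN']; simp only [mul_assoc]
      _ = 0 := by rw [Units.inv_mul, mul_one, hNN, mul_zero, zero_mul]
  set M := N - N' with hM
  have hM3 : M ^ 3 = 0 := by
    have e : M ^ 3 = N * N * N - N * N * N' - N * N' * N + (N * N') * N' - N' * (N * N) + N' * (N * N') + (N' * N') * N - (N' * N') * N' := by
      rw [hM]; noncomm_ring
    rw [e, hNN, hNN', hN'N']; simp
  have hy1 : y = 1 := by
    have hpow : (y : Matrix ι ι F) ^ (p ^ 2) = 1 := by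
      rw [hyv, show (1 + N) * (1 - N') = 1 + M by rw [hM, mul_sub, mul_one, add_mul, one_mul, hNN', add_zero]; abel,
        add_pow_char_pow_of_commute (p := p) (n := 2) (Commute.one_left M), one_pow]
      obtain ⟨k, hk⟩ : ∃ k, p ^ 2 = k + 3 := ⟨p ^ 2 - 3, by
        have := Nat.pow_le_pow_left (Fact.out : p.Prime).two_le 2
        omega⟩
      rw [hk, pow_add, hM3, mul_zero, add_zero]
    have h1 : orderOf y ∣ p ^ 2 := orderOf_dvd_of_pow_eq_one (Units.ext (by rw [Units.val_pow_eq_pow_val]; exact hpow))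
    obtain ⟨k, hk⟩ := hR ⟨y, hyR⟩
    have h2 : orderOf y ∣ r ^ k := orderOf_dvd_of_pow_eq_one (congrArg Subtype.val hk)
    have hco : Nat.Coprime (p ^ 2) (r ^ k) :=
      Nat.Coprime.pow _ _ ((Nat.coprime_primes (Fact.out : p.Prime) hr).mpr hrp.symm)
    exact orderOf_eq_one_iff.mp (Nat.eq_one_of_dvd_coprimes hco h1 h2)
  have hcomm : t * x = x * t := by
    rw [hy] at hy1
    have := mul_inv_eq_one.mp hy1
    exact mul_inv_eq_iff_eq_mul.mp this
  have h3 := congrArg (fun g : GL ι F => (g : Matrix ι ι F)) hcomm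
  simp only [Units.val_mul, coe_tv, ht, add_mul, one_mul, mul_add, mul_one, add_right_inj] at h3
  -- the line of `v` is preserved
  apply hv
  have h4 := congrArg (fun A : Matrix ι ι F => A *ᵥ y₀) h3
  simp only [← Matrix.mulVec_mulVec, vecMulVec_mulVec, op_smul_eq_smul, hφy, one_smul] at h4
  rw [hu, ← h4]
  exact Submodule.smul_mem _ _ (Submodule.mem_span_singleton_self v)

/-! ### Class 7 -/

theorem mem_tensorWreathStandard [Finite F] {m t : ℕ} {g : GL (Fin t → Fin m) F}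
    (hg : g ∈ tensorWreathStandard m t F) :
    ∃ (σ : Equiv.Perm (Fin t)) (a : Fin t → Matrix (Fin m) (Fin m) F),
      ∀ x y, (g : Matrix (Fin t → Fin m) (Fin t → Fin m) F) x y = ∏ i, a i (x i) (y (σ i)) := by
  classical
  let P : Set (GL (Fin t → Fin m) F) := {g | ∃ (σ : Equiv.Perm (Fin t)) (a : Fin t → Matrix (Fin m) (Fin m) F),
      ∀ x y, (g : Matrix (Fin t → Fin m) (Fin t → Fin m) F) x y = ∏ i, a i (x i) (y (σ i))}
  have hone : (1 : GL (Fin t → Fin m) F) ∈ P := by
    refine ⟨1, fun _ => 1, fun x y => ?_⟩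
    rw [Units.val_one]
    by_cases h : x = y
    · subst h
      rw [Matrix.one_apply_eq]
      exact (Finset.prod_eq_one fun i _ => Matrix.one_apply_eq _).symm
    · obtain ⟨i, hi⟩ := Function.ne_iff.mp h
      rw [Matrix.one_apply_ne h]
      exact (Finset.prod_eq_zero (f := fun i => (1 : Matrix (Fin m) (Fin m) F) (x i) (y i))
        (Finset.mem_univ i) (Matrix.one_apply_ne hi)).symm
  have hmul : ∀ g h, g ∈ P → h ∈ P → g * h ∈ P := by
    rintro g h ⟨σ, a, ha⟩ ⟨τ, b, hb⟩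
    refine ⟨τ * σ, fun i => a i * b (σ i), fun x y => ?_⟩
    rw [Units.val_mul, Matrix.mul_apply]
    simp only [ha, hb, Equiv.Perm.mul_apply, Matrix.mul_apply]
    rw [Fintype.prod_sum]
    refine Fintype.sum_equiv (Equiv.arrowCongr σ.symm (Equiv.refl (Fin m))) _ _ fun z => ?_
    rw [Finset.prod_mul_distrib]
    simp only [Equiv.arrowCongr_apply, Equiv.symm_symm, Equiv.coe_refl, Function.comp_apply, id_eq]
    congr 1
    exact (Equiv.prod_comp σ (fun i => b i (z i) (y (τ i)))).symm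
  have hpow : ∀ g ∈ P, ∀ k : ℕ, g ^ k ∈ P := by
    intro g hg k
    induction k with
    | zero => simpa using hone
    | succ k ih => rw [pow_succ]; exact hmul _ _ ih hg
  show g ∈ P
  induction hg using Subgroup.closure_induction with
  | mem g hg =>
    rcases hg with ⟨gs, hgs⟩ | ⟨σ, hσ⟩
    · exact ⟨1, fun i => gs i, hgs⟩
    · refine ⟨σ⁻¹, fun _ => 1, fun x y => ?_⟩
      rw [hσ]
      split_ifs with h
      · subst h
        refine (Finset.prod_eq_one fun i _ => ?_).symm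
        rw [Function.comp_apply, Equiv.Perm.inv_def, Equiv.apply_symm_apply]
        exact Matrix.one_apply_eq _
      · obtain ⟨i, hi⟩ := Function.ne_iff.mp h
        refine (Finset.prod_eq_zero (f := fun j => (1 : Matrix (Fin m) (Fin m) F) (x j) (y (σ⁻¹ j)))
          (Finset.mem_univ (σ i)) (Matrix.one_apply_ne fun hh => hi ?_)).symm
        simpa using hh.symm
  | one => exact hone
  | mul g h _ _ hg hh => exact hmul g h hg hh
  | inv g _ hg =>
    have h : g⁻¹ = g ^ (orderOf g - 1) := by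
      refine inv_eq_of_mul_eq_one_right ?_
      rw [← pow_succ', Nat.sub_add_cancel (orderOf_pos g), pow_orderOf_eq_one]
    rw [h]
    exact hpow g hg _

theorem not_le_tensorWreathSubgroup [Finite F] {m t : ℕ} (hm : 2 ≤ m) (ht : 2 ≤ t) (e : ι ≃ (Fin t → Fin m)) (P : GL ι F) :
    ¬ specialLinear ι F ≤ tensorWreathSubgroup m t e P := by
  let o : Fin m := ⟨0, by omega⟩
  let l : Fin m := ⟨1, hm⟩
  have hol : o ≠ l := fun h => by simpa [o, l] using congrArg Fin.val h
  let x₀ : Fin t → Fin m := fun _ => o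
  let y₀ : Fin t → Fin m := fun _ => l
  have hne : x₀ ≠ y₀ := fun h => hol (congrFun h ⟨0, by omega⟩)
  refine not_le_conj_map e.symm P (tensorWreathStandard m t F)
    (tv_mem_specialLinear (Pi.single x₀ (1 : F)) (Pi.single y₀ 1) (single_dot_single hne)) fun hmem => ?_
  obtain ⟨σ, a, ha⟩ := mem_tensorWreathStandard hmem
  have h1 := ha x₀ y₀
  have h2 := ha x₀ x₀
  rw [tv_single_apply] at h1 h2
  simp [hne] at h1 h2
  let i₀ : Fin t := ⟨0, by omega⟩
  let y : Fin t → Fin m := Function.update x₀ (σ i₀) l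
  have hy1 : y ≠ x₀ := fun h => hol (by simpa [y, x₀] using (congrFun h (σ i₀)).symm)
  have hy2 : y ≠ y₀ := by
    intro h
    obtain ⟨j, hj⟩ : ∃ j, j ≠ σ i₀ := by
      haveI : Nontrivial (Fin t) := Fin.nontrivial_iff_two_le.mpr ht
      exact exists_ne _
    exact hol (by simpa [y, y₀, x₀, Function.update_of_ne hj] using congrFun h j)
  have h3 := ha x₀ y
  rw [tv_single_apply, if_neg (Ne.symm hy1), if_neg (fun h => hy2 h.2), add_zero] at h3
  obtain ⟨i, -, hi⟩ := Finset.prod_eq_zero_iff.mp h3.symm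
  by_cases hii : i = i₀
  · subst hii
    simp [y, x₀] at hi
    exact (Finset.prod_ne_zero_iff.mp (h1 ▸ one_ne_zero) i₀ (Finset.mem_univ _)) hi
  · have : y (σ i) = o := Function.update_of_ne (σ.injective.ne hii) _ _
    rw [this] at hi
    exact (Finset.prod_ne_zero_iff.mp (h2 ▸ one_ne_zero) i (Finset.mem_univ _)) hi

/-! ### Class 8 -/

theorem not_le_similarityGroup (hn : 3 ≤ Fintype.card ι) (σ : F →+* F) {f : (ι → F) → (ι → F) → F}
    (hadd : ∀ x y v, f (x + y) v = f x v + f y v) (hsmul : ∀ (c : F) (x v : ι → F), f (c • x) v = c * f x v)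
    (hadd' : ∀ v x y, f v (x + y) = f v x + f v y) (hsmul' : ∀ (c : F) (v x : ι → F), f v (c • x) = σ c * f v x)
    (hnd : IsNondegenerateForm f) : ¬ specialLinear ι F ≤ similarityGroup f := by
  intro hle
  haveI : Nonempty ι := Fintype.card_pos_iff.mp (by omega)
  let z₀ : ι → F := Pi.single (Classical.arbitrary ι) 1
  have hz₀ : z₀ ≠ 0 := by simp [z₀]
  -- two vectors of a hyperplane with non-zero value, and a transvection with that axis
  obtain ⟨u, hu⟩ := (hnd z₀ hz₀).1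
  obtain ⟨y, hy⟩ := exists_notMem_of_finrank_lt
    (lt_of_le_of_lt (finrank_span_pair_le u z₀) (show 2 < Fintype.card ι by omega))
  obtain ⟨φ, hφy, hφ⟩ := exists_dot hy
  have hφz : φ ⬝ᵥ z₀ = 0 := hφ _ (Submodule.subset_span (by simp))
  have hφu : φ ⬝ᵥ u = 0 := hφ _ (Submodule.subset_span (by simp))
  obtain ⟨c, hc⟩ := hle (tv_mem_specialLinear z₀ φ hφz)
  have hc1 : (c : F) = 1 := by
    have h := hc u z₀
    simp only [tv_mulVec, hφu, hφz, zero_smul, add_zero] at h
    exact mul_right_cancel₀ hu (by rw [one_mul, ← h])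
  have h := hc u y
  simp only [tv_mulVec, hφu, hφy, zero_smul, add_zero, hc1, one_mul, hadd', hsmul', map_one] at h
  exact hu (by simpa using h)

theorem not_le_similarityGroup_bilinear (hn : 3 ≤ Fintype.card ι) {f : (ι → F) → (ι → F) → F}
    (hb : IsBilinearForm f) (hnd : IsNondegenerateForm f) : ¬ specialLinear ι F ≤ similarityGroup f :=
  not_le_similarityGroup hn (RingHom.id F) hb.add_left hb.smul_left hb.add_right hb.smul_right hnd

theorem not_le_similarityGroup_unitary (hn : 3 ≤ Fintype.card ι) {σ : F ≃+* F} {f : (ι → F) → (ι → F) → F}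
    (hf : IsUnitaryForm σ f) : ¬ specialLinear ι F ≤ similarityGroup f := by
  refine not_le_similarityGroup hn σ.toRingHom hf.add_left hf.smul_left (fun v x y => ?_) (fun c v x => ?_) hf.nondegenerate
  · rw [hf.herm, hf.add_left, map_add, ← hf.herm, ← hf.herm]
  · rw [hf.herm, hf.smul_left, map_mul, ← hf.herm]; rfl

theorem quadSimilarityGroup_le {Q : (ι → F) → F} :
    quadSimilarityGroup Q ≤ similarityGroup (QuadraticMap.polar Q) := by
  rintro g ⟨c, hc⟩
  refine ⟨c, fun u v => ?_⟩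
  simp only [QuadraticMap.polar, ← Matrix.mulVec_add, hc]
  ring

theorem not_le_quadSimilarityGroup (hn : 3 ≤ Fintype.card ι) {Q : (ι → F) → F}
    (hQ : IsNondegenerateQuadraticForm Q) : ¬ specialLinear ι F ≤ quadSimilarityGroup Q :=
  fun h => not_le_similarityGroup_bilinear hn hQ.polar_bilinear hQ.nondegenerate (h.trans quadSimilarityGroup_le)

end Cfsg.Agent.Lib.MaxClass
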