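import Mathlib

/-!
A finite 2-group of exponent four with centre of order two, all of whose characteristic abelian subgroups
are cyclic, has class at most two.
-/

set_option autoImplicit false
set_option linter.style.haveILetI false

namespace Cfsg.Agent.Lib.MaxClass

variable {P : Type*} [Group P]

/-- In a group of exponent four no commutator `a` of two elements, the first centralising it and the second
inverting or centralising it, has order four. -/
lemma sq_eq_one_of_commutator {x y a : P} (hexp : ∀ g : P, g ^ 4 = 1) (hxy : x * y = a * y * x)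
    (hxa : Commute x a) (hy : Commute y a ∨ y * a * y⁻¹ = a⁻¹) : a * a = 1 := by
  have hconj : x * y * x⁻¹ = a * y := by rw [hxy, mul_inv_cancel_right]
  rcases hy with hy | hy
  · -- both centralise
    have h1 : x * (y * y) * x⁻¹ = (a * y) * (a * y) := by rw [← hconj]; group
    have h2 : (a * y) * (a * y) = (a * a) * (y * y) := by
      rw [mul_assoc a y, ← mul_assoc y a, hy.eq]; group
    have h4 : (a * a) * (a * a) = 1 := by
      rw [← pow_two, ← pow_two, ← pow_mul]; exact hexp a
    have hxa2 : x * (a * a) * x⁻¹ = a * a := by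
      rw [(hxa.mul_right hxa).eq, mul_inv_cancel_right]
    have h3 : Commute (x * x) (y * y) := by
      have e : x * (x * (y * y) * x⁻¹) * x⁻¹ = y * y := by
        rw [h1, h2, show x * (a * a * (y * y)) * x⁻¹ = (x * (a * a) * x⁻¹) * (x * (y * y) * x⁻¹) by group,
          hxa2, h1, h2, ← mul_assoc, h4, one_mul]
      show x * x * (y * y) = y * y * (x * x)
      calc x * x * (y * y) = (x * (x * (y * y) * x⁻¹) * x⁻¹) * (x * x) := by group
        _ = y * y * (x * x) := by rw [e]
    have hsq : (y * x) * (y * x) = a * (y * y * (x * x)) := by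
      calc (y * x) * (y * x) = y * (x * y) * x := by group
        _ = y * (a * y * x) * x := by rw [hxy]
        _ = (y * a) * y * (x * x) := by group
        _ = a * (y * y * (x * x)) := by rw [hy.eq]; group
    have hac : Commute a (y * y * (x * x)) :=
      (hy.symm.mul_right hy.symm).mul_right (hxa.symm.mul_right hxa.symm)
    have h5 := hexp (y * x)
    rw [show (4 : ℕ) = 2 * 2 from rfl, pow_mul, pow_two (y * x), hsq, hac.mul_pow, h3.symm.mul_pow,
      pow_two (y * y), pow_two (x * x), ← pow_two y, ← pow_two x, ← pow_add, ← pow_add, hexp, hexp, mul_one,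
      mul_one, pow_two] at h5
    exact h5
  · -- the second inverts
    have hyx : y * x * y⁻¹ = a⁻¹ * x := by
      have e : y * x⁻¹ * y⁻¹ = x⁻¹ * a := by
        calc y * x⁻¹ * y⁻¹ = x⁻¹ * (x * y * x⁻¹) * y⁻¹ := by group
          _ = x⁻¹ * a := by rw [hconj]; group
      have := congrArg (·⁻¹) e
      simpa [mul_assoc] using this
    have hy2 : (y * y) * x * (y * y)⁻¹ = x := by
      calc (y * y) * x * (y * y)⁻¹ = y * (y * x * y⁻¹) * y⁻¹ := by group
        _ = y * (a⁻¹ * x) * y⁻¹ := by rw [hyx]
        _ = (y * a⁻¹ * y⁻¹) * (y * x * y⁻¹) := by group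
        _ = a * (a⁻¹ * x) := by
          rw [hyx, show y * a⁻¹ * y⁻¹ = (y * a * y⁻¹)⁻¹ by group, hy, inv_inv]
        _ = x := mul_inv_cancel_left a x
    have hcx : Commute (y * y) x := by
      show y * y * x = x * (y * y)
      calc y * y * x = ((y * y) * x * (y * y)⁻¹) * (y * y) := by group
        _ = x * (y * y) := by rw [hy2]
    have hay2 : Commute (y * y) a := by
      show y * y * a = a * (y * y)
      calc y * y * a = (y * (y * a * y⁻¹) * y⁻¹) * (y * y) := by group
        _ = y * a⁻¹ * y⁻¹ * (y * y) := by rw [hy]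
        _ = ((y * a * y⁻¹)⁻¹) * (y * y) := by group
        _ = a * (y * y) := by rw [hy, inv_inv]
    have hsq : (y * x) * (y * x) = a⁻¹ * ((x * x) * (y * y)) := by
      calc (y * x) * (y * x) = (y * x * y⁻¹) * (y * y * x) := by group
        _ = a⁻¹ * x * (x * (y * y)) := by rw [hyx, hcx.eq]
        _ = a⁻¹ * ((x * x) * (y * y)) := by group
    have hac : Commute a⁻¹ ((x * x) * (y * y)) :=
      ((hxa.symm.mul_right hxa.symm).mul_right hay2.symm).inv_left
    have h5 := hexp (y * x)
    rw [show (4 : ℕ) = 2 * 2 from rfl, pow_mul, pow_two (y * x), hsq, hac.mul_pow,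
      (hcx.symm.mul_left hcx.symm).mul_pow, pow_two (y * y), pow_two (x * x), ← pow_two y, ← pow_two x, ← pow_add,
      ← pow_add, hexp, hexp, mul_one, mul_one, pow_two, ← mul_inv_rev, inv_eq_one] at h5
    exact h5

/-- Class at most two. -/
theorem commutator_le_center_of_exponent_four [Finite P] (hP : IsPGroup 2 P)
    (hc : ∀ A : Subgroup P, A.Characteristic → IsMulCommutative A → IsCyclic A)
    (hexp : Monoid.exponent P ∣ 4) (hz : Nat.card (Subgroup.center P) = 2) :
    commutator P ≤ Subgroup.center P := by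
  classical
  haveI : Fact (Nat.Prime 2) := ⟨Nat.prime_two⟩
  have h4 : ∀ g : P, g ^ 4 = 1 := fun g => Monoid.exponent_dvd_iff_forall_pow_eq_one.mp hexp g
  haveI : Group.IsNilpotent P := hP.isNilpotent
  set Z := Subgroup.center P with hZ
  set γ := fun n => (⊤ : Subgroup P).lowerCentralSeries n with hγdef
  have hex : ∃ n, γ n ≤ Z := by
    obtain ⟨n, hn⟩ := Subgroup.nilpotent_iff_lowerCentralSeries.mp (inferInstance : Group.IsNilpotent P)
    exact ⟨n, by rw [hγdef]; simp only; rw [hn]; exact bot_le⟩
  by_contra hne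
  rw [← Subgroup.top_lowerCentralSeries_one] at hne
  have hn2 : 2 ≤ Nat.find hex := by
    by_contra h
    have := Nat.find_spec hex
    exact hne ((Subgroup.lowerCentralSeries_antitone _ (by omega : Nat.find hex ≤ 1)).trans this)
  obtain ⟨k, hk⟩ : ∃ k, Nat.find hex = k + 2 := ⟨Nat.find hex - 2, by omega⟩
  have hnot : ¬ γ (k + 1) ≤ Z := Nat.find_min hex (by omega)
  have hlast : γ (k + 2) ≤ Z := hk ▸ Nat.find_spec hex
  -- the last term outside the centre lies in the second centre
  have hZ2 : ∀ z ∈ γ (k + 1), ∀ g : P, z * g * z⁻¹ * g⁻¹ ∈ Z := fun z hz g =>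
    hlast (Subgroup.commutator_mem_commutator hz (Subgroup.mem_top g))
  have hcomm : ∀ z ∈ γ (k + 1), ∀ d ∈ commutator P, z * d = d * z := by
    intro z hz
    let f : P →* Z :=
      { toFun := fun g => ⟨z * g * z⁻¹ * g⁻¹, hZ2 z hz g⟩
        map_one' := Subtype.ext (by simp)
        map_mul' := fun g h => Subtype.ext (by
          show z * (g * h) * z⁻¹ * (g * h)⁻¹ = z * g * z⁻¹ * g⁻¹ * (z * h * z⁻¹ * h⁻¹)
          have hcen := Subgroup.mem_center_iff.mp (hZ2 z hz h) g⁻¹
          rw [mul_assoc (z * g * z⁻¹) g⁻¹ (z * h * z⁻¹ * h⁻¹), hcen]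
          group) }
    intro d hd
    have hle : commutator P ≤ f.ker := by
      rw [commutator_def, Subgroup.commutator_le]
      intro a _ b _
      rw [MonoidHom.mem_ker, map_commutatorElement, commutatorElement_def]
      apply Subtype.ext
      show (f a : P) * f b * (f a : P)⁻¹ * (f b : P)⁻¹ = 1
      rw [← Subgroup.mem_center_iff.mp (f a).2 (f b : P)]
      group
    have h1 : z * d * z⁻¹ * d⁻¹ = 1 := congrArg Subtype.val (MonoidHom.mem_ker.mp (hle hd))
    exact mul_inv_eq_iff_eq_mul.mp (mul_inv_eq_one.mp h1)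
  have hγle : γ (k + 1) ≤ commutator P := by
    rw [← Subgroup.top_lowerCentralSeries_one]
    exact Subgroup.lowerCentralSeries_antitone _ (by omega)
  set B := γ (k + 1) ⊔ Z with hB
  have hBcomm : IsMulCommutative B := by
    constructor
    constructor
    intro a b
    apply Subtype.ext
    have h : B ≤ Subgroup.centralizer (B : Set P) := by
      refine sup_le ?_ ?_
      · intro u hu
        rw [Subgroup.mem_centralizer_iff]
        intro y hy
        obtain ⟨c, hc', d, hd', rfl⟩ := Subgroup.mem_sup_of_normal_right.mp hy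
        calc c * d * u = c * (d * u) := mul_assoc _ _ _
          _ = c * (u * d) := by rw [← Subgroup.mem_center_iff.mp hd' u]
          _ = (c * u) * d := (mul_assoc _ _ _).symm
          _ = (u * c) * d := by rw [hcomm c hc' u (hγle hu)]
          _ = u * (c * d) := mul_assoc _ _ _
      · exact fun u hu => Subgroup.mem_centralizer_iff.mpr fun y _ => Subgroup.mem_center_iff.mp hu y
    exact Subgroup.mem_centralizer_iff.mp (h b.2) a a.2
  have hBchar : B.Characteristic := by
    haveI : Z.Characteristic := by rw [hZ]; infer_instance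
    haveI : (γ (k + 1)).Characteristic := by rw [hγdef]; infer_instance
    rw [Subgroup.characteristic_iff_map_le]
    intro φ
    rw [hB, Subgroup.map_sup]
    exact sup_le_sup ((Subgroup.characteristic_iff_map_le.mp (inferInstance : (γ (k + 1)).Characteristic)) φ)
      ((Subgroup.characteristic_iff_map_le.mp (inferInstance : Z.Characteristic)) φ)
  haveI := hc B hBchar hBcomm
  haveI : B.Normal := Subgroup.normal_of_characteristic B
  have hBcard : Nat.card B = 4 := by
    have h1 : Nat.card B ∣ 4 := by
      rw [← IsCyclic.exponent_eq_card]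
      exact (Monoid.exponent_dvd_of_monoidHom B.subtype B.subtype_injective).trans hexp
    have h2 : Nat.card Z < Nat.card B := by
      refine lt_of_le_of_ne (Nat.le_of_dvd Nat.card_pos (Subgroup.card_dvd_of_le le_sup_right)) fun h => hnot ?_
      have : (Z : Set P) = B := Set.eq_of_subset_of_ncard_le (le_sup_right : Z ≤ B) (by
        rw [← Nat.card_coe_set_eq, ← Nat.card_coe_set_eq]; exact h.symm.le) (Set.toFinite _)
      rw [SetLike.coe_injective this]
      exact le_sup_left
    have h3 := Nat.le_of_dvd (by norm_num) h1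
    rw [hz] at h2
    interval_cases hB4 : Nat.card B
    · norm_num at h1
    · rfl
  -- a commutator of order four
  obtain ⟨x, y, ha, haZ⟩ : ∃ x y : P, x * y * x⁻¹ * y⁻¹ ∈ γ (k + 1) ∧ x * y * x⁻¹ * y⁻¹ ∉ Z := by
    by_contra hcon
    push Not at hcon
    apply hnot
    show (⊤ : Subgroup P).lowerCentralSeries (k + 1) ≤ Z
    rw [Subgroup.lowerCentralSeries_succ, Subgroup.commutator_def, Subgroup.closure_le]
    rintro g ⟨u, hu, v, -, rfl⟩
    have hmem : u * v * u⁻¹ * v⁻¹ ∈ γ (k + 1) :=
      Subgroup.commutator_mem_commutator (by exact hu) (Subgroup.mem_top v)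
    exact hcon u v hmem
  obtain ⟨a, haeq⟩ : ∃ a, a = x * y * x⁻¹ * y⁻¹ := ⟨_, rfl⟩
  rw [← haeq] at ha haZ
  have haB : a ∈ B := Subgroup.mem_sup_left ha
  have hord : orderOf a = 4 := by
    have h1 : orderOf a ∣ 4 := orderOf_dvd_of_pow_eq_one (h4 a)
    have h2 := Nat.le_of_dvd (by norm_num) h1
    have h3 := orderOf_pos a
    interval_cases h : orderOf a
    · exact absurd (orderOf_eq_one_iff.mp h ▸ Z.one_mem) haZ
    · -- the unique involution of `B` is central
      exfalso
      obtain ⟨w, hw, hw2⟩ : ∃ w ∈ Z, orderOf w = 2 := by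
        obtain ⟨w, hw⟩ := exists_prime_orderOf_dvd_card' (G := Z) 2 (by rw [hz])
        exact ⟨w, w.2, by rw [Subgroup.orderOf_coe]; exact hw⟩
      haveI : Fintype B := Fintype.ofFinite B
      have h3 := IsCyclic.card_pow_eq_one_le (α := B) (n := 2) two_pos
      let a' : B := ⟨a, haB⟩
      let w' : B := ⟨w, Subgroup.mem_sup_right hw⟩
      have hsub : ({1, a', w'} : Finset B) ⊆ Finset.univ.filter (fun u : B => u ^ 2 = 1) := by
        intro u hu
        simp only [Finset.mem_insert, Finset.mem_singleton] at hu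
        rw [Finset.mem_filter]
        refine ⟨Finset.mem_univ _, ?_⟩
        rcases hu with rfl | rfl | rfl
        · exact one_pow _
        · exact Subtype.ext (h ▸ pow_orderOf_eq_one a : a ^ 2 = 1)
        · exact Subtype.ext (hw2 ▸ pow_orderOf_eq_one w : w ^ 2 = 1)
      have h1a : (1 : B) ≠ a' := fun e => haZ (by rw [show a = 1 from (congrArg Subtype.val e).symm]; exact Z.one_mem)
      have haw : a' ≠ w' := fun e => haZ (by rw [show a = w from congrArg Subtype.val e]; exact hw)
      have h1w : (1 : B) ≠ w' := fun e => by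
        rw [show w = 1 from (congrArg Subtype.val e).symm, orderOf_one] at hw2
        norm_num at hw2
      have hc3 : ({1, a', w'} : Finset B).card = 3 :=
        Finset.card_eq_three.mpr ⟨1, a', w', h1a, h1w, haw, rfl⟩
      have := (Finset.card_le_card hsub).trans h3
      omega
    · norm_num at h1
    · rfl
  have hBz : ∀ u ∈ B, u ∈ Subgroup.zpowers a := by
    intro u hu
    have : Subgroup.zpowers a = B := by
      apply SetLike.coe_injective
      refine Set.eq_of_subset_of_ncard_le (Subgroup.zpowers_le.mpr haB) ?_ (Set.toFinite _)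
      rw [← Nat.card_coe_set_eq, ← Nat.card_coe_set_eq]
      show Nat.card B ≤ Nat.card (Subgroup.zpowers a)
      rw [hBcard, Nat.card_zpowers, hord]
    rwa [this]
  have hconj : ∀ g : P, Commute g a ∨ g * a * g⁻¹ = a⁻¹ := by
    intro g
    obtain ⟨j, hj⟩ := Subgroup.mem_zpowers_iff.mp (hBz _ (‹B.Normal›.conj_mem a haB g))
    have hjmod : a ^ j = a ^ (j % 4) := by
      rw [← zpow_mod_orderOf a j, hord]; norm_num
    have hordj : orderOf (a ^ j) = 4 := by
      rw [hj, ← hord]
      exact orderOf_injective (MulAut.conj g).toMonoidHom (MulAut.conj g).injective a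
    have h0 : 0 ≤ j % 4 := Int.emod_nonneg _ (by norm_num)
    have h1 : j % 4 < 4 := Int.emod_lt_of_pos _ (by norm_num)
    interval_cases hm : j % 4
    · rw [hjmod, zpow_zero, orderOf_one] at hordj; norm_num at hordj
    · left
      rw [hjmod, zpow_one] at hj
      exact mul_inv_eq_iff_eq_mul.mp hj.symm
    · rw [hjmod, show (2 : ℤ) = ((2 : ℕ) : ℤ) from rfl, zpow_natCast, orderOf_pow' a two_ne_zero, hord] at hordj
      norm_num at hordj
    · right
      rw [← hj, hjmod, show (3 : ℤ) = ((3 : ℕ) : ℤ) from rfl, zpow_natCast, eq_inv_iff_mul_eq_one, ← pow_succ, h4]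
  have key : ¬ a * a = 1 := by
    intro h
    have := orderOf_dvd_of_pow_eq_one (show a ^ 2 = 1 by rw [pow_two]; exact h)
    rw [hord] at this
    norm_num at this
  have hxy : x * y = a * y * x := by rw [haeq]; group
  rcases hconj x with hx | hx
  · exact key (sq_eq_one_of_commutator h4 hxy hx (hconj y))
  rcases hconj y with hy | hy
  · -- reversed
    apply key
    have h1 := sq_eq_one_of_commutator h4 (show y * x = a⁻¹ * x * y by rw [haeq]; group) hy.inv_right
      (Or.inr (by rw [show x * a⁻¹ * x⁻¹ = (x * a * x⁻¹)⁻¹ by group, hx, inv_inv]))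
    rwa [← mul_inv_rev, inv_eq_one] at h1
  · -- replace `y` by `x y`
    apply key
    have hcxy : Commute (x * y) a := by
      show x * y * a = a * (x * y)
      calc x * y * a = x * (y * a * y⁻¹) * x⁻¹ * (x * y) := by group
        _ = x * a⁻¹ * x⁻¹ * (x * y) := by rw [hy]
        _ = (x * a * x⁻¹)⁻¹ * (x * y) := by group
        _ = a * (x * y) := by rw [hx, inv_inv]
    have e : x * y * x = (x * a * x⁻¹)⁻¹ * x * (x * y) := by rw [haeq]; group
    rw [hx, inv_inv] at e
    exact sq_eq_one_of_commutator h4 e hcxy (Or.inr hx)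

end Cfsg.Agent.Lib.MaxClass
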