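import Mathlib
import Cfsg.Prelude.Def_GeometricClasses
import Cfsg.Agent.Lib.Aschbacher.Linear

/-!
Stabilisers of decompositions into lines or planes over very small fields: they fix a vector or
consist of similarities of a form.
-/

set_option autoImplicit false
set_option linter.style.haveILetI false

namespace Cfsg.Agent.Lib.MaxClass

open Cfsg Cfsg.Geo Matrix Equiv
open Cfsg.Agent.Lib.Aschbacher

section BlockMono

variable {R : Type*} [CommRing R] {t m : ℕ}

/-- The matrix permuting `t` blocks of size `m` according to `σ`, with blocks `B`. -/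
def blockMono (σ : Perm (Fin t)) (B : Fin t → Matrix (Fin m) (Fin m) R) :
    Matrix (Fin t × Fin m) (Fin t × Fin m) R :=
  Matrix.of fun x y => if x.1 = σ y.1 then B y.1 x.2 y.2 else 0

lemma blockMono_apply (σ : Perm (Fin t)) (B : Fin t → Matrix (Fin m) (Fin m) R) (x y : Fin t × Fin m) :
    blockMono σ B x y = if x.1 = σ y.1 then B y.1 x.2 y.2 else 0 := rfl

lemma blockMono_one : blockMono (1 : Perm (Fin t)) (fun _ => (1 : Matrix (Fin m) (Fin m) R)) = 1 := by
  ext ⟨i, a⟩ ⟨j, b⟩
  by_cases h : i = j <;> simp [blockMono_apply, Matrix.one_apply, h]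

lemma blockMono_mul (σ τ : Perm (Fin t)) (B C : Fin t → Matrix (Fin m) (Fin m) R) :
    blockMono σ B * blockMono τ C = blockMono (σ * τ) (fun i => B (τ i) * C i) := by
  ext x y
  rw [Matrix.mul_apply, Fintype.sum_prod_type, Finset.sum_eq_single (τ y.1)]
  · by_cases h : x.1 = σ (τ y.1)
    · simp [blockMono_apply, h, Matrix.mul_apply]
    · simp [blockMono_apply, h]
  · intro i _ hi
    simp [blockMono_apply, hi]
  · simp

lemma blockMono_transpose (σ : Perm (Fin t)) (B : Fin t → Matrix (Fin m) (Fin m) R) :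
    (blockMono σ B)ᵀ = blockMono σ⁻¹ (fun i => (B (σ⁻¹ i))ᵀ) := by
  ext x y
  rw [Matrix.transpose_apply, blockMono_apply, blockMono_apply]
  by_cases h : y.1 = σ x.1
  · rw [if_pos h, if_pos (by rw [h]; simp), Matrix.transpose_apply]
    simp [h]
  · rw [if_neg h, if_neg]
    intro hc
    exact h (by rw [hc]; simp)

lemma blockMono_map {S : Type*} [CommRing S] (f : R →+* S) (σ : Perm (Fin t))
    (B : Fin t → Matrix (Fin m) (Fin m) R) :
    (blockMono σ B).map f = blockMono σ (fun i => (B i).map f) := by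
  ext x y
  by_cases h : x.1 = σ y.1 <;> simp [blockMono_apply, h]

lemma blockMono_smul (c : R) (σ : Perm (Fin t)) (B : Fin t → Matrix (Fin m) (Fin m) R) :
    blockMono σ (fun i => c • B i) = c • blockMono σ B := by
  ext x y
  by_cases h : x.1 = σ y.1 <;> simp [blockMono_apply, h]

lemma blockMono_det (σ : Perm (Fin t)) (B : Fin t → Matrix (Fin m) (Fin m) R) :
    (blockMono σ B).det = ((Perm.sign σ : ℤ) : R) ^ m * ∏ i, (B i).det := by
  have h1 : blockMono σ B =
      ((Matrix.blockDiagonal B).submatrix (Equiv.prodComm (Fin t) (Fin m)) (Equiv.prodComm (Fin t) (Fin m))).submatrix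
        (prodCongrLeft fun _ : Fin m => σ⁻¹) id := by
    ext ⟨i, a⟩ ⟨j, b⟩
    simp only [blockMono_apply, Matrix.submatrix_apply, id_eq, prodCongrLeft_apply, Equiv.prodComm_apply,
      Prod.swap_prod_mk, Matrix.blockDiagonal_apply, Perm.inv_def, Equiv.symm_apply_eq]
    split_ifs with h
    · rw [h, Equiv.symm_apply_apply]
    · rfl
  rw [h1, Matrix.det_permute, Matrix.det_submatrix_equiv_self, Matrix.det_blockDiagonal,
    Perm.sign_prodCongrLeft, Finset.prod_const, Finset.card_univ, Fintype.card_fin, Perm.sign_inv]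
  push_cast
  rfl

end BlockMono

variable {ι : Type} [Fintype ι] [DecidableEq ι] {F : Type*} [Field F]

/-- Coordinates adapted to a decomposition. -/
theorem exists_frame {t m : ℕ} {D : Fin t → Submodule F (ι → F)} (hD : IsMDecomposition m D) :
    ∃ (e : ι ≃ Fin t × Fin m) (P : GL ι F), ∀ g ∈ decompositionStabilizer D,
      ∃ (σ : Perm (Fin t)) (B : Fin t → Matrix (Fin m) (Fin m) F),
        ((P⁻¹ * g * P : GL ι F) : Matrix ι ι F) = (blockMono σ B).submatrix e e ∧ ∀ i, IsUnit (B i) := by
  classical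
  have hint : DirectSum.IsInternal D :=
    (DirectSum.isInternal_submodule_iff_iSupIndep_and_iSup_eq_top D).mpr ⟨hD.indep, hD.iSup_eq_top⟩
  let v : ∀ i, Module.Basis (Fin m) F (D i) := fun i => Module.finBasisOfFinrankEq F (D i) (hD.finrank_eq i)
  set b := (hint.collectedBasis v).reindex (Equiv.sigmaEquivProd (Fin t) (Fin m)) with hb
  have hcard : Fintype.card ι = t * m := by
    rw [← Module.finrank_fintype_fun_eq_card (R := F), Module.finrank_eq_card_basis b, Fintype.card_prod,
      Fintype.card_fin, Fintype.card_fin]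
  let e : ι ≃ Fin t × Fin m :=
    Fintype.equivOfCardEq (by rw [hcard, Fintype.card_prod, Fintype.card_fin, Fintype.card_fin])
  let L : (ι → F) ≃ₗ[F] (ι → F) := (b.reindex e.symm).equivFun.symm
  let P : GL ι F :=
    { val := LinearMap.toMatrix' L.toLinearMap
      inv := LinearMap.toMatrix' L.symm.toLinearMap
      val_inv := by
        rw [← LinearMap.toMatrix'_comp]
        simp
      inv_val := by
        rw [← LinearMap.toMatrix'_comp]
        simp }
  refine ⟨e, P, ?_⟩
  have hPs : ∀ j, (P : Matrix ι ι F) *ᵥ Pi.single j 1 = b (e j) := by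
    intro j
    show LinearMap.toMatrix' L.toLinearMap *ᵥ _ = _
    rw [← Matrix.toLin'_apply, Matrix.toLin'_toMatrix']
    show (b.reindex e.symm).equivFun.symm (Pi.single j 1) = _
    rw [Module.Basis.equivFun_symm_apply, Finset.sum_eq_single j]
    · simp
    · intro k _ hk; simp [hk]
    · simp
  have hPi : ∀ w i, (((P⁻¹ : GL ι F) : Matrix ι ι F) *ᵥ w) i = b.repr w (e i) := by
    intro w i
    show (LinearMap.toMatrix' L.symm.toLinearMap *ᵥ w) i = _
    rw [← Matrix.toLin'_apply, Matrix.toLin'_toMatrix']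
    show (b.reindex e.symm).equivFun w i = _
    simp [Module.Basis.equivFun_apply]
  have hmem : ∀ x, b x ∈ D x.1 := by
    intro x
    rw [hb, Module.Basis.reindex_apply]
    exact hint.collectedBasis_mem v (⟨x.1, x.2⟩ : Σ _ : Fin t, Fin m)
  have hzero : ∀ (k : Fin t) (w : ι → F), w ∈ D k → ∀ x : Fin t × Fin m, x.1 ≠ k → b.repr w x = 0 := by
    intro k w hw x hx
    rw [hb, Module.Basis.repr_reindex_apply]
    exact hint.collectedBasis_repr_of_mem_ne v (Ne.symm hx) hw
  have hexists : ∀ g ∈ decompositionStabilizer D,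
      ∃ (σ : Perm (Fin t)) (B : Fin t → Matrix (Fin m) (Fin m) F),
        ((P⁻¹ * g * P : GL ι F) : Matrix ι ι F) = (blockMono σ B).submatrix e e := by
    rintro g ⟨σ, hσ⟩
    refine ⟨σ, fun j => Matrix.of fun a a' =>
      ((P⁻¹ * g * P : GL ι F) : Matrix ι ι F) (e.symm (σ j, a)) (e.symm (j, a')), ?_⟩
    ext i j
    rw [Matrix.submatrix_apply, blockMono_apply]
    split_ifs with h
    · rw [Matrix.of_apply, ← h]
      simp
    · have h1 : ((P⁻¹ * g * P : GL ι F) : Matrix ι ι F) i j =
          (((P⁻¹ : GL ι F) : Matrix ι ι F) *ᵥ ((g : Matrix ι ι F) *ᵥ ((P : Matrix ι ι F) *ᵥ Pi.single j 1))) i := by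
        rw [Matrix.mulVec_mulVec, Matrix.mulVec_mulVec, Units.val_mul, Units.val_mul, mul_assoc]
        simp
      rw [h1, hPs, hPi]
      refine hzero (σ (e j).1) _ ?_ _ h
      rw [← hσ, ← Matrix.toLin'_apply]
      exact Submodule.mem_map_of_mem (hmem _)
  intro g hg
  obtain ⟨σ, B, hB⟩ := hexists g hg
  obtain ⟨τ, C, hC⟩ := hexists g⁻¹ (inv_mem hg)
  refine ⟨σ, B, hB, fun i => ?_⟩
  have h1 : (blockMono σ B).submatrix e e * (blockMono τ C).submatrix e e = 1 := by
    rw [← hB, ← hC, ← Units.val_mul]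
    simp [mul_assoc]
  rw [Matrix.submatrix_mul_equiv, blockMono_mul] at h1
  rw [Matrix.isUnit_iff_isUnit_det, isUnit_iff_ne_zero]
  intro h0
  have h2 := congrArg Matrix.det h1
  rw [Matrix.det_submatrix_equiv_self, blockMono_det, Matrix.det_one, Finset.prod_eq_zero (Finset.mem_univ (τ⁻¹ i)),
    mul_zero] at h2
  · exact zero_ne_one h2
  · rw [Matrix.det_mul, Perm.inv_def, Equiv.apply_symm_apply, h0, zero_mul]

/-- The determinant in adapted coordinates. -/
lemma det_frame {t m : ℕ} {e : ι ≃ Fin t × Fin m} {P g : GL ι F} {σ : Perm (Fin t)}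
    {B : Fin t → Matrix (Fin m) (Fin m) F} (hg : g ∈ specialLinear ι F)
    (h : ((P⁻¹ * g * P : GL ι F) : Matrix ι ι F) = (blockMono σ B).submatrix e e) :
    ((Perm.sign σ : ℤ) : F) ^ m * ∏ i, (B i).det = 1 := by
  have hd : Matrix.GeneralLinearGroup.det (P⁻¹ * g * P) = 1 := by
    rw [map_mul, map_mul, show Matrix.GeneralLinearGroup.det g = 1 from hg, mul_one, map_inv, inv_mul_cancel]
  have h1 := congrArg (fun u : Fˣ => (u : F)) hd
  simp only [Matrix.GeneralLinearGroup.val_det_apply, Units.val_one] at h1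
  rw [h, Matrix.det_submatrix_equiv_self, blockMono_det] at h1
  exact h1

/-- The Gram matrix, in standard coordinates, of a block diagonal form. -/
def frameGram {t m : ℕ} (e : ι ≃ Fin t × Fin m) (P : GL ι F) (τ : F ≃+* F) (J : Matrix (Fin m) (Fin m) F) :
    Matrix ι ι F :=
  (((P⁻¹ : GL ι F) : Matrix ι ι F))ᵀ * (blockMono 1 fun _ => J).submatrix e e *
    twist τ ((P⁻¹ : GL ι F) : Matrix ι ι F)

lemma isUnit_frameGram {t m : ℕ} (e : ι ≃ Fin t × Fin m) (P : GL ι F) (τ : F ≃+* F)
    {J : Matrix (Fin m) (Fin m) F} (hJ : IsUnit J) : IsUnit (frameGram e P τ J) := by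
  refine (IsUnit.mul ?_ ?_).mul ?_
  · rw [Matrix.isUnit_iff_isUnit_det, Matrix.det_transpose, ← Matrix.isUnit_iff_isUnit_det]
    exact (P⁻¹).isUnit
  · obtain ⟨u, rfl⟩ := hJ
    refine IsUnit.of_mul_eq_one ((blockMono 1 fun _ => ((u⁻¹ : (Matrix (Fin m) (Fin m) F)ˣ) : Matrix (Fin m) (Fin m) F)).submatrix e e) ?_
    rw [Matrix.submatrix_mul_equiv, blockMono_mul, one_mul]
    simp only [Units.mul_inv]
    rw [blockMono_one]
    simp
  · exact (twistGL τ P⁻¹).isUnit

lemma mem_similarityGroup_frame [Nonempty ι] {t m : ℕ} {e : ι ≃ Fin t × Fin m} {P g : GL ι F}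
    {σ : Perm (Fin t)} {B : Fin t → Matrix (Fin m) (Fin m) F}
    (h : ((P⁻¹ * g * P : GL ι F) : Matrix ι ι F) = (blockMono σ B).submatrix e e)
    (τ : F ≃+* F) {J : Matrix (Fin m) (Fin m) F} {c : F}
    (hB : ∀ i, (B i)ᵀ * J * (B i).map τ = c • J) {G : GL ι F} (hG : (G : Matrix ι ι F) = frameGram e P τ J) :
    g ∈ similarityGroup (formM τ (G : Matrix ι ι F)) := by
  refine mem_similarityGroup (c := c) ?_
  have hk : ((P⁻¹ : GL ι F) : Matrix ι ι F) * (g : Matrix ι ι F) =
      (blockMono σ B).submatrix e e * ((P⁻¹ : GL ι F) : Matrix ι ι F) := by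
    rw [← h, ← Units.val_mul, ← Units.val_mul]
    simp [mul_assoc]
  set Pi : Matrix ι ι F := ((P⁻¹ : GL ι F) : Matrix ι ι F) with hPi
  set k : Matrix ι ι F := (blockMono σ B).submatrix e e with hk'
  set Jb : Matrix ι ι F := (blockMono 1 fun _ => J).submatrix e e with hJb
  have hmid : kᵀ * Jb * twist τ k = c • Jb := by
    rw [hk', hJb, twist, Matrix.transpose_submatrix, ← Matrix.submatrix_map, Matrix.submatrix_mul_equiv,
      Matrix.submatrix_mul_equiv, blockMono_transpose,
      show (blockMono σ B).map τ = blockMono σ (fun i => (B i).map τ) from blockMono_map (τ : F →+* F) σ B,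
      blockMono_mul, blockMono_mul, mul_one, inv_mul_cancel]
    simp only [Perm.one_apply, Perm.inv_def, Equiv.symm_apply_apply, hB]
    rw [blockMono_smul]
    rfl
  rw [hG, frameGram, ← hPi, ← hJb]
  calc (g : Matrix ι ι F)ᵀ * (Piᵀ * Jb * twist τ Pi) * twist τ (g : Matrix ι ι F)
      = (Pi * (g : Matrix ι ι F))ᵀ * Jb * twist τ (Pi * (g : Matrix ι ι F)) := by
        rw [Matrix.transpose_mul, twist_mul]; simp only [mul_assoc]
    _ = Piᵀ * (kᵀ * Jb * twist τ k) * twist τ Pi := by
        rw [hk, Matrix.transpose_mul, twist_mul]; simp only [mul_assoc]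
    _ = c • (Piᵀ * Jb * twist τ Pi) := by
        rw [hmid, Matrix.mul_smul, Matrix.smul_mul]

/-- The frame Gram matrix of a transposed-symmetric block is symmetric up to the same sign. -/
lemma frameGram_transpose {t m : ℕ} (e : ι ≃ Fin t × Fin m) (P : GL ι F) {J : Matrix (Fin m) (Fin m) F}
    {c : F} (hJ : Jᵀ = c • J) :
    (frameGram e P (RingEquiv.refl F) J)ᵀ = c • frameGram e P (RingEquiv.refl F) J := by
  rw [frameGram, twist_refl, Matrix.transpose_mul, Matrix.transpose_mul, Matrix.transpose_transpose,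
    Matrix.transpose_submatrix, blockMono_transpose]
  simp only [inv_one, hJ]
  rw [blockMono_smul, Matrix.submatrix_smul]
  simp [mul_assoc, Matrix.mul_smul, Matrix.smul_mul]

lemma blockMono_altTwo_alt {t : ℕ} (w : Fin t × Fin 2 → F) :
    w ⬝ᵥ (blockMono 1 (fun _ => altTwo F) *ᵥ w) = 0 := by
  simp only [dotProduct, Matrix.mulVec, Fintype.sum_prod_type, Fin.sum_univ_two, blockMono_apply, Perm.one_apply]
  refine Finset.sum_eq_zero fun i _ => ?_
  simp [altTwo, Finset.sum_add_distrib, Finset.sum_ite_eq]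
  ring

lemma isUnit_altTwo : IsUnit (altTwo F) := by
  rw [Matrix.isUnit_iff_isUnit_det, isUnit_iff_ne_zero]
  simp [altTwo, Matrix.det_fin_two]

lemma altTwo_transpose : (altTwo F)ᵀ = (-1 : F) • altTwo F := by
  ext i j; fin_cases i <;> fin_cases j <;> simp [altTwo]

/-- The symplectic form attached to a decomposition into planes. -/
lemma isSymplectic_frame {t : ℕ} (e : ι ≃ Fin t × Fin 2) (P : GL ι F) {G : GL ι F}
    (hG : (G : Matrix ι ι F) = frameGram e P (RingEquiv.refl F) (altTwo F)) :
    IsSymplecticForm (formM (RingEquiv.refl F) (G : Matrix ι ι F)) := by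
  refine isSymplecticForm_formM G ?_ fun v => ?_
  · rw [hG, frameGram_transpose e P altTwo_transpose, neg_one_smul]
  · rw [hG, frameGram, ← formM_mulVec]
    simp only [formM, RingEquiv.refl_apply]
    rw [Matrix.submatrix_mulVec_equiv, ← comp_equiv_symm_dotProduct]
    exact blockMono_altTwo_alt _
lemma det_fin_one_ne_zero {A : Matrix (Fin 1) (Fin 1) F} (h : IsUnit A) : A 0 0 ≠ 0 := by
  rw [Matrix.isUnit_iff_isUnit_det, Matrix.det_fin_one, isUnit_iff_ne_zero] at h
  exact h

/-- Over the field of two elements the stabiliser of a frame of lines fixes a vector. -/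
theorem lines_card_two [Fintype F] {t : ℕ} {D : Fin t → Submodule F (ι → F)} (hD : IsMDecomposition 1 D)
    (hq : Fintype.card F = 2) (hn : 2 ≤ Fintype.card ι) :
    ∃ W : Submodule F (ι → F), W ≠ ⊥ ∧ W ≠ ⊤ ∧ decompositionStabilizer D ≤ subspaceStabilizer W := by
  obtain ⟨e, P, hP⟩ := exists_frame hD
  haveI : Nonempty ι := Fintype.card_pos_iff.mp (by omega)
  set w : ι → F := (P : Matrix ι ι F) *ᵥ fun _ => 1 with hw
  have hw0 : w ≠ 0 := by
    intro h
    have h1 := congrArg (fun u => ((P⁻¹ : GL ι F) : Matrix ι ι F) *ᵥ u) h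
    simp only [hw, Matrix.mulVec_mulVec, ← Units.val_mul, inv_mul_cancel, Units.val_one, Matrix.one_mulVec,
      Matrix.mulVec_zero] at h1
    exact one_ne_zero (congrFun h1 (Classical.arbitrary ι))
  refine ⟨Submodule.span F {w}, by simpa [Submodule.span_singleton_eq_bot] using hw0, ?_,
    le_subspaceStabilizer fun g hg x hx => ?_⟩
  · intro h
    have h1 := finrank_span_singleton (K := F) hw0
    rw [h, finrank_top, Module.finrank_fintype_fun_eq_card] at h1
    omega
  obtain ⟨a, rfl⟩ := Submodule.mem_span_singleton.mp hx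
  rw [Matrix.mulVec_smul]
  refine Submodule.smul_mem _ _ (Submodule.mem_span_singleton.mpr ⟨1, ?_⟩)
  obtain ⟨σ, B, hk, hu⟩ := hP g hg
  have h1 : ∀ i, B i 0 0 = 1 := fun i => by
    have := FiniteField.pow_card_sub_one_eq_one _ (det_fin_one_ne_zero (hu i))
    rwa [hq, pow_one] at this
  have h2 : ((blockMono σ B).submatrix e e) *ᵥ (fun _ => (1 : F)) = fun _ => 1 := by
    funext i
    simp only [Matrix.mulVec, dotProduct, mul_one, Matrix.submatrix_apply]
    rw [e.sum_comp (fun y => blockMono σ B (e i) y), Fintype.sum_prod_type, Finset.sum_eq_single (σ⁻¹ (e i).1)]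
    · simp [blockMono_apply, Fin.fin_one_eq_zero, h1]
    · intro j _ hj
      simp only [Fin.sum_univ_one, blockMono_apply]
      rw [if_neg]
      intro hc
      exact hj (by rw [hc]; simp)
    · simp
  rw [one_smul, hw, Matrix.mulVec_mulVec]
  conv_lhs => rw [← h2, ← hk]
  rw [Matrix.mulVec_mulVec, ← Units.val_mul, ← Units.val_mul]
  simp [mul_assoc]

/-- Over the field of three elements the stabiliser of a frame of lines consists of orthogonal similarities. -/
theorem lines_card_three [Fintype F] {t : ℕ} {D : Fin t → Submodule F (ι → F)} (hD : IsMDecomposition 1 D)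
    (hq : Fintype.card F = 3) [Nonempty ι] :
    ∃ Q : (ι → F) → F, IsNondegenerateQuadraticForm Q ∧ decompositionStabilizer D ≤ quadSimilarityGroup Q := by
  obtain ⟨e, P, hP⟩ := exists_frame hD
  obtain ⟨G, hG⟩ := isUnit_frameGram e P (RingEquiv.refl F) (isUnit_one : IsUnit (1 : Matrix (Fin 1) (Fin 1) F))
  have hsym : (G : Matrix ι ι F)ᵀ = (G : Matrix ι ι F) := by
    rw [hG, frameGram_transpose e P (c := 1) (by simp), one_smul]
  refine ⟨_, isNondegenerateQuadraticForm_quadM (by rw [hq]; decide) G hsym,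
    fun g hg => similarityGroup_le_quad _ ?_⟩
  obtain ⟨σ, B, hk, hu⟩ := hP g hg
  refine mem_similarityGroup_frame hk (RingEquiv.refl F) (c := 1) (fun i => ?_) hG
  have := FiniteField.pow_card_sub_one_eq_one _ (det_fin_one_ne_zero (hu i))
  rw [hq] at this
  ext a b
  rw [Fin.fin_one_eq_zero a, Fin.fin_one_eq_zero b]
  simpa [Matrix.mul_apply, sq] using this

/-- Over the field of four elements the stabiliser of a frame of lines consists of unitary similarities. -/
theorem lines_card_four [Fintype F] {t : ℕ} {D : Fin t → Submodule F (ι → F)} (hD : IsMDecomposition 1 D)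
    (hq : Fintype.card F = 4) [Nonempty ι] :
    ∃ (τ : F ≃+* F) (f : (ι → F) → (ι → F) → F), IsUnitaryForm τ f ∧
      decompositionStabilizer D ≤ similarityGroup f := by
  obtain ⟨e, P, hP⟩ := exists_frame hD
  haveI : CharP F 2 := ringChar.of_eq (FiniteField.even_card_iff_char_two.mpr (by rw [hq]))
  let τ : F ≃+* F := RingEquiv.ofBijective (frobenius F 2)
    ⟨frobenius_inj F 2, Finite.surjective_of_injective (frobenius_inj F 2)⟩
  have hτ : ∀ x, τ x = x ^ 2 := fun x => frobenius_def 2 x
  have hτ2 : ∀ x, τ (τ x) = x := fun x => by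
    rw [hτ, hτ, ← pow_mul]
    have := FiniteField.pow_card x
    rwa [hq] at this
  have hne : τ ≠ RingEquiv.refl F := by
    intro h
    have hall : ∀ x : F, x = 0 ∨ x = 1 := fun x => by
      have h1 : x ^ 2 = x := by rw [← hτ, h]; rfl
      by_cases hx : x = 0
      · exact Or.inl hx
      · exact Or.inr (mul_left_cancel₀ hx (by rw [← sq, h1, mul_one]))
    classical
    have h2 : (Finset.univ : Finset F) ⊆ {0, 1} := fun x _ => by simpa using hall x
    have := (Finset.card_le_card h2).trans Finset.card_le_two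
    rw [Finset.card_univ, hq] at this
    omega
  obtain ⟨G, hG⟩ := isUnit_frameGram e P τ (isUnit_one : IsUnit (1 : Matrix (Fin 1) (Fin 1) F))
  have hherm : twist τ (G : Matrix ι ι F)ᵀ = (G : Matrix ι ι F) := by
    rw [hG, frameGram, Matrix.transpose_mul, Matrix.transpose_mul, Matrix.transpose_transpose,
      Matrix.transpose_submatrix, blockMono_transpose, twist_mul, twist_mul]
    have e1 : twist τ (twist τ ((P⁻¹ : GL ι F) : Matrix ι ι F))ᵀ = (((P⁻¹ : GL ι F) : Matrix ι ι F))ᵀ := by
      ext i j; simp [hτ2]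
    simp only [inv_one, Perm.one_apply, Matrix.transpose_one]
    rw [e1, blockMono_one, Matrix.submatrix_one_equiv]
    simp [twist, mul_assoc]
  refine ⟨τ, _, isUnitaryForm_formM hne hτ2 G hherm, fun g hg => ?_⟩
  obtain ⟨σ, B, hk, hu⟩ := hP g hg
  refine mem_similarityGroup_frame hk τ (c := 1) (fun i => ?_) hG
  have := FiniteField.pow_card_sub_one_eq_one _ (det_fin_one_ne_zero (hu i))
  rw [hq] at this
  ext a b
  rw [Fin.fin_one_eq_zero a, Fin.fin_one_eq_zero b]
  simpa [Matrix.mul_apply, hτ, ← pow_succ'] using this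

/-- Over the field of two elements the stabiliser of a decomposition into planes consists of symplectic
similarities. -/
theorem planes_card_two [Fintype F] {t : ℕ} {D : Fin t → Submodule F (ι → F)} (hD : IsMDecomposition 2 D)
    (hq : Fintype.card F = 2) [Nonempty ι] :
    ∃ f : (ι → F) → (ι → F) → F, IsSymplecticForm f ∧ decompositionStabilizer D ≤ similarityGroup f := by
  obtain ⟨e, P, hP⟩ := exists_frame hD
  obtain ⟨G, hG⟩ := isUnit_frameGram e P (RingEquiv.refl F) (isUnit_altTwo (F := F))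
  refine ⟨_, isSymplectic_frame e P hG, fun g hg => ?_⟩
  obtain ⟨σ, B, hk, hu⟩ := hP g hg
  refine mem_similarityGroup_frame hk (RingEquiv.refl F) (c := 1) (fun i => ?_) hG
  have h1 : (B i).det ≠ 0 := ((Matrix.isUnit_iff_isUnit_det _).mp (hu i)).ne_zero
  have := FiniteField.pow_card_sub_one_eq_one _ h1
  rw [hq, pow_one] at this
  rw [RingEquiv.coe_refl, Matrix.map_id, altTwo_congr, this]

/-- Over the field of three elements the determinant-one stabiliser of two planes in dimension four consists of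
symplectic similarities. -/
theorem planes_card_three [Fintype F] {D : Fin 2 → Submodule F (ι → F)} (hD : IsMDecomposition 2 D)
    (hq : Fintype.card F = 3) [Nonempty ι] :
    ∃ f : (ι → F) → (ι → F) → F, IsSymplecticForm f ∧
      decompositionStabilizer D ⊓ specialLinear ι F ≤ similarityGroup f := by
  obtain ⟨e, P, hP⟩ := exists_frame hD
  obtain ⟨G, hG⟩ := isUnit_frameGram e P (RingEquiv.refl F) (isUnit_altTwo (F := F))
  refine ⟨_, isSymplectic_frame e P hG, fun g hg => ?_⟩
  obtain ⟨σ, B, hk, hu⟩ := hP g hg.1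
  refine mem_similarityGroup_frame hk (RingEquiv.refl F) (c := (B 0).det) (fun i => ?_) hG
  rw [RingEquiv.coe_refl, Matrix.map_id, altTwo_congr]
  congr 1
  have h1 : ∀ j, (B j).det ^ 2 = 1 := fun j => by
    have := FiniteField.pow_card_sub_one_eq_one _ ((Matrix.isUnit_iff_isUnit_det _).mp (hu j)).ne_zero
    rwa [hq] at this
  have h2 := det_frame hg.2 hk
  rw [Fin.prod_univ_two] at h2
  have hs : ((Perm.sign σ : ℤ) : F) ^ 2 = 1 := by
    rcases Int.units_eq_one_or (Perm.sign σ) with h | h <;> simp [h]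
  rw [hs, one_mul] at h2
  fin_cases i
  · rfl
  · show (B 1).det = (B 0).det
    linear_combination (-(B 1).det) * h1 0 + (B 0).det * h2

end Cfsg.Agent.Lib.MaxClass
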