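import Mathlib
import Cfsg.Prelude.Def_GeometricClasses
import Cfsg.Agent.Lib.Aschbacher.Linear

/-!
In dimension three over four elements, the determinant-one normaliser of a cubic field lies in a
subfield group over two elements.
-/

set_option autoImplicit false
set_option linter.style.haveILetI false

namespace Cfsg.Agent.Lib.MaxClass

open Cfsg Cfsg.Geo Matrix
open Cfsg.Agent.Lib.Aschbacher

variable {F : Type*} [Field F] [Fintype F]

/-- The field part of the statement: a basis in the subfield of eight elements and its properties. -/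
lemma exists_basis_F8 {K : Type*} [Field K] [Algebra F K] [Finite K] (hq : Fintype.card F = 4)
    (hK : Module.finrank F K = 3) :
    ∃ b : Module.Basis (Fin 3) F K, (∀ i, b i ^ 8 = b i) ∧
      (∀ x : K, x ^ 8 = x → ∀ i, b.repr x i ^ 2 = b.repr x i) ∧
      ∀ u : K, Algebra.norm F u = 1 → ∃ (c : F) (w : K), w ^ 8 = w ∧ u = c • w := by
  classical
  haveI : Fintype K := Fintype.ofFinite K
  haveI : FiniteDimensional F K := FiniteDimensional.of_finrank_pos (by omega)
  have hcardK : Fintype.card K = 64 := by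
    rw [Module.card_eq_pow_finrank (K := F), hq, hK]; norm_num
  haveI hFact : Fact (Nat.Prime 7) := ⟨by norm_num⟩
  obtain ⟨yu, hyu⟩ := exists_prime_orderOf_dvd_card' (G := Kˣ) 7 (by
    rw [Nat.card_units, Nat.card_eq_fintype_card, hcardK]; norm_num)
  set y : K := (yu : K) with hy
  have hy7 : y ^ 7 = 1 := by
    rw [hy, ← Units.val_pow_eq_pow_val, ← hyu, pow_orderOf_eq_one, Units.val_one]
  have hy1 : y ≠ 1 := by
    intro h
    have : yu = 1 := Units.ext h
    rw [this, orderOf_one] at hyu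
    omega
  have hyF : y ∉ (algebraMap F K).range := by
    rintro ⟨c, hc⟩
    have hc0 : c ≠ 0 := by
      rintro rfl
      rw [map_zero] at hc
      exact yu.ne_zero hc.symm
    have hc3 := FiniteField.pow_card_sub_one_eq_one c hc0
    rw [hq] at hc3
    have h3 : y ^ 3 = 1 := by rw [← hc, ← map_pow, hc3, map_one]
    refine hy1 ?_
    calc y = y * (y ^ 3) ^ 2 := by rw [h3, one_pow, mul_one]
      _ = y ^ 7 := by ring
      _ = 1 := hy7
  have hint : IsIntegral F y := IsIntegral.of_finite F y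
  have hdeg : (minpoly F y).natDegree = 3 := by
    have h1 : (minpoly F y).natDegree ∣ 3 := hK ▸ minpoly.degree_dvd hint
    rcases (Nat.dvd_prime Nat.prime_three).mp h1 with h | h
    · exact absurd (minpoly.natDegree_eq_one_iff.mp h) hyF
    · exact h
  have hli : LinearIndependent F (fun i : Fin 3 => y ^ (i : ℕ)) :=
    (linearIndependent_pow y).comp (Fin.cast hdeg.symm) (Fin.cast_injective _)
  let b := basisOfLinearIndependentOfCardEqFinrank hli (by rw [Fintype.card_fin, hK])
  have hb : ∀ i, b i = y ^ (i : ℕ) := fun i => by simp [b]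
  have hb8 : ∀ i, b i ^ 8 = b i := fun i => by
    rw [hb, ← pow_mul, mul_comm, pow_mul, pow_succ, hy7, one_mul]
  have hchar : CharP K 2 := by
    haveI : CharP F 2 := ringChar.of_eq (FiniteField.even_card_iff_char_two.mpr (by rw [hq]))
    exact charP_of_injective_algebraMap (algebraMap F K).injective 2
  refine ⟨b, hb8, fun x hx i => ?_, fun u hu => ?_⟩
  · have h8 : ∀ c : F, c ^ 8 = c ^ 2 := fun c => by
      have := FiniteField.pow_card c
      rw [hq] at this
      calc c ^ 8 = (c ^ 4) ^ 2 := by ring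
        _ = c ^ 2 := by rw [this]
    have h1 : x = ∑ j, (b.repr x j ^ 2) • b j := by
      conv_lhs => rw [← hx, ← b.sum_repr x]
      have := sum_pow_char_pow (R := K) 2 3 Finset.univ (fun j => b.repr x j • b j)
      rw [show (2 : ℕ) ^ 3 = 8 by norm_num] at this
      rw [this]
      refine Finset.sum_congr rfl fun j _ => ?_
      rw [smul_pow, hb8, h8]
    have h2 := congrArg (fun z => b.repr z i) h1
    simp only [Module.Basis.repr_sum_self] at h2
    exact h2.symm
  · have h21 : u ^ 21 = 1 := by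
      have h := FiniteField.algebraMap_norm_eq_pow (K := F) (K' := K) (x := u)
      rw [hu, map_one, Nat.card_eq_fintype_card, Nat.card_eq_fintype_card, hcardK, hq] at h
      exact h.symm
    have hc4 : (u ^ 7) ^ 4 = u ^ 7 := by
      calc (u ^ 7) ^ 4 = u ^ 21 * u ^ 7 := by ring
        _ = u ^ 7 := by rw [h21, one_mul]
    obtain ⟨c, hc⟩ : ∃ c : F, algebraMap F K c = u ^ 7 := by
      by_contra hc
      push Not at hc
      let s : Finset K := insert (u ^ 7) (Finset.univ.image (algebraMap F K))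
      have hs : s.card = 5 := by
        rw [Finset.card_insert_of_notMem (by simpa using hc), Finset.card_image_of_injective _ (algebraMap F K).injective,
          Finset.card_univ, hq]
      have hpne : (Polynomial.X ^ 4 - Polynomial.X : Polynomial K) ≠ 0 :=
        FiniteField.X_pow_card_sub_X_ne_zero K (by norm_num)
      have hsub : s ⊆ (Polynomial.X ^ 4 - Polynomial.X : Polynomial K).roots.toFinset := by
        intro z hz
        rw [Multiset.mem_toFinset, Polynomial.mem_roots hpne, Polynomial.IsRoot.def, Polynomial.eval_sub,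
          Polynomial.eval_pow, Polynomial.eval_X, sub_eq_zero]
        rcases Finset.mem_insert.mp hz with rfl | hz
        · exact hc4
        · obtain ⟨c, -, rfl⟩ := Finset.mem_image.mp hz
          have := FiniteField.pow_card c
          rw [hq] at this
          rw [← map_pow, this]
      have := ((Finset.card_le_card hsub).trans (Multiset.toFinset_card_le _)).trans (Polynomial.card_roots' _)
      rw [hs, FiniteField.X_pow_card_sub_X_natDegree_eq K (by norm_num)] at this
      omega
    refine ⟨c, u ^ 15, ?_, ?_⟩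
    · calc (u ^ 15) ^ 8 = (u ^ 21) ^ 5 * u ^ 15 := by ring
        _ = u ^ 15 := by rw [h21, one_pow, one_mul]
    · rw [Algebra.smul_def, hc]
      calc u = u ^ 21 * u := by rw [h21, one_mul]
        _ = u ^ 7 * u ^ 15 := by ring

set_option maxHeartbeats 400000 in
/-- A group of semilinear maps of a cubic extension of the field of four elements, of determinant one, is
realised up to scalars over two elements. -/
lemma semilinear_realised {K : Type*} [Field K] [Algebra F K] [Finite K] [CharP F 2]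
    (hq : Fintype.card F = 4) (hK : Module.finrank F K = 3) (Φ : K ≃ₗ[F] (Fin 3 → F))
    {F₀ : Subfield F} (hmem0 : ∀ {x : F}, x ∈ F₀ ↔ x ^ 2 = x) :
    ∃ P : GL (Fin 3) F, ∀ g ∈ specialLinear (Fin 3) F, ∀ (φ : K →ₐ[F] K) (u : K),
      (∀ x : K, (g : Matrix (Fin 3) (Fin 3) F) *ᵥ Φ x = Φ (u * φ x)) → g ∈ subfieldSubgroup F₀ P := by
  classical
  haveI : FiniteDimensional F K := FiniteDimensional.of_finrank_pos (by omega)
  obtain ⟨b, hb8, hbrepr, hnorm⟩ := exists_basis_F8 (K := K) hq hK
  let B : Module.Basis (Fin 3) F (Fin 3 → F) := b.map Φ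
  let L : (Fin 3 → F) ≃ₗ[F] (Fin 3 → F) := B.equivFun.symm
  let P : GL (Fin 3) F :=
    { val := LinearMap.toMatrix' L.toLinearMap
      inv := LinearMap.toMatrix' L.symm.toLinearMap
      val_inv := by
        rw [← LinearMap.toMatrix'_comp]
        simp
      inv_val := by
        rw [← LinearMap.toMatrix'_comp]
        simp }
  refine ⟨P, fun g hgSL φ u hgx => ?_⟩
  -- determinants
  have hφ8 : ∀ j, (φ (b j)) ^ 8 = φ (b j) := fun j => by rw [← map_pow, hb8]
  have hT : Matrix.toLin' (g : Matrix (Fin 3) (Fin 3) F) =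
      (Φ : K →ₗ[F] (Fin 3 → F)) ∘ₗ (Algebra.lmul F K u * φ.toLinearMap) ∘ₗ (Φ.symm : (Fin 3 → F) →ₗ[F] K) := by
    refine LinearMap.ext fun v => ?_
    rw [Matrix.toLin'_apply]
    conv_lhs => rw [← Φ.apply_symm_apply v]
    rw [hgx]
    rfl
  have hdetφ : LinearMap.det φ.toLinearMap = 1 := by
    let A : Matrix (Fin 3) (Fin 3) F₀ := Matrix.of fun i j =>
      (⟨b.repr (φ (b j)) i, hmem0.mpr (hbrepr _ (hφ8 j) i)⟩ : F₀)
    have hA : LinearMap.toMatrix b b φ.toLinearMap = A.map F₀.subtype := by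
      ext i j
      rw [LinearMap.toMatrix_apply]
      rfl
    have hmem : LinearMap.det φ.toLinearMap ∈ F₀ := by
      rw [← LinearMap.det_toMatrix b, hA, ← RingHom.mapMatrix_apply, ← RingHom.map_det]
      exact SetLike.coe_mem _
    have hne : LinearMap.det φ.toLinearMap ≠ 0 := by
      intro h0
      have h1 : LinearMap.det (Matrix.toLin' (g : Matrix (Fin 3) (Fin 3) F)) = 0 := by
        rw [hT, LinearMap.det_conj, map_mul, h0, mul_zero]
      rw [LinearMap.det_toLin'] at h1
      exact ((Matrix.isUnit_iff_isUnit_det _).mp g.isUnit).ne_zero h1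
    exact mul_left_cancel₀ hne (by rw [← sq, hmem0.mp hmem, mul_one])
  have hnormu : Algebra.norm F u = 1 := by
    have h1 : LinearMap.det (Matrix.toLin' (g : Matrix (Fin 3) (Fin 3) F)) = 1 := by
      rw [LinearMap.det_toLin']
      have := congrArg (fun z : Fˣ => (z : F)) (show Matrix.GeneralLinearGroup.det g = 1 from hgSL)
      simpa using this
    rw [hT, LinearMap.det_conj, map_mul, hdetφ, mul_one] at h1
    rw [Algebra.norm_apply]
    exact h1
  obtain ⟨c, w, hw, huw⟩ := hnorm u hnormu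
  have hc0 : c ≠ 0 := by
    rintro rfl
    rw [huw, zero_smul, Algebra.norm_zero] at hnormu
    exact zero_ne_one hnormu
  let A₀ : Matrix (Fin 3) (Fin 3) F₀ := Matrix.of fun i j =>
    (⟨b.repr (w * φ (b j)) i, hmem0.mpr (hbrepr _ (by rw [mul_pow, hw, hφ8]) i)⟩ : F₀)
  have hk : ((P⁻¹ * g * P : GL (Fin 3) F) : Matrix (Fin 3) (Fin 3) F) = c • A₀.map F₀.subtype := by
    refine Matrix.ext_of_mulVec_single fun j => ?_
    rw [Units.val_mul, Units.val_mul, mul_assoc, ← Matrix.mulVec_mulVec, ← Matrix.mulVec_mulVec]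
    have h1 : (P : Matrix (Fin 3) (Fin 3) F) *ᵥ Pi.single j 1 = Φ (b j) := by
      show LinearMap.toMatrix' L.toLinearMap *ᵥ _ = _
      rw [← Matrix.toLin'_apply, Matrix.toLin'_toMatrix']
      show B.equivFun.symm (Pi.single j 1) = _
      rw [Module.Basis.equivFun_symm_apply, Finset.sum_eq_single j]
      · simp [B]
      · intro k _ hk; simp [hk]
      · simp
    rw [h1, hgx, huw, smul_mul_assoc]
    show LinearMap.toMatrix' L.symm.toLinearMap *ᵥ _ = _
    rw [← Matrix.toLin'_apply, Matrix.toLin'_toMatrix']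
    show B.equivFun (Φ (c • (w * φ (b j)))) = _
    funext i
    simp [B, Module.Basis.equivFun_apply, A₀]
  have hdetA : IsUnit A₀ := by
    rw [Matrix.isUnit_iff_isUnit_det, isUnit_iff_ne_zero]
    intro h0
    have h1 := (Matrix.isUnit_iff_isUnit_det _).mp (P⁻¹ * g * P).isUnit
    rw [hk, Matrix.det_smul, ← RingHom.mapMatrix_apply, ← RingHom.map_det, h0, map_zero, mul_zero] at h1
    exact h1.ne_zero rfl
  refine ⟨P⁻¹ * g * P, ?_, by simp [MulAut.conj_apply, mul_assoc]⟩
  refine Subgroup.mem_sup_of_normal_right.mpr ⟨_, ⟨hdetA.unit, rfl⟩,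
    Units.map (Matrix.scalar (Fin 3) : F →+* Matrix (Fin 3) (Fin 3) F).toMonoidHom (Units.mk0 c hc0), ⟨_, rfl⟩, ?_⟩
  apply Units.ext
  rw [hk]
  ext i j
  simp [Matrix.GeneralLinearGroup.map, mul_comm]

/-- The determinant-one normaliser of a cubic field over four elements lies in a subfield group. -/
theorem field_three_four (hq : Fintype.card F = 4) {K : Subalgebra F (Matrix (Fin 3) (Fin 3) F)}
    (hK : IsFieldSubalgebra 3 K) :
    ∃ (F₀ : Subfield F) (P : GL (Fin 3) F), Fintype.card F = Nat.card F₀ ^ 2 ∧ F₀ ≠ ⊤ ∧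
      subalgebraNormalizer K ⊓ specialLinear (Fin 3) F ≤ subfieldSubgroup F₀ P := by
  classical
  haveI : CharP F 2 := ringChar.of_eq (FiniteField.even_card_iff_char_two.mpr (by rw [hq]))
  haveI : Fact (Nat.Prime 2) := ⟨Nat.prime_two⟩
  set F₀ := frobFixed F 2 1 with hF₀
  have hmem0 : ∀ {x : F}, x ∈ F₀ ↔ x ^ 2 = x := fun {x} => by rw [hF₀, mem_frobFixed, pow_one]
  have hF₀card : Nat.card F₀ = 2 := by
    have h : (F₀ : Set F) = {0, 1} := by
      ext x
      show x ∈ F₀ ↔ _
      rw [hmem0]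
      constructor
      · intro h
        by_cases hx : x = 0
        · exact Or.inl hx
        · exact Or.inr (mul_left_cancel₀ hx (by rw [← sq, h, mul_one]))
      · rintro (rfl | rfl) <;> simp
    show Nat.card (F₀ : Set F) = 2
    rw [Nat.card_coe_set_eq, h, Set.ncard_pair zero_ne_one]
  haveI : Nontrivial K := ⟨⟨1, 0, fun h => by
    have := congrArg (fun a : K => (a : Matrix (Fin 3) (Fin 3) F) 0 0) h
    simp at this⟩⟩
  letI fK : Field K :=
    IsField.toField
      { exists_pair_ne := exists_pair_ne K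
        mul_comm := fun x y => Subtype.ext (hK.comm x x.2 y y.2)
        mul_inv_cancel := fun {x} hx => by
          obtain ⟨y, hy, hxy⟩ := hK.inv x x.2 (fun h => hx (Subtype.ext h))
          exact ⟨⟨y, hy⟩, Subtype.ext hxy⟩ }
  haveI : Finite K := inferInstance
  set v₀ : Fin 3 → F := Pi.single 0 1 with hv₀
  let Φ₀ : K →ₗ[F] (Fin 3 → F) :=
    { toFun := fun x => (x : Matrix (Fin 3) (Fin 3) F) *ᵥ v₀
      map_add' := fun x y => Matrix.add_mulVec _ _ _
      map_smul' := fun c x => Matrix.smul_mulVec c _ _ }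
  have hinj : Function.Injective Φ₀ := by
    rw [← LinearMap.ker_eq_bot, LinearMap.ker_eq_bot']
    intro x hx
    by_contra h0
    obtain ⟨y, -, hxy⟩ := hK.inv x x.2 (fun h => h0 (Subtype.ext h))
    have hcomm : y * (x : Matrix (Fin 3) (Fin 3) F) = 1 := mul_eq_one_comm.mp hxy
    have h1 : (y * (x : Matrix (Fin 3) (Fin 3) F)) *ᵥ v₀ = 0 := by
      rw [← Matrix.mulVec_mulVec, show (x : Matrix (Fin 3) (Fin 3) F) *ᵥ v₀ = 0 from hx, Matrix.mulVec_zero]
    rw [hcomm, Matrix.one_mulVec] at h1
    simpa [hv₀] using congrFun h1 0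
  haveI : FiniteDimensional F K := FiniteDimensional.of_finrank_pos (by rw [hK.finrank_eq]; norm_num)
  let Φ : K ≃ₗ[F] (Fin 3 → F) :=
    LinearEquiv.ofBijective Φ₀ ⟨hinj, (LinearMap.injective_iff_surjective_of_finrank_eq_finrank
      (by rw [hK.finrank_eq, Module.finrank_fintype_fun_eq_card, Fintype.card_fin])).mp hinj⟩
  have hΦ : ∀ x : K, Φ x = (x : Matrix (Fin 3) (Fin 3) F) *ᵥ v₀ := fun x => rfl
  obtain ⟨P, hP⟩ := semilinear_realised hq hK.finrank_eq Φ hmem0
  refine ⟨F₀, P, by rw [hF₀card, hq]; norm_num, frobFixed_ne_top one_pos (by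
    rw [Nat.card_eq_fintype_card, hq]; norm_num), ?_⟩
  rintro g ⟨hgK, hgSL⟩
  -- the automorphism induced on the field
  let φ : K →ₐ[F] K :=
    (((conjM g).toAlgHom.comp K.val).codRestrict K fun x => (hgK (x : Matrix (Fin 3) (Fin 3) F)).mp x.2)
  have hφ : ∀ x : K, ((φ x : K) : Matrix (Fin 3) (Fin 3) F) * (g : Matrix (Fin 3) (Fin 3) F) =
      (g : Matrix (Fin 3) (Fin 3) F) * (x : Matrix (Fin 3) (Fin 3) F) := by
    intro x
    show conjM g (x : Matrix (Fin 3) (Fin 3) F) * _ = _
    rw [conjM_apply, mul_assoc, Units.inv_mul, mul_one]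
  set u : K := Φ.symm ((g : Matrix (Fin 3) (Fin 3) F) *ᵥ v₀) with hu
  have hgx : ∀ x : K, (g : Matrix (Fin 3) (Fin 3) F) *ᵥ Φ x = Φ (u * φ x) := by
    intro x
    rw [hΦ, hΦ, Matrix.mulVec_mulVec, ← hφ, ← Matrix.mulVec_mulVec, mul_comm u, Subalgebra.coe_mul,
      ← Matrix.mulVec_mulVec]
    congr 1
    show _ = (u : Matrix (Fin 3) (Fin 3) F) *ᵥ v₀
    rw [← hΦ, hu, LinearEquiv.apply_symm_apply]
  exact hP g hgSL φ u hgx

end Cfsg.Agent.Lib.MaxClass
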