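import Mathlib
import Cfsg.Prelude.Def_GeometricClasses
import Cfsg.Agent.Lib.MaxClass.NotTop
import Cfsg.Agent.Lib.MaxClass.LinearMonomial

/-!
In `SL_4(5)` the stabiliser of a frame of lines is not maximal: it is properly contained in the stabiliser
of the set of Pauli matrices.
-/

set_option autoImplicit false
set_option linter.style.haveILetI false

namespace Cfsg.Agent.Lib.MaxClass.N4Q5

open Cfsg Cfsg.Geo Matrix Equiv
open Cfsg.Agent.Lib.Aschbacher
open Cfsg.Agent.Lib.MaxClass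

/-- Addition in `(ℤ/2)²`, written on `Fin 4`. -/
def xr : Fin 4 → Fin 4 → Fin 4 := ![![0, 1, 2, 3], ![1, 0, 3, 2], ![2, 3, 0, 1], ![3, 2, 1, 0]]

/-- The character pairing of `(ℤ/2)²` on `Fin 4`, with values `±1`. -/
def chi : Fin 4 → Fin 4 → ℤ := ![![1, 1, 1, 1], ![1, -1, 1, -1], ![1, 1, -1, -1], ![1, -1, -1, 1]]

lemma chi_xr : ∀ i j b, chi i (xr j b) = chi i j * chi i b := by decide
lemma chi_comm : ∀ i j, chi i j = chi j i := by decide
lemma chi_sq : ∀ i j, chi i j * chi i j = 1 := by decide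
lemma xr_xr : ∀ i b, xr (xr i b) b = i := by decide
lemma xr_zero : ∀ i, xr i 0 = i := by decide
lemma xr_fix : ∀ j b, xr j b = j → b = 0 := by decide
lemma table_chi : ∀ p₀ p₁ p₂ p₃ a : Fin 4,
    (p₀ = p₁ ∨ p₀ = p₂ ∨ p₀ = p₃ ∨ p₁ = p₂ ∨ p₁ = p₃ ∨ p₂ = p₃) ∨
      ∃ a'' : Fin 4, ∀ j, chi a j = chi a 0 * chi a'' p₀ * chi a'' (![p₀, p₁, p₂, p₃] j) := by
  decide +kernel
lemma table_xr : ∀ p₀ p₁ p₂ p₃ b : Fin 4,
    (p₀ = p₁ ∨ p₀ = p₂ ∨ p₀ = p₃ ∨ p₁ = p₂ ∨ p₁ = p₃ ∨ p₂ = p₃) ∨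
      ∃ b'' : Fin 4, ∀ j, ![p₀, p₁, p₂, p₃] (xr j b) = xr (![p₀, p₁, p₂, p₃] j) b'' := by
  decide +kernel
lemma perm_vec (π : Perm (Fin 4)) : ![π 0, π 1, π 2, π 3] = ⇑π := by
  funext j; fin_cases j <;> rfl
lemma perm_chi (π : Perm (Fin 4)) (a : Fin 4) :
    ∃ a'' : Fin 4, ∀ j, chi a j = chi a 0 * chi a'' (π 0) * chi a'' (π j) := by
  rcases table_chi (π 0) (π 1) (π 2) (π 3) a with h | h
  · simp at h
  · rwa [perm_vec] at h
lemma perm_xr (π : Perm (Fin 4)) (b : Fin 4) : ∃ b'' : Fin 4, ∀ j, π (xr j b) = xr (π j) b'' := by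
  rcases table_xr (π 0) (π 1) (π 2) (π 3) b with h | h
  · simp at h
  · rwa [perm_vec] at h
lemma sign_table : ∀ e₁ e₂ : Bool, ∃ a : Fin 4,
    chi a 0 = 1 ∧ chi a 1 = (if e₁ then 1 else -1) ∧ chi a 2 = (if e₂ then 1 else -1) ∧
      chi a 3 = (if e₁ then 1 else -1) * (if e₂ then 1 else -1) := by
  decide

variable {F : Type*} [Field F]

/-- The diagonal Pauli matrices. -/
def pz (a : Fin 4) : Matrix (Fin 4) (Fin 4) F := Matrix.diagonal fun i => (chi a i : F)

/-- The permutation Pauli matrices. -/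
def px (b : Fin 4) : Matrix (Fin 4) (Fin 4) F := Matrix.of fun i j => if i = xr j b then 1 else 0

/-- The character table as a matrix. -/
def hadamard : Matrix (Fin 4) (Fin 4) F := Matrix.of fun i j => (chi i j : F)

lemma chiF_sq (i j : Fin 4) : (chi i j : F) * chi i j = 1 := by exact_mod_cast congrArg (Int.cast (R := F)) (chi_sq i j)

lemma mul_px_apply (A : Matrix (Fin 4) (Fin 4) F) (b i j : Fin 4) : (A * (px b : Matrix (Fin 4) (Fin 4) F)) i j = A i (xr j b) := by
  simp [Matrix.mul_apply, px, mul_ite]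

lemma px_mul_apply (A : Matrix (Fin 4) (Fin 4) F) (b i j : Fin 4) : ((px b : Matrix (Fin 4) (Fin 4) F) * A) i j = A (xr i b) j := by
  have h : ∀ k, (i = xr k b) = (k = xr i b) := fun k => propext ⟨fun h => by rw [h, xr_xr], fun h => by rw [h, xr_xr]⟩
  simp [Matrix.mul_apply, px, ite_mul, h]

lemma hadamard_pz (a : Fin 4) : (hadamard : Matrix (Fin 4) (Fin 4) F) * pz a = px a * hadamard := by
  ext i j
  rw [pz, Matrix.mul_diagonal, px_mul_apply]
  simp only [hadamard, Matrix.of_apply]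
  rw [chi_comm (xr i a) j, chi_xr, chi_comm j i, chi_comm j a]
  push_cast
  rfl

lemma hadamard_px (b : Fin 4) : (hadamard : Matrix (Fin 4) (Fin 4) F) * px b = pz b * hadamard := by
  ext i j
  rw [pz, Matrix.diagonal_mul, mul_px_apply]
  simp only [hadamard, Matrix.of_apply]
  rw [chi_xr, chi_comm b i]
  push_cast
  ring

lemma px_pz (a b : Fin 4) : (px a : Matrix (Fin 4) (Fin 4) F) * pz b = (chi b a : F) • (pz b * px a) := by
  ext i j
  rw [pz, Matrix.mul_diagonal, Matrix.smul_apply, Matrix.diagonal_mul, smul_eq_mul]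
  simp only [px, Matrix.of_apply]
  split_ifs with h
  · rw [h, chi_xr]
    push_cast
    linear_combination -(chi b j : F) * chiF_sq (F := F) b a
  · simp

/-- The set of scalar multiples of Pauli matrices. -/
def pauliSet (F : Type*) [Field F] : Set (Matrix (Fin 4) (Fin 4) F) :=
  {u | ∃ (c : F) (a b : Fin 4), c ≠ 0 ∧ u = c • (pz a * px b)}

/-- The stabiliser of the Pauli matrices under conjugation. -/
def pauliStabilizer (F : Type*) [Field F] : Subgroup (GL (Fin 4) F) where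
  carrier := {g | ∀ u, u ∈ pauliSet F ↔ conjM g u ∈ pauliSet F}
  one_mem' := fun u => by simp [conjM_apply]
  mul_mem' := fun {x y} hx hy u => by rw [hy u, hx, ← conjM_mul]
  inv_mem' := fun {x} hx u => by
    rw [hx (conjM x⁻¹ u), ← conjM_mul]
    simp [conjM_apply]

lemma mem_pauliStabilizer {g : GL (Fin 4) F}
    (h₁ : ∀ u ∈ pauliSet F, conjM g u ∈ pauliSet F) (h₂ : ∀ u ∈ pauliSet F, conjM g⁻¹ u ∈ pauliSet F) :
    g ∈ pauliStabilizer F := by
  intro u
  refine ⟨h₁ u, fun h => ?_⟩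
  have := h₂ _ h
  rwa [← conjM_mul, inv_mul_cancel, conjM_apply, inv_one, Units.val_one, mul_one, one_mul] at this

lemma conjM_eq_of_comm {g : GL (Fin 4) F} {u v : Matrix (Fin 4) (Fin 4) F}
    (h : (g : Matrix (Fin 4) (Fin 4) F) * u = v * g) : conjM g u = v := by
  rw [conjM_apply, h, mul_assoc, Units.mul_inv, mul_one]

lemma pow_four [Fintype F] (hq : Fintype.card F = 5) {a : F} (ha : a ≠ 0) : a ^ 4 = 1 := by
  have := FiniteField.pow_card_sub_one_eq_one a ha
  rwa [hq] at this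

lemma sq_eq_one_or [Fintype F] (hq : Fintype.card F = 5) {a : F} (ha : a ≠ 0) :
    a ^ 2 = 1 ∨ a ^ 2 = -1 := by
  refine sq_eq_one_iff.mp ?_
  rw [← pow_mul]
  exact pow_four hq ha

lemma exists_chi [Fintype F] (hq : Fintype.card F = 5) (r : Fin 4 → F) (h0 : ∀ j, r j ≠ 0)
    (hsq : ∀ j, r j ^ 2 = r 0 ^ 2) (hprod : r 0 * r 1 * r 2 * r 3 = 1) :
    ∃ (c : F) (a : Fin 4), c ≠ 0 ∧ ∀ j, r j = c * chi a j := by
  classical
  obtain ⟨a, ha0, ha1, ha2, ha3⟩ := sign_table (decide (r 1 = r 0)) (decide (r 2 = r 0))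
  have key : ∀ j, r j = r 0 * (if r j = r 0 then (1 : F) else -1) := fun j => by
    split_ifs with h
    · rw [mul_one, h]
    · rw [mul_neg_one]
      exact (sq_eq_sq_iff_eq_or_eq_neg.mp (hsq j)).resolve_left h
  have h1 : r 1 = r 0 * (chi a 1 : F) := by
    rw [ha1]; refine (key 1).trans ?_
    by_cases h : r 1 = r 0 <;> simp [h]
  have h2 : r 2 = r 0 * (chi a 2 : F) := by
    rw [ha2]; refine (key 2).trans ?_
    by_cases h : r 2 = r 0 <;> simp [h]
  have h12 : (chi a 3 : F) = chi a 1 * chi a 2 := by rw [ha3, ha1, ha2]; push_cast; rfl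
  have h3 : r 3 = r 0 * (chi a 3 : F) := by
    have h4 : r 0 ^ 4 = 1 := pow_four hq (h0 0)
    rw [h1, h2] at hprod
    rw [h12]
    linear_combination -(r 3) * h4 + (r 0 * (chi a 1 : F) * chi a 2) * hprod
      - (r 0 ^ 4 * r 3 * ((chi a 1 : F) * chi a 1)) * chiF_sq (F := F) a 2
      - (r 0 ^ 4 * r 3) * chiF_sq (F := F) a 1
  refine ⟨r 0, a, h0 0, fun j => ?_⟩
  fin_cases j
  · simp [ha0]
  · exact h1
  · exact h2
  · exact h3

lemma pz_mul_pz : ∀ a a' : Fin 4, (pz a : Matrix (Fin 4) (Fin 4) F) * pz a' = pz (xr a a') := by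
  intro a a'
  rw [pz, pz, pz, Matrix.diagonal_mul_diagonal]
  congr 1
  funext i
  rw [chi_comm (xr a a') i, chi_xr, chi_comm i a, chi_comm i a']
  push_cast
  rfl

/-- Monomial matrices of determinant one preserve the Pauli matrices. -/
lemma monomial_conj [Fintype F] (hq : Fintype.card F = 5) {k : GL (Fin 4) F} {π : Perm (Fin 4)}
    {a : Fin 4 → F} (hk : ∀ i j, (k : Matrix (Fin 4) (Fin 4) F) i j = if i = π j then a j else 0)
    (ha : ∀ j, a j ≠ 0) (hdet : (a 0 * a 1 * a 2 * a 3) ^ 2 = 1) :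
    ∀ u ∈ pauliSet F, conjM k u ∈ pauliSet F := by
  classical
  set K : Matrix (Fin 4) (Fin 4) F := (k : Matrix (Fin 4) (Fin 4) F) with hK
  have hz : ∀ a₁, ∃ (s : F) (a₂ : Fin 4), s ≠ 0 ∧ K * pz a₁ = s • (pz a₂ * K) := by
    intro a₁
    obtain ⟨a₂, h⟩ := perm_chi π a₁
    refine ⟨((chi a₁ 0 * chi a₂ (π 0) : ℤ) : F), a₂, ?_, ?_⟩
    · push_cast
      refine mul_ne_zero ?_ ?_ <;> intro h0
      · simpa [h0] using chiF_sq (F := F) a₁ 0
      · simpa [h0] using chiF_sq (F := F) a₂ (π 0)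
    · ext i j
      rw [pz, Matrix.mul_diagonal, Matrix.smul_apply, pz, Matrix.diagonal_mul, hk, smul_eq_mul]
      split_ifs with hi
      · rw [hi, h j]; push_cast; ring
      · simp
  have hx : ∀ b₁, ∃ (s : F) (a₂ b₂ : Fin 4), s ≠ 0 ∧ K * px b₁ = s • (pz a₂ * px b₂ * K) := by
    intro b₁
    obtain ⟨b₂, hb⟩ := perm_xr π b₁
    set r : Fin 4 → F := fun j => a (xr j b₁) * (a j)⁻¹ with hr
    have hr0 : ∀ j, r j ≠ 0 := fun j => mul_ne_zero (ha _) (inv_ne_zero (ha j))
    have hinv : ∀ x : F, x ≠ 0 → x⁻¹ ^ 2 = x ^ 2 := fun x hx => by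
      rw [inv_pow]
      exact inv_eq_of_mul_eq_one_right (by rw [← pow_add]; exact pow_four hq hx)
    have hrsq : ∀ j, r j ^ 2 = (a (xr j b₁) * a j) ^ 2 := fun j => by
      simp only [hr, mul_pow, hinv _ (ha j)]
    have hcases : ∀ j, xr j b₁ = j ∨ a (xr j b₁) * a j = a (xr 0 b₁) * a 0 ∨
        (a (xr j b₁) * a j) * (a (xr 0 b₁) * a 0) = a 0 * a 1 * a 2 * a 3 := by
      intro j
      fin_cases b₁ <;> fin_cases j <;> first
        | exact Or.inl rfl
        | exact Or.inr (Or.inl rfl)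
        | exact Or.inr (Or.inl (mul_comm _ _))
        | exact Or.inr (Or.inr (by simp [xr]; ring))
    have hpow : ∀ x : F, x ≠ 0 → (x * x) ^ 2 = 1 := fun x hx => by
      rw [mul_pow, ← pow_add]; exact pow_four hq hx
    have hsq : ∀ j, r j ^ 2 = r 0 ^ 2 := by
      intro j
      rw [hrsq, hrsq]
      rcases hcases j with h | h | h
      · have hb1 : b₁ = 0 := xr_fix j b₁ h
        rw [hb1, xr_zero, xr_zero, hpow _ (ha _), hpow _ (ha _)]
      · rw [h]
      · have h1 : ((a (xr j b₁) * a j) * (a (xr 0 b₁) * a 0)) ^ 2 = 1 := by rw [h]; exact hdet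
        have h2 : (a (xr 0 b₁) * a 0) ^ 4 = 1 := pow_four hq (mul_ne_zero (ha _) (ha _))
        linear_combination (a (xr 0 b₁) * a 0) ^ 2 * h1 - (a (xr j b₁) * a j) ^ 2 * h2
    have hprod : r 0 * r 1 * r 2 * r 3 = 1 := by
      have : a (xr 0 b₁) * a (xr 1 b₁) * a (xr 2 b₁) * a (xr 3 b₁) = a 0 * a 1 * a 2 * a 3 := by
        fin_cases b₁ <;> simp [xr] <;> ring
      simp only [hr]
      have h0 := ha 0; have h1 := ha 1; have h2 := ha 2; have h3 := ha 3
      field_simp
      linear_combination this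
    obtain ⟨c, a₁, hc, hca⟩ := exists_chi hq r hr0 hsq hprod
    obtain ⟨a₂, ha₂⟩ := perm_chi π a₁
    refine ⟨c * ((chi a₁ 0 * chi a₂ (π 0) * chi a₂ b₂ : ℤ) : F), a₂, b₂, ?_, ?_⟩
    · push_cast
      refine mul_ne_zero hc (mul_ne_zero (mul_ne_zero ?_ ?_) ?_) <;> intro h0
      · simpa [h0] using chiF_sq (F := F) a₁ 0
      · simpa [h0] using chiF_sq (F := F) a₂ (π 0)
      · simpa [h0] using chiF_sq (F := F) a₂ b₂
    · ext i j
      rw [mul_px_apply, Matrix.smul_apply, smul_eq_mul, mul_assoc (pz a₂), pz, Matrix.diagonal_mul,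
        px_mul_apply, hk, hk, hb j]
      by_cases hi : i = xr (π j) b₂
      · rw [if_pos hi, if_pos (by rw [hi, xr_xr]), hi, chi_xr]
        have h1 : a (xr j b₁) = c * (chi a₁ j : F) * a j := by
          rw [← hca j]; simp only [hr]; field_simp [ha j]
        rw [h1, ha₂ j]
        push_cast
        linear_combination (-(c * chi a₁ 0 * chi a₂ (π 0) * chi a₂ (π j) * a j)) * chiF_sq (F := F) a₂ b₂
      · rw [if_neg hi, if_neg (fun h => hi (by rw [← h, xr_xr]))]
        simp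
  rintro u ⟨c, a₁, b₁, hc, rfl⟩
  obtain ⟨s, a₂, hs, hsa⟩ := hz a₁
  obtain ⟨s', a₃, b₃, hs', hsb⟩ := hx b₁
  refine ⟨c * (s * s'), xr a₂ a₃, b₃, mul_ne_zero hc (mul_ne_zero hs hs'), conjM_eq_of_comm ?_⟩
  rw [← hK, Matrix.mul_smul, ← mul_assoc, hsa, Matrix.smul_mul, mul_assoc (pz a₂), hsb, Matrix.mul_smul,
    smul_smul, smul_smul, ← pz_mul_pz, Matrix.smul_mul]
  simp only [mul_assoc]

lemma five_eq_zero [Fintype F] (hq : Fintype.card F = 5) : (5 : F) = 0 := by
  have := FiniteField.cast_card_eq_zero F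
  rw [hq] at this
  exact_mod_cast this

lemma hadamard_sq : (hadamard : Matrix (Fin 4) (Fin 4) F) * hadamard = (4 : F) • 1 := by
  ext i j
  fin_cases i <;> fin_cases j <;> simp [hadamard, chi, Matrix.mul_apply, Fin.sum_univ_four] <;> norm_num

lemma hadamard_det : (hadamard : Matrix (Fin 4) (Fin 4) F).det = 16 := by
  have h : (Matrix.of chi : Matrix (Fin 4) (Fin 4) ℤ).det = 16 := by
    simp [Matrix.det_succ_row_zero, Fin.sum_univ_succ, chi]
    decide
  have h2 : (hadamard : Matrix (Fin 4) (Fin 4) F) = (Int.castRingHom F).mapMatrix (Matrix.of chi) := by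
    ext i j; rfl
  rw [h2, ← RingHom.map_det, h]
  simp

/-- The stabiliser of a frame of lines in `SL_4(5)` is not maximal. -/
theorem lines_not_maximal [Fintype F] (hq : Fintype.card F = 5) {H : Subgroup (GL (Fin 4) F)}
    (hH : IsMaximalIn (specialLinear (Fin 4) F) H) {t : ℕ} {D : Fin t → Submodule F (Fin 4 → F)}
    (hD : IsMDecomposition 1 D) (hle : H ≤ decompositionStabilizer D) : False := by
  classical
  obtain ⟨e, P, hP⟩ := exists_frame hD
  obtain rfl : t = 4 := by simpa using (Fintype.card_congr e).symm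
  set f : Fin 4 ≃ Fin 4 := e.trans (Equiv.prodUnique (Fin 4) (Fin 1)) with hf
  let Φ : GL (Fin 4) F →* GL (Fin 4) F := ((MulAut.conj P).toMonoidHom).comp (glReindex f.symm).toMonoidHom
  have hΦdet : ∀ x, Φ x ∈ specialLinear (Fin 4) F ↔ x ∈ specialLinear (Fin 4) F := by
    intro x
    show (MulAut.conj P) (glReindex f.symm x) ∈ specialLinear (Fin 4) F ↔ _
    rw [MulAut.conj_apply, ← glReindex_mem_specialLinear_iff f.symm x]
    show Matrix.GeneralLinearGroup.det _ = 1 ↔ Matrix.GeneralLinearGroup.det _ = 1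
    rw [map_mul, map_mul, map_inv, mul_inv_cancel_comm]
  have hmono : ∀ g ∈ decompositionStabilizer D, ∀ x, Φ x = g → ∃ (π : Perm (Fin 4)) (a : Fin 4 → F),
      (∀ j, a j ≠ 0) ∧ ∀ i j, (x : Matrix (Fin 4) (Fin 4) F) i j = if i = π j then a j else 0 := by
    intro g hg x hxg
    obtain ⟨σ, B, hk, hu⟩ := hP g hg
    refine ⟨σ, fun j => B j 0 0, fun j => det_fin_one_ne_zero (hu j), fun i j => ?_⟩
    have h1 : (P⁻¹ * g * P : GL (Fin 4) F) = glReindex f.symm x := by
      rw [← hxg]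
      show P⁻¹ * (P * glReindex f.symm x * P⁻¹) * P = _
      group
    rw [h1] at hk
    have h2 := congrFun (congrFun hk (f.symm i)) (f.symm j)
    simpa [glReindex, Matrix.reindex_apply, hf, blockMono_apply] using h2
  have hHM : H ≤ (pauliStabilizer F).map Φ ⊓ specialLinear (Fin 4) F := by
    intro g hg
    have hgSL := hH.1.le hg
    refine ⟨?_, hgSL⟩
    let x : GL (Fin 4) F := glReindex f (P⁻¹ * g * P)
    have hx : Φ x = g := by
      show P * glReindex f.symm (glReindex f (P⁻¹ * g * P)) * P⁻¹ = g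
      have : glReindex f.symm (glReindex f (P⁻¹ * g * P)) = P⁻¹ * g * P := by
        apply Units.ext
        ext i j
        simp [glReindex, Matrix.reindex_apply]
      rw [this]
      group
    refine ⟨x, ?_, hx⟩
    have key : ∀ y : GL (Fin 4) F, Φ y ∈ H → ∀ u ∈ pauliSet F, conjM y u ∈ pauliSet F := by
      intro y hy
      obtain ⟨π, a, ha, hk⟩ := hmono _ (hle hy) y rfl
      refine monomial_conj hq hk ha ?_
      have hyd : (y : Matrix (Fin 4) (Fin 4) F).det = 1 := by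
        have := (hΦdet y).mp (hH.1.le hy)
        have h1 := congrArg (fun u : Fˣ => (u : F)) (show Matrix.GeneralLinearGroup.det y = 1 from this)
        simpa using h1
      have hm : (y : Matrix (Fin 4) (Fin 4) F) = (Matrix.diagonal a).submatrix π.symm id := by
        ext i j
        rw [hk, Matrix.submatrix_apply, Matrix.diagonal_apply]
        simp only [id_eq, Equiv.symm_apply_eq]
        split_ifs with h
        · rw [h, Equiv.symm_apply_apply]
        · rfl
      rw [hm, Matrix.det_permute, Matrix.det_diagonal, Fin.prod_univ_four] at hyd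
      rcases Int.units_eq_one_or (Perm.sign π.symm) with h | h <;> rw [h] at hyd <;> simp at hyd
      · rw [hyd, one_pow]
      · linear_combination (-(a 0 * a 1 * a 2 * a 3) + 1) * hyd
    exact mem_pauliStabilizer (key x (by rw [hx]; exact hg)) (key x⁻¹ (by rw [map_inv, hx]; exact inv_mem hg))
  -- the character table
  have h4 : ((4 : F)) * 4 = 1 := by linear_combination (3 : F) * five_eq_zero hq
  let g₀ : GL (Fin 4) F :=
    { val := hadamard
      inv := (4 : F) • hadamard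
      val_inv := by rw [Matrix.mul_smul, hadamard_sq, smul_smul, h4, one_smul]
      inv_val := by rw [Matrix.smul_mul, hadamard_sq, smul_smul, h4, one_smul] }
  have hg0SL : g₀ ∈ specialLinear (Fin 4) F := by
    show Matrix.GeneralLinearGroup.det g₀ = 1
    apply Units.ext
    rw [Matrix.GeneralLinearGroup.val_det_apply, Units.val_one]
    show (hadamard : Matrix (Fin 4) (Fin 4) F).det = 1
    rw [hadamard_det]
    linear_combination (3 : F) * five_eq_zero hq
  have hg0u : ∀ u ∈ pauliSet F, conjM g₀ u ∈ pauliSet F := by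
    rintro u ⟨c, a, b, hc, rfl⟩
    refine ⟨c * (chi b a : F), b, a, mul_ne_zero hc ?_, conjM_eq_of_comm ?_⟩
    · intro h0; simpa [h0] using chiF_sq (F := F) b a
    · show hadamard * _ = _ * hadamard
      rw [Matrix.mul_smul, ← mul_assoc, hadamard_pz, mul_assoc, hadamard_px, ← mul_assoc, px_pz,
        Matrix.smul_mul, smul_smul, Matrix.smul_mul]
  have hg0 : g₀ ∈ pauliStabilizer F := by
    refine mem_pauliStabilizer hg0u fun u hu => ?_
    have : conjM g₀⁻¹ u = conjM g₀ u := by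
      rw [conjM_apply, conjM_apply, inv_inv]
      show ((4 : F) • hadamard) * u * hadamard = hadamard * u * ((4 : F) • hadamard)
      simp [Matrix.smul_mul, Matrix.mul_smul]
    rw [this]
    exact hg0u u hu
  rcases hH.2 _ hHM inf_le_right with hM | hM
  · have hg0H : Φ g₀ ∈ H := hM ▸ ⟨⟨g₀, hg0, rfl⟩, (hΦdet g₀).mpr hg0SL⟩
    obtain ⟨π, a, -, hk⟩ := hmono _ (hle hg0H) g₀ rfl
    obtain ⟨i, hi⟩ : ∃ i, i ≠ π 0 := exists_ne _
    have h1 := hk i 0
    rw [if_neg hi] at h1
    have h2 := chiF_sq (F := F) i 0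
    rw [show (chi i 0 : F) = 0 from h1, zero_mul] at h2
    exact zero_ne_one h2
  · -- a transvection moves the Pauli matrices
    have h02 : (Pi.single (2 : Fin 4) (1 : F)) ⬝ᵥ (Pi.single (0 : Fin 4) 1) = 0 :=
      single_dot_single (by decide)
    set x : GL (Fin 4) F := tv (Pi.single 0 1) (Pi.single 2 1) h02 with hx
    have hxM : Φ x ∈ (pauliStabilizer F).map Φ ⊓ specialLinear (Fin 4) F := by
      rw [hM]; exact (hΦdet x).mpr (tv_mem_specialLinear _ _ _)
    obtain ⟨⟨y, hy, hyx⟩, -⟩ := hxM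
    have hinj : Function.Injective Φ := (MulAut.conj P).injective.comp (glReindex f.symm).injective
    rw [hinj hyx] at hy
    obtain ⟨c, a, b, hc, hu⟩ := (hy (pz 2)).mp ⟨1, 2, 0, one_ne_zero, by
      rw [one_smul]
      ext i j
      rw [pz, mul_px_apply, xr_zero]⟩
    have hval : ∀ i j, (conjM x (pz 2 : Matrix (Fin 4) (Fin 4) F)) i j =
        (((1 : Matrix (Fin 4) (Fin 4) F) + vecMulVec (Pi.single 0 1) (Pi.single 2 1)) * pz 2 *
          ((1 : Matrix (Fin 4) (Fin 4) F) - vecMulVec (Pi.single 0 1) (Pi.single 2 1)) :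
          Matrix (Fin 4) (Fin 4) F) i j := fun i j => by
      rw [conjM_apply, hx, coe_tv, coe_tv_inv]
    have h00 := congrFun (congrFun hu 0) 0
    have h02' := congrFun (congrFun hu 0) 2
    rw [hval] at h00 h02'
    simp [Matrix.mul_apply, Fin.sum_univ_four, vecMulVec_apply, Matrix.one_apply, pz, chi, Matrix.diagonal_apply, px,
      Pi.single_apply] at h00 h02'
    have h2 : (2 : F) ≠ 0 := by
      intro h
      exact one_ne_zero (α := F) (by linear_combination five_eq_zero hq - 2 * h)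
    fin_cases b <;> simp [xr] at h00 h02'
    all_goals exact h2 (by linear_combination -h02')

end Cfsg.Agent.Lib.MaxClass.N4Q5
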