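import Mathlib
import Cfsg.Prelude.Def_GeometricClasses
import Cfsg.Agent.Lib.Aschbacher.Linear

/-!
Over the field of two elements a tensor decomposition with a two-dimensional factor is stabilised
only by elements normalising a quadratic extension field.
-/

set_option autoImplicit false
set_option linter.style.haveILetI false

namespace Cfsg.Agent.Lib.MaxClass

open Cfsg Cfsg.Geo Matrix
open Cfsg.Agent.Lib.Aschbacher
open scoped Kronecker

variable {ι : Type} [Fintype ι] [DecidableEq ι] {F : Type*} [Field F]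

lemma zero_or_one_of_card_two [Fintype F] (hq : Fintype.card F = 2) (x : F) : x = 0 ∨ x = 1 := by
  by_cases hx : x = 0
  · exact Or.inl hx
  · refine Or.inr ?_
    have := FiniteField.pow_card_sub_one_eq_one x hx
    rwa [hq, pow_one] at this

/-- The quadratic field inside the two by two matrices over two elements. -/
def quadSub (F : Type*) [Field F] : Subalgebra F (Matrix (Fin 2) (Fin 2) F) where
  carrier := {A | A 0 1 = A 1 0 ∧ A 1 1 = A 0 0 + A 0 1}
  mul_mem' := by
    rintro A B ⟨h1, h2⟩ ⟨h3, h4⟩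
    simp only [Set.mem_ofPred_eq, Matrix.mul_apply, Fin.sum_univ_two, h2, h4, ← h1, ← h3]
    constructor <;> ring
  add_mem' := by
    rintro A B ⟨h1, h2⟩ ⟨h3, h4⟩
    simp only [Set.mem_ofPred_eq, Matrix.add_apply, h1, h2, h3, h4]
    exact ⟨trivial, by ring⟩
  algebraMap_mem' := fun c => by simp [Algebra.algebraMap_eq_smul_one, Matrix.one_apply]

lemma mem_quadSub {A : Matrix (Fin 2) (Fin 2) F} :
    A ∈ quadSub F ↔ A 0 1 = A 1 0 ∧ A 1 1 = A 0 0 + A 0 1 := Iff.rfl

lemma finrank_quadSub : Module.finrank F (quadSub F) = 2 := by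
  let f : quadSub F ≃ₗ[F] (Fin 2 → F) :=
    { toFun := fun A => ![(A : Matrix (Fin 2) (Fin 2) F) 0 0, (A : Matrix (Fin 2) (Fin 2) F) 0 1]
      invFun := fun v => ⟨!![v 0, v 1; v 1, v 0 + v 1], by simp [mem_quadSub]⟩
      map_add' := fun A B => by funext i; fin_cases i <;> simp
      map_smul' := fun c A => by funext i; fin_cases i <;> simp
      left_inv := fun A => by
        apply Subtype.ext
        ext i j
        fin_cases i <;> fin_cases j <;> simp [(mem_quadSub.mp A.2).1, (mem_quadSub.mp A.2).2]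
      right_inv := fun v => by funext i; fin_cases i <;> simp }
  rw [f.finrank_eq, Module.finrank_fintype_fun_eq_card, Fintype.card_fin]

lemma quadSub_inv [Fintype F] (hq : Fintype.card F = 2) {A : Matrix (Fin 2) (Fin 2) F} (hA : A ∈ quadSub F)
    (h0 : A ≠ 0) : ∃ B ∈ quadSub F, A * B = 1 := by
  obtain ⟨h1, h2⟩ := mem_quadSub.mp hA
  have h11 : (1 : F) + 1 = 0 := by
    have := FiniteField.cast_card_eq_zero F
    rw [hq] at this
    exact_mod_cast this
  rcases zero_or_one_of_card_two hq (A 0 0) with ha | ha <;>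
    rcases zero_or_one_of_card_two hq (A 0 1) with hb | hb
  · exact absurd (by ext i j; fin_cases i <;> fin_cases j <;> simp [ha, hb, ← h1, h2]) h0
  · refine ⟨!![1, 1; 1, 0], by simp [mem_quadSub, h11], ?_⟩
    ext i j
    fin_cases i <;> fin_cases j <;> simp [Matrix.mul_apply, ha, hb, ← h1, h2, h11]
  · exact ⟨1, one_mem _, by ext i j; fin_cases i <;> fin_cases j <;> simp [ha, hb, ← h1, h2]⟩
  · refine ⟨!![0, 1; 1, 1], by simp [mem_quadSub], ?_⟩
    ext i j
    fin_cases i <;> fin_cases j <;> simp [Matrix.mul_apply, ha, hb, ← h1, h2, h11]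

lemma quadSub_conj [Fintype F] (hq : Fintype.card F = 2) (a : GL (Fin 2) F) {A : Matrix (Fin 2) (Fin 2) F}
    (hA : A ∈ quadSub F) : conjM a A ∈ quadSub F := by
  have h11 : (1 : F) + 1 = 0 := by
    have := FiniteField.cast_card_eq_zero F
    rw [hq] at this
    exact_mod_cast this
  set C : Matrix (Fin 2) (Fin 2) F := !![0, 1; 1, 1] with hC
  have hCm : C ∈ quadSub F := by simp [hC, mem_quadSub]
  have hdec : A = A 0 0 • (1 : Matrix (Fin 2) (Fin 2) F) + A 0 1 • C := by
    ext i j
    fin_cases i <;> fin_cases j <;> simp [hC, (mem_quadSub.mp hA).1, (mem_quadSub.mp hA).2]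
  have hcases : (a : Matrix (Fin 2) (Fin 2) F) * C = C * a ∨ (a : Matrix (Fin 2) (Fin 2) F) * C = (C + 1) * a := by
    have hdet : (a : Matrix (Fin 2) (Fin 2) F).det ≠ 0 :=
      ((Matrix.isUnit_iff_isUnit_det _).mp a.isUnit).ne_zero
    rw [Matrix.det_fin_two] at hdet
    generalize (a : Matrix (Fin 2) (Fin 2) F) = M at hdet ⊢
    rcases zero_or_one_of_card_two hq (M 0 0) with h00 | h00 <;>
      rcases zero_or_one_of_card_two hq (M 0 1) with h01 | h01 <;>
      rcases zero_or_one_of_card_two hq (M 1 0) with h10 | h10 <;>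
      rcases zero_or_one_of_card_two hq (M 1 1) with h11' | h11' <;>
      simp [h00, h01, h10, h11'] at hdet <;>
      first
        | (left; ext i j; fin_cases i <;> fin_cases j <;> simp [hC, Matrix.mul_apply, h00, h01, h10, h11', h11]; done)
        | (right; ext i j; fin_cases i <;> fin_cases j <;> simp [hC, Matrix.mul_apply, h00, h01, h10, h11', h11]; done)
  rw [hdec, map_add, map_smul, map_smul, map_one]
  refine add_mem (Subalgebra.smul_mem _ (one_mem _) _) (Subalgebra.smul_mem _ ?_ _)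
  rcases hcases with h | h <;> rw [conjM_apply, h, mul_assoc, Units.mul_inv, mul_one]
  · exact hCm
  · exact add_mem hCm (one_mem _)

/-- `A ↦ A ⊗ 1`. -/
def kronOne (m n : ℕ) : Matrix (Fin m) (Fin m) F →ₐ[F] Matrix (Fin m × Fin n) (Fin m × Fin n) F where
  toFun := fun A => A ⊗ₖ (1 : Matrix (Fin n) (Fin n) F)
  map_one' := Matrix.one_kronecker_one
  map_mul' := fun A B => by rw [← Matrix.mul_kronecker_mul, one_mul]
  map_zero' := Matrix.zero_kronecker _
  map_add' := fun A B => Matrix.add_kronecker _ _ _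
  commutes' := fun c => by
    rw [Algebra.algebraMap_eq_smul_one, Algebra.algebraMap_eq_smul_one, Matrix.smul_kronecker,
      Matrix.one_kronecker_one]

lemma kronOne_apply {m n : ℕ} (A : Matrix (Fin m) (Fin m) F) :
    kronOne m n A = A ⊗ₖ (1 : Matrix (Fin n) (Fin n) F) := rfl

/-- The first tensor factor inside the matrices on `ι`. -/
noncomputable def tensorEmb {m n : ℕ} (e : ι ≃ Fin m × Fin n) (P : GL ι F) :
    Matrix (Fin m) (Fin m) F →ₐ[F] Matrix ι ι F :=
  ((conjM P).toAlgHom.comp (Matrix.reindexAlgEquiv F F e.symm).toAlgHom).comp (kronOne m n)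

lemma tensorEmb_apply {m n : ℕ} (e : ι ≃ Fin m × Fin n) (P : GL ι F) (A : Matrix (Fin m) (Fin m) F) :
    tensorEmb e P A = conjM P ((kronOne m n A).submatrix e e) := by
  simp only [tensorEmb, AlgHom.comp_apply]
  rfl

lemma tensorEmb_injective {m n : ℕ} (hn : 0 < n) (e : ι ≃ Fin m × Fin n) (P : GL ι F) :
    Function.Injective (tensorEmb e P) := by
  intro A B h
  rw [tensorEmb_apply, tensorEmb_apply] at h
  have h1 := (conjM P).injective h
  ext i j
  have := congrFun (congrFun h1 (e.symm (i, ⟨0, hn⟩))) (e.symm (j, ⟨0, hn⟩))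
  simpa [kronOne_apply] using this

/-- Over two elements, a tensor stabiliser with a two-dimensional factor normalises a quadratic field. -/
theorem tensor_card_two [Fintype F] (hq : Fintype.card F = 2) {n₂ : ℕ} (hn₂ : 0 < n₂)
    (e : ι ≃ Fin 2 × Fin n₂) (P : GL ι F) :
    ∃ K : Subalgebra F (Matrix ι ι F), IsFieldSubalgebra 2 K ∧
      tensorProductSubgroup 2 n₂ e P ≤ subalgebraNormalizer K := by
  obtain ⟨ψ, hψdef⟩ : ∃ ψ, ψ = tensorEmb e P := ⟨_, rfl⟩
  have hψ : Function.Injective ψ := hψdef ▸ tensorEmb_injective hn₂ e P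
  have hψa : ∀ A, ψ A = conjM P ((kronOne 2 n₂ A).submatrix e e) := fun A => by
    rw [hψdef, tensorEmb_apply]
  refine ⟨(quadSub F).map ψ, ⟨?_, ?_, ?_⟩, ?_⟩
  · rintro _ ⟨A, hA, rfl⟩ _ ⟨B, hB, rfl⟩
    show ψ A * ψ B = ψ B * ψ A
    rw [← map_mul, ← map_mul]
    congr 1
    obtain ⟨h1, h2⟩ := mem_quadSub.mp hA
    obtain ⟨h3, h4⟩ := mem_quadSub.mp hB
    ext i j
    fin_cases i <;> fin_cases j <;> simp [Matrix.mul_apply, ← h1, h2, ← h3, h4] <;> ring
  · rintro _ ⟨A, hA, rfl⟩ h0
    obtain ⟨B, hB, hAB⟩ := quadSub_inv hq hA (fun h => h0 (by rw [h]; exact map_zero ψ))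
    exact ⟨ψ B, ⟨B, hB, rfl⟩, by show ψ A * ψ B = 1; rw [← map_mul, hAB, map_one]⟩
  · rw [← (Subalgebra.equivMapOfInjective (quadSub F) ψ hψ).toLinearEquiv.finrank_eq, finrank_quadSub]
  · have key : ∀ g ∈ tensorProductSubgroup 2 n₂ e P, ∀ k ∈ (quadSub F).map ψ, conjM g k ∈ (quadSub F).map ψ := by
      rintro _ ⟨x', ⟨x, ⟨a, b, hab⟩, rfl⟩, rfl⟩ _ ⟨A, hA, rfl⟩
      refine ⟨conjM a A, quadSub_conj hq a hA, ?_⟩
      have hxA : (x : Matrix (Fin 2 × Fin n₂) (Fin 2 × Fin n₂) F) * kronOne 2 n₂ A =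
          kronOne 2 n₂ (conjM a A) * x := by
        rw [kronOne_apply, kronOne_apply, hab, ← Matrix.mul_kronecker_mul, ← Matrix.mul_kronecker_mul, mul_one,
          one_mul, conjM_apply, mul_assoc, mul_assoc, Units.inv_mul, mul_one]
      have hxA' : kronOne 2 n₂ (conjM a A) = conjM x (kronOne 2 n₂ A) := by
        rw [conjM_apply x, hxA, mul_assoc, Units.mul_inv, mul_one]
      have hre : conjM (glReindex e.symm x) ((kronOne 2 n₂ A).submatrix e e) =
          (conjM x (kronOne 2 n₂ A)).submatrix e e := by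
        rw [conjM_apply, conjM_apply, ← Matrix.submatrix_mul_equiv _ _ _ e, ← Matrix.submatrix_mul_equiv _ _ _ e]
        rfl
      show ψ (conjM a A) = conjM (P * glReindex e.symm x * P⁻¹) (ψ A)
      rw [hψa, hψa, ← conjM_mul, inv_mul_cancel_right, conjM_mul, hxA', hre]
    intro g hg k
    refine ⟨key g hg k, fun h => ?_⟩
    have := key g⁻¹ (inv_mem hg) _ h
    simpa [conjM_apply, mul_assoc] using this

end Cfsg.Agent.Lib.MaxClass
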