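import Mathlib
import Cfsg.Prelude.Def_GeometricClasses
import Cfsg.Agent.Lib.Aschbacher.Linear
import Cfsg.Agent.Lib.MaxClass.NotTop
import Cfsg.Agent.Lib.MaxClass.Degree
import Cfsg.Agent.Lib.MaxClass.LinearMonomial
import Cfsg.Agent.Lib.MaxClass.LinearN4Q5
import Cfsg.Agent.Lib.MaxClass.LinearTensor2
import Cfsg.Agent.Lib.MaxClass.LinearN3Q4

/-!
Maximal subgroups of the special linear groups: one of the geometric types, with the parameters that can
occur, or in the residual class.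
-/

set_option autoImplicit false
set_option linter.style.haveILetI false

namespace Cfsg.Agent.Lib.MaxClass

open Cfsg Cfsg.Geo Matrix
open Cfsg.Agent.Lib.Aschbacher

/-- A maximal subgroup below a subgroup not containing the top is the intersection with it. -/
theorem eq_inf_of_maximal_le {G : Type*} [Group G] {K H M : Subgroup G} (hH : IsMaximalIn K H) (hle : H ≤ M)
    (hns : ¬ K ≤ M) : H = M ⊓ K := by
  rcases hH.2 (M ⊓ K) (le_inf hle hH.1.le) inf_le_right with h | h
  · exact h.symm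
  · exact absurd (h ▸ inf_le_left) hns

/-- The multiplicative order of `p` modulo `r`, in the form used for minimal fields. -/
theorem minimal_exponent_facts {r p e : ℕ} (hr : r.Prime) (hp : p.Prime) (hrp : r ≠ p) (he : 0 < e)
    (h : r ∣ p ^ e - 1) (hmin : ∀ d : ℕ, 0 < d → d < e → ¬ r ∣ p ^ d - 1) :
    e ∣ r - 1 ∧ p ^ e % r = 1 ∧ ∀ d : ℕ, 0 < d → d < e → p ^ d % r ≠ 1 := by
  haveI := Fact.mk hr
  have hiff : ∀ d : ℕ, r ∣ p ^ d - 1 ↔ ((p : ZMod r)) ^ d = 1 := fun d => by
    rw [← ZMod.natCast_eq_zero_iff, Nat.cast_sub (Nat.one_le_pow _ _ hp.pos), sub_eq_zero]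
    simp
  have hmod : ∀ d : ℕ, p ^ d % r = 1 ↔ ((p : ZMod r)) ^ d = 1 := fun d => by
    rw [← Nat.cast_pow, ← Nat.cast_one (R := ZMod r), ZMod.natCast_eq_natCast_iff', Nat.one_mod_eq_one.mpr hr.ne_one]
  have hp0 : (p : ZMod r) ≠ 0 := by
    rw [Ne, ZMod.natCast_eq_zero_iff]
    exact fun h1 => hrp ((Nat.prime_dvd_prime_iff_eq hr hp).mp h1)
  have heq : orderOf (p : ZMod r) = e :=
    (orderOf_eq_iff he).mpr ⟨(hiff e).mp h, fun d hd hd0 hc => hmin d hd0 hd ((hiff d).mpr hc)⟩
  exact ⟨heq ▸ ZMod.orderOf_dvd_card_sub_one hp0, (hmod e).mpr ((hiff e).mp h),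
    fun d hd0 hd hc => hmin d hd0 hd ((hiff d).mpr ((hmod d).mp hc))⟩

variable {F : Type*} [Field F] [Fintype F] {n : ℕ}

/-- Maximal subgroups of `SL_n(F)`, `n ≥ 3`. -/
theorem linear_max (hn : 3 ≤ n) {H : Subgroup (GL (Fin n) F)}
    (hH : IsMaximalIn (specialLinear (Fin n) F) H) :
    (∃ W : Submodule F (Fin n → F), W ≠ ⊥ ∧ W ≠ ⊤ ∧ H = subspaceStabilizer W ⊓ specialLinear (Fin n) F) ∨
    (∃ (t m : ℕ) (D : Fin t → Submodule F (Fin n → F)), IsMDecomposition m D ∧ t * m = n ∧
      (m = 1 → 5 ≤ Fintype.card F ∧ (n = 4 → 7 ≤ Fintype.card F)) ∧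
      (m = 2 → 3 ≤ Fintype.card F ∧ (n = 4 → 4 ≤ Fintype.card F)) ∧
      H = decompositionStabilizer D ⊓ specialLinear (Fin n) F) ∨
    (∃ (r : ℕ) (K : Subalgebra F (Matrix (Fin n) (Fin n) F)), r.Prime ∧ r ∣ n ∧ IsFieldSubalgebra r K ∧
      (n = 3 → Fintype.card F ≠ 4) ∧ H = subalgebraNormalizer K ⊓ specialLinear (Fin n) F) ∨
    (∃ (n₁ n₂ : ℕ) (e : Fin n ≃ Fin n₁ × Fin n₂) (P : GL (Fin n) F), 2 ≤ n₁ ∧ n₁ < n₂ ∧ n₁ * n₂ = n ∧
      (n₁ = 2 → 3 ≤ Fintype.card F) ∧ H = tensorProductSubgroup n₁ n₂ e P ⊓ specialLinear (Fin n) F) ∨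
    (∃ (F₀ : Subfield F) (r : ℕ) (P : GL (Fin n) F), r.Prime ∧ Fintype.card F = Nat.card F₀ ^ r ∧
      H = subfieldSubgroup F₀ P ⊓ specialLinear (Fin n) F) ∨
    (∃ (r p e m : ℕ) (R : Subgroup (GL (Fin n) F)), IsLinearSymplecticTypeData r R ∧ p.Prime ∧ CharP F p ∧
      Fintype.card F = p ^ e ∧ r.Prime ∧ n = r ^ m ∧ 1 ≤ m ∧
      ((Odd r ∧ Odd e ∧ e ∣ r - 1 ∧ p ^ e % r = 1 ∧ ∀ d : ℕ, 0 < d → d < e → p ^ d % r ≠ 1) ∨
        (r = 2 ∧ e = 1 ∧ p % 4 = 1)) ∧
      H = subgroupNormalizer R ⊓ specialLinear (Fin n) F) ∨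
    (∃ (m t : ℕ) (e : Fin n ≃ (Fin t → Fin m)) (P : GL (Fin n) F), 3 ≤ m ∧ 2 ≤ t ∧ m ^ t = n ∧
      H = tensorWreathSubgroup m t e P ⊓ specialLinear (Fin n) F) ∨
    (∃ f : (Fin n → F) → (Fin n → F) → F, IsSymplecticForm f ∧ Even n ∧
      H = similarityGroup f ⊓ specialLinear (Fin n) F) ∨
    (∃ (σ : F ≃+* F) (f : (Fin n → F) → (Fin n → F) → F), IsUnitaryForm σ f ∧
      H = similarityGroup f ⊓ specialLinear (Fin n) F) ∨
    (∃ Q : (Fin n → F) → F, IsNondegenerateQuadraticForm Q ∧ Odd (Fintype.card F) ∧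
      H = quadSimilarityGroup Q ⊓ specialLinear (Fin n) F) ∨
    InLinearResidualClass H := by
  classical
  haveI : Nonempty (Fin n) := ⟨⟨0, by omega⟩⟩
  have hι : 3 ≤ Fintype.card (Fin n) := by rw [Fintype.card_fin]; exact hn
  have hq1 : 1 < Fintype.card F := Fintype.one_lt_card
  rcases linear_class_or_residual hn H with ⟨M, hM, hle⟩ | hres
  swap
  · right; right; right; right; right; right; right; right; right; right
    exact hres
  have hsub : ∀ W : Submodule F (Fin n → F), W ≠ ⊥ → W ≠ ⊤ → H ≤ subspaceStabilizer W →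
      H = subspaceStabilizer W ⊓ specialLinear (Fin n) F :=
    fun W h0 h1 h => eq_inf_of_maximal_le hH h (not_le_subspaceStabilizer h0 h1)
  rcases hM with h | h | h | h | h | h | h | h | h | h | h | h
  · obtain ⟨W, h0, h1, rfl⟩ := h
    exact Or.inl ⟨W, h0, h1, hsub W h0 h1 hle⟩
  · obtain ⟨W, U, h0, hlt, -, rfl⟩ := h
    exact Or.inl ⟨W, h0, (hlt.trans_le le_top).ne, hsub W h0 (hlt.trans_le le_top).ne (hle.trans inf_le_left)⟩
  · obtain ⟨W, U, h0, hinf, -, hlt, rfl⟩ := h
    have h1 : W ≠ ⊤ := by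
      rintro rfl
      rw [top_inf_eq] at hinf
      rw [hinf, finrank_bot] at hlt
      exact Nat.not_lt_zero _ hlt
    exact Or.inl ⟨W, h0, h1, hsub W h0 h1 (hle.trans inf_le_left)⟩
  · obtain ⟨t, m, D, hD, rfl⟩ := h
    have htm : t * m = n := by simpa using isMDecomposition_card hD
    by_cases h12 : m = 1 ∧ Fintype.card F = 2
    · obtain ⟨rfl, hq⟩ := h12
      obtain ⟨W, h0, h1, hW⟩ := lines_card_two hD hq (by omega)
      exact Or.inl ⟨W, h0, h1, hsub W h0 h1 (hle.trans hW)⟩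
    by_cases h13 : m = 1 ∧ Fintype.card F = 3
    · obtain ⟨rfl, hq⟩ := h13
      obtain ⟨Q, hQ, hQle⟩ := lines_card_three hD hq
      right; right; right; right; right; right; right; right; right; left
      exact ⟨Q, hQ, by rw [hq]; decide, eq_inf_of_maximal_le hH (hle.trans hQle) (not_le_quadSimilarityGroup hι hQ)⟩
    by_cases h14 : m = 1 ∧ Fintype.card F = 4
    · obtain ⟨rfl, hq⟩ := h14
      obtain ⟨τ, f, hf, hfle⟩ := lines_card_four hD hq
      right; right; right; right; right; right; right; right; left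
      exact ⟨τ, f, hf, eq_inf_of_maximal_le hH (hle.trans hfle) (not_le_similarityGroup_unitary hι hf)⟩
    by_cases h22 : m = 2 ∧ Fintype.card F = 2
    · obtain ⟨rfl, hq⟩ := h22
      obtain ⟨f, hf, hfle⟩ := planes_card_two hD hq
      right; right; right; right; right; right; right; left
      exact ⟨f, hf, ⟨t, by omega⟩, eq_inf_of_maximal_le hH (hle.trans hfle)
        (not_le_similarityGroup_bilinear hι hf.bilinear hf.nondegenerate)⟩
    by_cases h23 : m = 2 ∧ n = 4 ∧ Fintype.card F = 3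
    · obtain ⟨rfl, hn4, hq⟩ := h23
      obtain rfl : t = 2 := by omega
      obtain ⟨f, hf, hfle⟩ := planes_card_three hD hq
      right; right; right; right; right; right; right; left
      exact ⟨f, hf, ⟨2, by omega⟩, eq_inf_of_maximal_le hH ((le_inf hle hH.1.le).trans hfle)
        (not_le_similarityGroup_bilinear hι hf.bilinear hf.nondegenerate)⟩
    refine Or.inr (Or.inl ⟨t, m, D, hD, htm, fun hm => ?_, fun hm => ?_,
      eq_inf_of_maximal_le hH hle (not_le_decompositionStabilizer hD)⟩)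
    · refine ⟨by omega, fun hn4 => ?_⟩
      subst hn4 hm
      have h5 : Fintype.card F ≠ 5 := fun hq => N4Q5.lines_not_maximal hq hH hD hle
      have h6 : Fintype.card F ≠ 6 := fun hq => by
        obtain ⟨p, hchar⟩ := CharP.exists F
        obtain ⟨a, hp, ha⟩ := FiniteField.card F p
        rw [hq] at ha
        have hp6 : p ∣ 6 := ha ▸ dvd_pow_self p a.pos.ne'
        have h2 : 2 ∣ p := Nat.prime_two.dvd_of_dvd_pow (ha ▸ (by norm_num : 2 ∣ 6))
        have h3 : 3 ∣ p := Nat.prime_three.dvd_of_dvd_pow (ha ▸ (by norm_num : 3 ∣ 6))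
        have h2' := (Nat.prime_dvd_prime_iff_eq Nat.prime_two hp).mp h2
        have h3' := (Nat.prime_dvd_prime_iff_eq Nat.prime_three hp).mp h3
        omega
      omega
    · exact ⟨by omega, fun hn4 => by omega⟩
  · obtain ⟨r, K, hr, hK, rfl⟩ := h
    have hdvd : r ∣ n := by simpa using finrank_dvd_of_isFieldSubalgebra hK
    by_cases h34 : n = 3 ∧ Fintype.card F = 4
    · obtain ⟨rfl, hq⟩ := h34
      obtain rfl : r = 3 := (Nat.prime_dvd_prime_iff_eq hr Nat.prime_three).mp hdvd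
      obtain ⟨F₀, P, hcard, hne, hFle⟩ := field_three_four hq hK
      right; right; right; right; left
      exact ⟨F₀, 2, P, Nat.prime_two, hcard, eq_inf_of_maximal_le hH ((le_inf hle hH.1.le).trans hFle)
        (not_le_subfieldSubgroup (by omega) hne P)⟩
    refine Or.inr (Or.inr (Or.inl ⟨r, K, hr, hdvd, hK, fun h3 h4 => h34 ⟨h3, h4⟩,
      eq_inf_of_maximal_le hH hle (not_le_subalgebraNormalizer hι hr.two_le hK)⟩))
  · obtain ⟨n₁, n₂, e, P, h1, h2, rfl⟩ := h
    have hnn : n₁ * n₂ = n := by simpa using (Fintype.card_congr e).symm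
    by_cases h22 : n₁ = 2 ∧ Fintype.card F = 2
    · obtain ⟨rfl, hq⟩ := h22
      obtain ⟨K, hK, hKle⟩ := tensor_card_two hq (by omega) e P
      exact Or.inr (Or.inr (Or.inl ⟨2, K, Nat.prime_two, ⟨n₂, hnn.symm⟩, hK, fun h3 => by omega,
        eq_inf_of_maximal_le hH (hle.trans hKle) (not_le_subalgebraNormalizer hι le_rfl hK)⟩))
    exact Or.inr (Or.inr (Or.inr (Or.inl ⟨n₁, n₂, e, P, h1, h2, hnn, fun h => by omega,
      eq_inf_of_maximal_le hH hle (not_le_tensorProductSubgroup h1 (by omega) e P)⟩)))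
  · obtain ⟨F₀, r, P, hr, hcard, rfl⟩ := h
    right; right; right; right; left
    refine ⟨F₀, r, P, hr, hcard, eq_inf_of_maximal_le hH hle (not_le_subfieldSubgroup (by omega) ?_ P)⟩
    rintro rfl
    have htop : Nat.card (⊤ : Subfield F) = Fintype.card F := by
      rw [← Nat.card_eq_fintype_card]
      exact Nat.card_congr Subfield.topEquiv.toEquiv
    rw [htop] at hcard
    have hlt := Nat.pow_lt_pow_right hq1 hr.one_lt
    rw [pow_one] at hlt
    exact hlt.ne hcard
  · obtain ⟨r, R, hR, rfl⟩ := h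
    obtain ⟨p, e, hrp, ⟨hp, hchar, hcard, hdvd, hmin⟩, hcases⟩ := hR.field
    haveI := hchar
    have hns : ¬ R ≤ scalars (Fin n) F := fun h => by
      have := card_le_one_of_le_scalars h hR.absIrred.1
      omega
    have hexp := hR.symplecticType.exponent_eq
    have he : 0 < e := by
      rcases Nat.eq_zero_or_pos e with h | h
      · rw [h, pow_zero] at hcard; omega
      · exact h
    right; right; right; right; right; left
    have heq := eq_inf_of_maximal_le hH hle
      (not_le_subgroupNormalizer hι hrp hR.symplecticType.prime hR.symplecticType.pGroup hns)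
    rcases hcases with ⟨hrodd, heodd, hz, m, hm, hRc⟩ | ⟨hr2, he1, hz, -, m, hRc⟩ | ⟨-, -, h2, -⟩
    · have hdeg := symplecticType_degree hrp hR.symplecticType hR.absIrred hz
        (by rw [hexp]; exact dvd_of_eq (by
          rw [(Nat.coprime_two_left.mpr hrodd).gcd_eq_one, mul_one]))
        (by rw [hRc, pow_add, pow_one] : Nat.card R = r * r ^ (2 * m))
      rw [Fintype.card_fin] at hdeg
      rw [hz] at hdvd hmin
      obtain ⟨f1, f2, f3⟩ := minimal_exponent_facts hR.symplecticType.prime hp hrp he hdvd hmin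
      exact ⟨r, p, e, m, R, hR, hp, hchar, hcard, hR.symplecticType.prime, hdeg, hm,
        Or.inl ⟨hrodd, heodd, f1, f2, f3⟩, heq⟩
    · subst hr2 he1
      have hdeg := symplecticType_degree hrp hR.symplecticType hR.absIrred hz
        (by rw [hexp]; norm_num)
        (by rw [hRc, pow_add]; norm_num : Nat.card R = 4 * 2 ^ (2 * m))
      rw [Fintype.card_fin] at hdeg
      rw [hz, pow_one] at hdvd
      refine ⟨2, p, 1, m, R, hR, hp, hchar, hcard, Nat.prime_two, hdeg, ?_, Or.inr ⟨rfl, rfl, ?_⟩, heq⟩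
      · rcases Nat.eq_zero_or_pos m with h | h
        · rw [h, pow_zero] at hdeg; omega
        · exact h
      · have := hp.two_le; omega
    · rw [Fintype.card_fin] at h2; omega
  · obtain ⟨m, t, e, P, hm, ht, rfl⟩ := h
    right; right; right; right; right; right; left
    exact ⟨m, t, e, P, hm, ht, by simpa using (Fintype.card_congr e).symm,
      eq_inf_of_maximal_le hH hle (not_le_tensorWreathSubgroup (by omega) ht e P)⟩
  · obtain ⟨f, hf, hev, -, rfl⟩ := h
    right; right; right; right; right; right; right; left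
    exact ⟨f, hf, hev, eq_inf_of_maximal_le hH hle (not_le_similarityGroup_bilinear hι hf.bilinear hf.nondegenerate)⟩
  · obtain ⟨σ, f, hf, -, rfl⟩ := h
    right; right; right; right; right; right; right; right; left
    exact ⟨σ, f, hf, eq_inf_of_maximal_le hH hle (not_le_similarityGroup_unitary hι hf)⟩
  · obtain ⟨Q, hQ, hodd, -, rfl⟩ := h
    right; right; right; right; right; right; right; right; right; left
    exact ⟨Q, hQ, hodd, eq_inf_of_maximal_le hH hle (not_le_quadSimilarityGroup hι hQ)⟩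

end Cfsg.Agent.Lib.MaxClass
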