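import Mathlib
import Cfsg.Prelude.Def_GeometricClasses
import Cfsg.Agent.Lib.MaxClass.NotTop
import Cfsg.Agent.Lib.MaxClass.Degree
import Cfsg.Agent.Lib.MaxClass.ExponentFour
import Cfsg.Agent.Lib.Aschbacher.SympCases

/-!
No member of a geometric class contains the symplectic group.
-/

set_option autoImplicit false
set_option linter.style.haveILetI false
set_option linter.unusedSectionVars false

namespace Cfsg.Agent.Lib.MaxClass

open Cfsg Cfsg.Geo Matrix
open Cfsg.Agent.Lib.Aschbacher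

variable {F : Type*} [Field F] {m : ℕ}

local notation "ιS" => (Fin m ⊕ Fin m)

lemma sympForm_add_left (x y v : ιS → F) : sympForm m F (x + y) v = sympForm m F x v + sympForm m F y v :=
  add_dotProduct ..

lemma sympForm_smul_left (c : F) (x v : ιS → F) : sympForm m F (c • x) v = c * sympForm m F x v :=
  smul_dotProduct ..

lemma sympForm_add_right (v x y : ιS → F) : sympForm m F v (x + y) = sympForm m F v x + sympForm m F v y := by
  simp only [sympForm, Matrix.mulVec_add, dotProduct_add]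

lemma sympForm_smul_right (c : F) (v x : ιS → F) : sympForm m F v (c • x) = c * sympForm m F v x := by
  simp only [sympForm, Matrix.mulVec_smul, dotProduct_smul, smul_eq_mul]

lemma sympForm_self (v : ιS → F) : sympForm m F v v = 0 := by
  rw [sympForm_eq]; exact sympGram_alternating v

lemma sympForm_skew (u v : ιS → F) : sympForm m F u v = -sympForm m F v u := by
  have h := sympForm_self (u + v)
  rw [sympForm_add_left, sympForm_add_right, sympForm_add_right, sympForm_self, sympForm_self] at h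
  linear_combination h

lemma sympForm_nondeg {v : ιS → F} (hv : v ≠ 0) : ∃ x, sympForm m F x v ≠ 0 := by
  obtain ⟨x, hx⟩ := (nondegenerate_formM (RingEquiv.refl F) (sympGram m F) v hv).1
  exact ⟨x, by rw [sympForm_eq]; exact hx⟩

lemma sympForm_nondeg' {v : ιS → F} (hv : v ≠ 0) : ∃ x, sympForm m F v x ≠ 0 := by
  obtain ⟨x, hx⟩ := sympForm_nondeg hv
  exact ⟨x, by rw [sympForm_skew, neg_ne_zero]; exact hx⟩

/-- The transvection `x ↦ x + c f(x, v) v`. -/
def stv (v : ιS → F) (c : F) : GL ιS F :=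
  tv (c • v) (Matrix.J (Fin m) F *ᵥ v) (by
    rw [dotProduct_comm]
    show sympForm m F (c • v) v = 0
    rw [sympForm_smul_left, sympForm_self, mul_zero])

lemma stv_mulVec (v : ιS → F) (c : F) (x : ιS → F) :
    (stv v c : Matrix ιS ιS F) *ᵥ x = x + (c * sympForm m F x v) • v := by
  rw [stv, tv_mulVec, smul_smul, mul_comm c, dotProduct_comm]
  rfl

lemma stv_apply (v : ιS → F) (c : F) (a b : ιS) :
    (stv v c : Matrix ιS ιS F) a b = (if a = b then 1 else 0) + c * sympForm m F (Pi.single b 1) v * v a := by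
  have h := congrFun (stv_mulVec v c (Pi.single b 1)) a
  rw [Matrix.mulVec_single_one, Matrix.col_apply] at h
  rw [h, Pi.add_apply, Pi.smul_apply, smul_eq_mul, Pi.single_apply]

lemma mem_spGL_of_form {g : GL ιS F}
    (h : ∀ x y, sympForm m F ((g : Matrix ιS ιS F) *ᵥ x) ((g : Matrix ιS ιS F) *ᵥ y) = sympForm m F x y) :
    g ∈ spGL m F := h

lemma spGL_form {g : GL ιS F} (hg : g ∈ spGL m F) (x y : ιS → F) :
    sympForm m F ((g : Matrix ιS ιS F) *ᵥ x) ((g : Matrix ιS ιS F) *ᵥ y) = sympForm m F x y := hg x y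

lemma stv_mem (v : ιS → F) (c : F) : stv v c ∈ spGL m F := by
  refine mem_spGL_of_form fun x y => ?_
  simp only [stv_mulVec, sympForm_add_left, sympForm_add_right, sympForm_smul_left, sympForm_smul_right,
    sympForm_self, sympForm_skew v y]
  ring

/-- A matrix preserving every line is scalar. -/
lemma exists_smul_of_lines {ι : Type} [Fintype ι] [DecidableEq ι] [Nonempty ι] {M : Matrix ι ι F}
    (h : ∀ v : ι → F, v ≠ 0 → ∃ c : F, M *ᵥ v = c • v) : ∃ c : F, M = c • 1 := by
  have hb : ∀ k : ι, ∃ c : F, M *ᵥ Pi.single k 1 = c • Pi.single k 1 := fun k => h _ (by simp)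
  choose c hc using hb
  obtain ⟨k₀⟩ := (inferInstance : Nonempty ι)
  have hall : ∀ k, c k = c k₀ := by
    intro k
    by_cases hk : k = k₀
    · rw [hk]
    obtain ⟨d, hd⟩ := h (Pi.single k 1 + Pi.single k₀ 1) (fun h0 => by simpa [hk] using congrFun h0 k)
    rw [Matrix.mulVec_add, hc, hc] at hd
    have e1 := congrFun hd k
    have e2 := congrFun hd k₀
    simp [hk, Ne.symm hk] at e1 e2
    rw [e1, e2]
  exact ⟨c k₀, Matrix.ext_of_mulVec_single fun k => by rw [hc, hall, Matrix.smul_mulVec, Matrix.one_mulVec]⟩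

/-! ### Class 1 -/

theorem sp_not_le_subspaceStabilizer {W : Submodule F (ιS → F)} (h0 : W ≠ ⊥) (h1 : W ≠ ⊤) :
    ¬ spGL m F ≤ subspaceStabilizer W := by
  intro hle
  obtain ⟨w, hw, hw0⟩ := W.ne_bot_iff.mp h0
  obtain ⟨u, -, hu⟩ := SetLike.exists_of_lt (lt_top_iff_ne_top.mpr h1)
  obtain ⟨z, hz⟩ := sympForm_nondeg' hw0
  obtain ⟨v, hv, hvW⟩ : ∃ v, sympForm m F w v ≠ 0 ∧ v ∉ W := by
    by_cases hzW : z ∈ W
    swap
    · exact ⟨z, hz, hzW⟩
    by_cases huw : sympForm m F w u = 0
    · refine ⟨z + u, by rw [sympForm_add_right, huw, add_zero]; exact hz, fun h => hu ?_⟩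
      simpa using W.sub_mem h hzW
    · exact ⟨u, huw, hu⟩
  have h := (hle (stv_mem v 1) w).mp hw
  change (stv v 1 : Matrix ιS ιS F) *ᵥ w ∈ W at h
  rw [stv_mulVec, one_mul] at h
  have h2 : (sympForm m F w v) • v ∈ W := by simpa using W.sub_mem h hw
  exact hvW ((W.smul_mem_iff hv).mp h2)

/-! ### Class 2 -/

theorem sp_not_le_decompositionStabilizer {t k : ℕ} {D : Fin t → Submodule F (ιS → F)}
    (hD : IsMDecomposition k D) : ¬ spGL m F ≤ decompositionStabilizer D := by
  intro hle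
  let i : Fin t := ⟨0, lt_of_lt_of_le Nat.zero_lt_two hD.two_le⟩
  let j : Fin t := ⟨1, hD.two_le⟩
  have hij : i ≠ j := fun h => by simpa [i, j] using congrArg Fin.val h
  have hne : ∀ l, ∃ x ∈ D l, x ≠ 0 := fun l => (D l).ne_bot_iff.mp fun h => by
    have := hD.finrank_eq l
    rw [h, finrank_bot] at this
    exact absurd this.symm hD.pos.ne'
  have hdis : ∀ a b : Fin t, a ≠ b → ∀ x ∈ D a, x ∈ D b → x = 0 := fun a b hab x hxa hxb =>
    Submodule.disjoint_def.mp (hD.indep.pairwiseDisjoint hab) x hxa hxb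
  obtain ⟨x, hxi, hx0⟩ := hne i
  -- every vector not orthogonal to `x` lies in a member
  have hreach : ∀ y, sympForm m F x y ≠ 0 → ∃ l, y ∈ D l := by
    intro y hy
    obtain ⟨σ, hσ⟩ := hle (stv_mem (y - x) (sympForm m F x y)⁻¹)
    refine ⟨σ i, ?_⟩
    rw [← hσ i]
    refine ⟨x, hxi, ?_⟩
    rw [Matrix.toLin'_apply, stv_mulVec]
    have : sympForm m F x (y - x) = sympForm m F x y := by
      rw [sub_eq_add_neg, ← neg_one_smul F x, sympForm_add_right, sympForm_smul_right, sympForm_self, mul_zero,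
        add_zero]
    rw [this, inv_mul_cancel₀ hy, one_smul, add_sub_cancel]
  -- a vector with two components lies in no member
  have htwo : ∀ (l : Fin t) (a b : ιS → F), l ≠ i → a ∈ D i → b ∈ D l → a ≠ 0 → b ≠ 0 → ∀ l', a + b ∉ D l' := by
    intro l a b hl ha hb ha0 hb0 l' hmem
    by_cases h1 : l' = i
    · subst h1
      exact hb0 (hdis l i hl b hb (by simpa using (D i).sub_mem hmem ha))
    by_cases h2 : l' = l
    · subst h2
      exact ha0 (hdis i l' (Ne.symm hl) a ha (by simpa using (D l').sub_mem hmem hb))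
    have h3 : a + b ∈ ⨆ k ≠ l', D k := add_mem
      (Submodule.mem_iSup_of_mem i (Submodule.mem_iSup_of_mem (Ne.symm h1) ha))
      (Submodule.mem_iSup_of_mem l (Submodule.mem_iSup_of_mem (Ne.symm h2) hb))
    have h4 : a + b = 0 := Submodule.disjoint_def.mp (hD.indep l') _ hmem h3
    exact hb0 (hdis l i hl b hb (by rw [eq_neg_of_add_eq_zero_right h4]; exact (D i).neg_mem ha))
  have horth : ∀ l, l ≠ i → ∀ y ∈ D l, sympForm m F x y = 0 := by
    intro l hl y hy
    by_contra hc
    have hy0 : y ≠ 0 := fun h => hc (by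
      rw [h, show (0 : ιS → F) = (0 : F) • x from (zero_smul F x).symm, sympForm_smul_right, zero_mul])
    obtain ⟨l', hl'⟩ := hreach (x + y) (by rw [sympForm_add_right, sympForm_self, zero_add]; exact hc)
    exact htwo l x y hl hxi hy hx0 hy0 l' hl'
  obtain ⟨y₁, hy₁, hy₁x⟩ : ∃ y₁ ∈ D i, sympForm m F x y₁ ≠ 0 := by
    by_contra hc
    push Not at hc
    obtain ⟨z, hz⟩ := sympForm_nondeg' hx0
    apply hz
    clear hz
    have hzmem : z ∈ iSup D := by rw [hD.iSup_eq_top]; trivial
    induction hzmem using Submodule.iSup_induction' with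
    | mem l y hy =>
      by_cases hl : l = i
      · subst hl; exact hc y hy
      · exact horth l hl y hy
    | zero => rw [show (0 : ιS → F) = (0 : F) • x from (zero_smul F x).symm, sympForm_smul_right, zero_mul]
    | add y y' _ _ hy hy' => rw [sympForm_add_right, hy, hy', add_zero]
  obtain ⟨y₀, hy₀, hy₀0⟩ := hne j
  obtain ⟨l, hl⟩ := hreach (y₁ + y₀) (by rw [sympForm_add_right, horth j hij.symm y₀ hy₀, add_zero]; exact hy₁x)
  refine htwo j y₁ y₀ hij.symm hy₁ hy₀ (fun h => hy₁x ?_) hy₀0 l hl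
  rw [h, show (0 : ιS → F) = (0 : F) • x from (zero_smul F x).symm, sympForm_smul_right, zero_mul]

/-! ### Class 3 -/

theorem sp_not_le_subalgebraNormalizer (hm : 2 ≤ m) {r : ℕ} (hr : 2 ≤ r)
    {K : Subalgebra F (Matrix ιS ιS F)} (hK : IsFieldSubalgebra r K) :
    ¬ spGL m F ≤ subalgebraNormalizer K := by
  intro hle
  haveI : Nonempty ιS := ⟨Sum.inl ⟨0, by omega⟩⟩
  obtain ⟨k, hk, hkns⟩ := exists_notMem_bot_of_finrank hr hK
  obtain ⟨v, hv⟩ : ∃ v : ιS → F, v ≠ 0 ∧ ∀ c : F, k *ᵥ v ≠ c • v := by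
    by_contra hc
    push Not at hc
    obtain ⟨c, hc'⟩ := exists_smul_of_lines hc
    exact hkns c hc'
  set T := stv v 1 with hT
  have hk' := (hle (stv_mem v 1) k).mp hk
  rw [← hT] at hk'
  set k' := (T : Matrix ιS ιS F) * k * ((T⁻¹ : GL ιS F) : Matrix ιS ιS F) with hk'def
  -- a vector fixed along with its image
  obtain ⟨x, hx0, hxv, hkxv⟩ : ∃ x : ιS → F, x ≠ 0 ∧ sympForm m F x v = 0 ∧ sympForm m F (k *ᵥ x) v = 0 := by
    let φ : (ιS → F) →ₗ[F] F × F :=
      { toFun := fun x => (sympForm m F x v, sympForm m F (k *ᵥ x) v)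
        map_add' := fun a b => by simp [Matrix.mulVec_add, sympForm_add_left]
        map_smul' := fun c a => by simp [Matrix.mulVec_smul, sympForm_smul_left] }
    have h1 : LinearMap.ker φ ≠ ⊥ := LinearMap.ker_ne_bot_of_finrank_lt (by
      rw [Module.finrank_prod, Module.finrank_self, Module.finrank_fintype_fun_eq_card, Fintype.card_sum,
        Fintype.card_fin]
      omega)
    obtain ⟨x, hx, hx0⟩ := (Submodule.ne_bot_iff _).mp h1
    exact ⟨x, hx0, congrArg Prod.fst hx, congrArg Prod.snd hx⟩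
  have hTx : (T : Matrix ιS ιS F) *ᵥ x = x := by rw [hT, stv_mulVec, hxv, mul_zero, zero_smul, add_zero]
  have hk'x : k' *ᵥ x = k *ᵥ x := by
    have h1 : ((T⁻¹ : GL ιS F) : Matrix ιS ιS F) *ᵥ x = x := by
      conv_lhs => rw [← hTx]
      rw [Matrix.mulVec_mulVec, Units.inv_mul, Matrix.one_mulVec]
    rw [hk'def, ← Matrix.mulVec_mulVec, ← Matrix.mulVec_mulVec, h1, hT, stv_mulVec, hkxv, mul_zero, zero_smul,
      add_zero]
  have heq : k' = k := by
    by_contra hne
    obtain ⟨y, -, hy⟩ := hK.inv (k' - k) (K.sub_mem hk' hk) (sub_ne_zero.mpr hne)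
    have hy' : y * (k' - k) = 1 := mul_eq_one_comm.mp hy
    have := congrArg (fun A : Matrix ιS ιS F => A *ᵥ x) hy'
    simp only [← Matrix.mulVec_mulVec, Matrix.one_mulVec, Matrix.sub_mulVec, hk'x, sub_self, Matrix.mulVec_zero]
      at this
    exact hx0 this.symm
  have hcomm : (T : Matrix ιS ιS F) * k = k * (T : Matrix ιS ιS F) := by
    conv_rhs => rw [← heq, hk'def, mul_assoc, Units.inv_mul, mul_one]
  obtain ⟨w, hw⟩ := sympForm_nondeg hv.1
  have h2 := congrArg (fun A : Matrix ιS ιS F => A *ᵥ w) hcomm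
  simp only [← Matrix.mulVec_mulVec, hT, stv_mulVec, one_mul, Matrix.mulVec_add, Matrix.mulVec_smul] at h2
  rw [add_right_inj] at h2
  refine hv.2 (sympForm m F (k *ᵥ w) v / sympForm m F w v) ?_
  rw [div_eq_inv_mul, ← smul_smul, h2, smul_smul, inv_mul_cancel₀ hw, one_smul]

/-! ### Class 5 -/

theorem sp_not_le_subfieldSubgroup (hm : 1 ≤ m) {F₀ : Subfield F} (hF : F₀ ≠ ⊤) (P : GL ιS F) :
    ¬ spGL m F ≤ subfieldSubgroup F₀ P := by
  intro hle
  obtain ⟨c, hc⟩ : ∃ c, c ∉ F₀ := by
    by_contra h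
    push Not at h
    exact hF (top_unique fun x _ => h x)
  let i : ιS := Sum.inl ⟨0, hm⟩
  set v : ιS → F := (P : Matrix ιS ιS F) *ᵥ Pi.single i 1 with hv
  have hPinj : Function.Injective fun u : ιS → F => (P : Matrix ιS ιS F) *ᵥ u :=
    Function.LeftInverse.injective (g := fun u => ((P⁻¹ : GL ιS F) : Matrix ιS ιS F) *ᵥ u) fun u => by
      simp only [Matrix.mulVec_mulVec, Units.inv_mul, Matrix.one_mulVec]
  have hv0 : v ≠ 0 := fun h => by
    have h1 : Pi.single i (1 : F) = 0 := hPinj (by simp only [← hv, h, Matrix.mulVec_zero])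
    simpa using congrFun h1 i
  obtain ⟨j, hj⟩ : ∃ j, sympForm m F ((P : Matrix ιS ιS F) *ᵥ Pi.single j 1) v ≠ 0 := by
    by_contra hcon
    push Not at hcon
    obtain ⟨w, hw⟩ := sympForm_nondeg hv0
    apply hw
    have hsum : w = ∑ j, (((P⁻¹ : GL ιS F) : Matrix ιS ιS F) *ᵥ w) j • ((P : Matrix ιS ιS F) *ᵥ Pi.single j 1) := by
      simp only [← Matrix.mulVec_smul, ← Matrix.mulVec_sum, ← pi_eq_sum_univ', Matrix.mulVec_mulVec,
        Units.mul_inv, Matrix.one_mulVec]
    rw [hsum, sympForm_eq]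
    simp only [formM, sum_dotProduct, smul_dotProduct, smul_eq_mul]
    refine Finset.sum_eq_zero fun l _ => mul_eq_zero_of_right _ ?_
    have := hcon l
    rw [sympForm_eq] at this
    exact this
  set ψ := sympForm m F ((P : Matrix ιS ιS F) *ᵥ Pi.single j 1) v with hψ
  have hji : j ≠ i := fun h => hj (by rw [hψ, h, ← hv, sympForm_self])
  have hent : ∀ (d : F), ∀ a b, ((P⁻¹ * stv v d * P : GL ιS F) : Matrix ιS ιS F) a b =
      (if a = b then 1 else 0) + d * sympForm m F ((P : Matrix ιS ιS F) *ᵥ Pi.single b 1) v * (if a = i then 1 else 0) := by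
    intro d a b
    have h : ((P⁻¹ * stv v d * P : GL ιS F) : Matrix ιS ιS F) *ᵥ Pi.single b 1 =
        Pi.single b 1 + (d * sympForm m F ((P : Matrix ιS ιS F) *ᵥ Pi.single b 1) v) • Pi.single i 1 := by
      rw [Units.val_mul, Units.val_mul, ← Matrix.mulVec_mulVec, ← Matrix.mulVec_mulVec, stv_mulVec,
        Matrix.mulVec_add, Matrix.mulVec_smul, hv, Matrix.mulVec_mulVec, Matrix.mulVec_mulVec, Units.inv_mul,
        Matrix.one_mulVec, Matrix.one_mulVec]
    have h' := congrFun h a
    rw [Matrix.mulVec_single_one, Matrix.col_apply] at h'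
    rw [h', Pi.add_apply, Pi.smul_apply, smul_eq_mul, Pi.single_apply, Pi.single_apply]
  obtain ⟨x, hx, hxe⟩ := hle (stv_mem v (c / ψ))
  have hxt : x = P⁻¹ * stv v (c / ψ) * P := by
    rw [← hxe]
    show x = P⁻¹ * (P * x * P⁻¹) * P
    group
  subst hxt
  obtain ⟨_, ⟨a, rfl⟩, z, hz, haz⟩ := Subgroup.mem_sup_of_normal_right.mp hx
  obtain ⟨d, hd⟩ := (mem_scalars_iff z).mp hz
  have hval : ∀ k l, ((P⁻¹ * stv v (c / ψ) * P : GL ιS F) : Matrix ιS ιS F) k l =
      (d : F) * ((a : Matrix ιS ιS F₀) k l : F) := by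
    intro k l
    rw [← haz, Units.val_mul, hd, Matrix.mul_smul, Matrix.mul_one, Matrix.smul_apply, smul_eq_mul]
    rfl
  have e1 := hval j j
  have e2 := hval i j
  rw [hent] at e1 e2
  rw [if_pos rfl, if_neg hji, mul_zero, add_zero] at e1
  rw [if_neg (Ne.symm hji), if_pos rfl, zero_add, mul_one, ← hψ, div_mul_cancel₀ c hj] at e2
  apply hc
  rw [e2]
  refine F₀.mul_mem ?_ ((a : Matrix ιS ιS F₀) i j).2
  rw [← inv_inv (d : F), inv_eq_of_mul_eq_one_right e1.symm]
  exact F₀.inv_mem ((a : Matrix ιS ιS F₀) j j).2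

/-! ### Class 4 -/

theorem sp_not_le_tensorProductSubgroup {n₁ n₂ : ℕ} (h1 : 2 ≤ n₁) (h2 : 2 ≤ n₂) (e : ιS ≃ Fin n₁ × Fin n₂)
    (P : GL ιS F) : ¬ spGL m F ≤ tensorProductSubgroup n₁ n₂ e P := by
  intro hle
  let o₁ : Fin n₁ := ⟨0, by omega⟩
  let l₁ : Fin n₁ := ⟨1, by omega⟩
  let o₂ : Fin n₂ := ⟨0, by omega⟩
  let l₂ : Fin n₂ := ⟨1, by omega⟩
  have hol₁ : l₁ ≠ o₁ := fun h => by simpa [o₁, l₁] using congrArg Fin.val h
  have hol₂ : l₂ ≠ o₂ := fun h => by simpa [o₂, l₂] using congrArg Fin.val h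
  set i : ιS := e.symm (o₁, o₂) with hi
  set v : ιS → F := (P : Matrix ιS ιS F) *ᵥ Pi.single i 1 with hv
  obtain ⟨x, hx, hxe⟩ := hle (stv_mem v 1)
  obtain ⟨k, ⟨a, b, hab⟩, rfl⟩ := hx
  set φ : ιS → F := fun l => sympForm m F ((P : Matrix ιS ιS F) *ᵥ Pi.single l 1) v with hφ
  have hv0 : v ≠ 0 := fun h => by
    have h1 := congrArg (fun u => ((P⁻¹ : GL ιS F) : Matrix ιS ιS F) *ᵥ u) h
    simp only [hv, Matrix.mulVec_mulVec, Units.inv_mul, Matrix.one_mulVec, Matrix.mulVec_zero] at h1
    simpa using congrFun h1 i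
  obtain ⟨j, hj⟩ : ∃ j, φ j ≠ 0 := by
    by_contra hcon
    push Not at hcon
    obtain ⟨w, hw⟩ := sympForm_nondeg hv0
    apply hw
    have hsum : w = ∑ j, (((P⁻¹ : GL ιS F) : Matrix ιS ιS F) *ᵥ w) j • ((P : Matrix ιS ιS F) *ᵥ Pi.single j 1) := by
      simp only [← Matrix.mulVec_smul, ← Matrix.mulVec_sum, ← pi_eq_sum_univ', Matrix.mulVec_mulVec,
        Units.mul_inv, Matrix.one_mulVec]
    rw [hsum, sympForm_eq]
    simp only [formM, sum_dotProduct, smul_dotProduct, smul_eq_mul]
    refine Finset.sum_eq_zero fun l _ => mul_eq_zero_of_right _ ?_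
    have := hcon l
    simp only [hφ, sympForm_eq] at this
    exact this
  have hji : j ≠ i := fun h => hj (by simp only [hφ, h, ← hv, sympForm_self])
  have hk : ∀ p q, (a : Matrix (Fin n₁) (Fin n₁) F) p.1 q.1 * (b : Matrix (Fin n₂) (Fin n₂) F) p.2 q.2 =
      (if e.symm p = e.symm q then 1 else 0) + φ (e.symm q) * (if e.symm p = i then 1 else 0) := by
    intro p q
    have hrw : glReindex e.symm k = P⁻¹ * stv v 1 * P := by
      rw [← hxe]
      show glReindex e.symm k = P⁻¹ * (P * glReindex e.symm k * P⁻¹) * P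
      group
    have h1 : ((glReindex e.symm k : GL ιS F) : Matrix ιS ιS F) (e.symm p) (e.symm q) =
        (a : Matrix (Fin n₁) (Fin n₁) F) p.1 q.1 * (b : Matrix (Fin n₂) (Fin n₂) F) p.2 q.2 := by
      simp [glReindex, Matrix.reindex_apply, hab]
    rw [← h1, hrw]
    have h : ((P⁻¹ * stv v 1 * P : GL ιS F) : Matrix ιS ιS F) *ᵥ Pi.single (e.symm q) 1 =
        Pi.single (e.symm q) 1 + φ (e.symm q) • Pi.single i 1 := by
      rw [Units.val_mul, Units.val_mul, ← Matrix.mulVec_mulVec, ← Matrix.mulVec_mulVec, stv_mulVec, one_mul,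
        Matrix.mulVec_add, Matrix.mulVec_smul, hv, Matrix.mulVec_mulVec, Matrix.mulVec_mulVec, Units.inv_mul,
        Matrix.one_mulVec, Matrix.one_mulVec]
    have h' := congrFun h (e.symm p)
    rw [Matrix.mulVec_single_one, Matrix.col_apply] at h'
    rw [h', Pi.add_apply, Pi.smul_apply, smul_eq_mul, Pi.single_apply, Pi.single_apply]
  have h11 := hk (l₁, l₂) (l₁, l₂)
  rw [if_pos rfl, if_neg (fun h => hol₁ (by simpa using congrArg Prod.fst (e.symm.injective h))), mul_zero,
    add_zero] at h11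
  obtain ⟨ha, hb⟩ := mul_ne_zero_iff.mp (h11 ▸ one_ne_zero)
  set q := e j with hq
  have hne : q ≠ (o₁, o₂) := fun h => hji (by rw [hi, ← h, hq, Equiv.symm_apply_apply])
  have h0q := hk (o₁, o₂) q
  rw [hq, Equiv.symm_apply_apply, ← hi, if_neg (Ne.symm hji), if_pos rfl, zero_add, mul_one] at h0q
  obtain ⟨ha0, hb0⟩ := mul_ne_zero_iff.mp (h0q ▸ hj)
  by_cases hq1 : q.1 = o₁
  · have hq2 : q.2 ≠ o₂ := fun h => hne (Prod.ext hq1 h)
    have h := hk (l₁, o₂) (l₁, q.2)
    rw [if_neg (fun h => hq2 (by simpa using (congrArg Prod.snd (e.symm.injective h)).symm)),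
      if_neg (fun h => hol₁ (by simpa using congrArg Prod.fst (e.symm.injective h))), mul_zero, add_zero] at h
    exact mul_ne_zero ha hb0 h
  · have h := hk (o₁, l₂) (q.1, l₂)
    rw [if_neg (fun h => hq1 (by simpa using (congrArg Prod.fst (e.symm.injective h)).symm)),
      if_neg (fun h => hol₂ (by simpa using congrArg Prod.snd (e.symm.injective h))), mul_zero, add_zero] at h
    exact mul_ne_zero ha0 hb h

/-! ### Class 6 -/

/-- The degree of a group of symplectic type with centre of order two. -/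
theorem sympType_two_degree [Fintype F] (hm : 1 ≤ m) {p k : ℕ} [CharP F p] (hp : Odd p)
    {R : Subgroup (GL ιS F)} (hR : IsSymplecticTypeGroup 2 R) (hirr : ActsAbsolutelyIrreducibly (matrixSet R))
    (hz : Nat.card (Subgroup.center R) = 2) (hcard : Nat.card R = 2 ^ (1 + 2 * k)) : m + m = 2 ^ k := by
  haveI : Nonempty ιS := ⟨Sum.inl ⟨0, hm⟩⟩
  have hclass := commutator_le_center_of_exponent_four hR.pGroup hR.cyclic_of_characteristic
    (by rw [hR.exponent_eq]; norm_num) hz
  have h := symplecticType_degree_of_class (r := 2) (p := p)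
    (fun h => by subst h; exact absurd hp (by decide)) hR hirr hz hclass
    (by rw [hcard, pow_add, pow_one] : Nat.card R = 2 * 2 ^ (2 * k))
  rwa [Fintype.card_sum, Fintype.card_fin] at h

/-- A group of symplectic type with centre of order two and at least 32 elements has an involution outside the
centre. -/
lemma exists_noncentral_involution {R : Type*} [Group R] [Finite R]
    (hz : Nat.card (Subgroup.center R) = 2) (hclass : commutator R ≤ Subgroup.center R)
    (h4 : ∀ g : R, g ^ 4 = 1) (hcard : 8 < Nat.card R) :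
    ∃ t : R, t ∉ Subgroup.center R ∧ t * t = 1 := by
  classical
  set Z := Subgroup.center R with hZ
  haveI : Fintype Z := Fintype.ofFinite Z
  have hZ2 : Fintype.card Z = 2 := by rw [← Nat.card_eq_fintype_card]; exact hz
  obtain ⟨ζ, hζ1, hζ⟩ : ∃ ζ : Z, ζ ≠ 1 ∧ ∀ z : Z, z = 1 ∨ z = ζ := by
    obtain ⟨ζ, hζ⟩ := Fintype.exists_ne_of_one_lt_card (by omega : 1 < Fintype.card Z) (1 : Z)
    refine ⟨ζ, hζ, fun z => ?_⟩
    by_contra hc
    push Not at hc
    have hsub : ({1, ζ, z} : Finset Z) ⊆ Finset.univ := Finset.subset_univ _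
    have h3 : ({1, ζ, z} : Finset Z).card = 3 :=
      Finset.card_eq_three.mpr ⟨1, ζ, z, hζ.symm, hc.1.symm, hc.2.symm, rfl⟩
    have := Finset.card_le_card hsub
    rw [h3, Finset.card_univ, hZ2] at this
    omega
  have hζsq : (ζ : R) * ζ = 1 := by
    rcases hζ (ζ * ζ) with h | h
    · exact congrArg Subtype.val h
    · exact absurd (mul_eq_left.mp h) hζ1
  have hζc : ∀ g : R, g * ζ = ζ * g := fun g => Subgroup.mem_center_iff.mp ζ.2 g
  have hcom : ∀ a b : R, a * b = b * a ∨ a * b = ζ * (b * a) := by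
    intro a b
    have hmem : a * b * a⁻¹ * b⁻¹ ∈ Z :=
      hclass (Subgroup.commutator_mem_commutator (Subgroup.mem_top a) (Subgroup.mem_top b))
    rcases hζ ⟨_, hmem⟩ with h | h
    · left
      have h' : a * b * a⁻¹ * b⁻¹ = 1 := congrArg Subtype.val h
      exact mul_inv_eq_iff_eq_mul.mp (mul_inv_eq_one.mp h')
    · right
      have h' : a * b * a⁻¹ * b⁻¹ = ζ := congrArg Subtype.val h
      rw [← h']; group
  have hsq : ∀ a : R, a * a ∈ Z := by
    intro a
    rw [hZ, Subgroup.mem_center_iff]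
    intro b
    rcases hcom a b with h | h
    · calc b * (a * a) = b * a * a := (mul_assoc _ _ _).symm
        _ = a * (b * a) := by rw [← mul_assoc a b a, h]
        _ = a * a * b := by rw [mul_assoc a a b, h]
    · symm
      calc a * a * b = a * (a * b) := mul_assoc _ _ _
        _ = a * (ζ * (b * a)) := by rw [h]
        _ = a * ζ * (b * a) := (mul_assoc _ _ _).symm
        _ = ζ * (a * b) * a := by rw [hζc]; group
        _ = ζ * (ζ * (b * a)) * a := by rw [h]
        _ = ζ * ζ * (b * (a * a)) := by group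
        _ = b * (a * a) := by rw [hζsq, one_mul]
  obtain ⟨x, y, hxy⟩ : ∃ x y : R, x * y ≠ y * x := by
    by_contra hc
    push Not at hc
    have : Z = ⊤ := top_unique fun g _ => Subgroup.mem_center_iff.mpr fun b => hc b g
    rw [this, Subgroup.card_top] at hz
    omega
  have hxy' : x * y = ζ * (y * x) := (hcom x y).resolve_left hxy
  have hyx' : y * x = ζ * (x * y) := by rw [hxy', ← mul_assoc, hζsq, one_mul]
  have hflip : ∀ {u g w : R}, u * g = ζ * (g * u) → w * g = ζ * (g * w) → u * w * g = g * (u * w) := by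
    intro u g w hu hw
    calc u * w * g = u * (w * g) := mul_assoc _ _ _
      _ = u * ζ * (g * w) := by rw [hw, mul_assoc]
      _ = ζ * (u * g) * w := by rw [hζc u]; group
      _ = ζ * ζ * (g * u) * w := by rw [hu]; group
      _ = g * (u * w) := by rw [hζsq]; group
  have hkeep : ∀ {u g w : R}, u * g = g * u → w * g = g * w → u * w * g = g * (u * w) := by
    intro u g w hu hw
    rw [mul_assoc, hw, ← mul_assoc, hu, mul_assoc]
  -- an element centralising `x` and `y` outside the centre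
  obtain ⟨z, hzx, hzy, hzZ⟩ : ∃ z : R, z * x = x * z ∧ z * y = y * z ∧ z ∉ Z := by
    by_contra hc
    push Not at hc
    haveI : Fintype R := Fintype.ofFinite R
    let f : Z × Fin 4 → R := fun q => (q.1 : R) * (![1, x, y, x * y] q.2)⁻¹
    have hsurj : Function.Surjective f := by
      intro g
      have hu : ∀ u : R, g * u * x = x * (g * u) → g * u * y = y * (g * u) → ∀ i : Fin 4, ![1, x, y, x * y] i = u →
          ∃ q, f q = g := fun u h1 h2 i hi => ⟨(⟨g * u, hc _ h1 h2⟩, i), by
        show g * u * (![1, x, y, x * y] i)⁻¹ = g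
        rw [hi, mul_inv_cancel_right]⟩
      rcases hcom g x with hgx | hgx <;> rcases hcom g y with hgy | hgy
      · exact hu 1 (by rw [mul_one]; exact hgx) (by rw [mul_one]; exact hgy) 0 rfl
      · exact hu x (hkeep hgx rfl) (hflip hgy hxy') 1 rfl
      · exact hu y (hflip hgx hyx') (hkeep hgy rfl) 2 rfl
      · refine hu (x * y) ?_ ?_ 3 rfl
        · have e : x * y * x = ζ * (x * (x * y)) := by rw [mul_assoc, hyx', ← mul_assoc, hζc x, mul_assoc]
          exact hflip hgx e
        · have e : x * y * y = ζ * (y * (x * y)) := by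
            calc x * y * y = ζ * (y * x) * y := by rw [hxy']
              _ = ζ * (y * (x * y)) := by group
          exact hflip hgy e
    have h1 := Fintype.card_le_of_surjective f hsurj
    rw [Fintype.card_prod, hZ2, Fintype.card_fin, ← Nat.card_eq_fintype_card (α := R)] at h1
    omega
  have hxZ : x ∉ Z := fun h => hxy (Subgroup.mem_center_iff.mp h y).symm
  rcases hζ ⟨_, hsq x⟩ with hx | hx
  · exact ⟨x, hxZ, congrArg Subtype.val hx⟩
  rcases hζ ⟨_, hsq z⟩ with hz' | hz'
  · exact ⟨z, hzZ, congrArg Subtype.val hz'⟩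
  refine ⟨x * z, fun h => ?_, ?_⟩
  · apply hxy
    have h1 := Subgroup.mem_center_iff.mp h y
    rw [mul_assoc x z y, hzy, ← mul_assoc, ← mul_assoc] at h1
    exact (mul_right_cancel h1).symm
  · have h1 : x * x = ζ := congrArg Subtype.val hx
    have h2 : z * z = ζ := congrArg Subtype.val hz'
    calc x * z * (x * z) = x * (z * x) * z := by group
      _ = x * x * (z * z) := by rw [hzx]; group
      _ = 1 := by rw [h1, h2, hζsq]

theorem sp_not_le_subgroupNormalizer [Fintype F] (hm : 2 ≤ m) {p k : ℕ} [CharP F p] (hp : Odd p)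
    {R : Subgroup (GL ιS F)} (hR : IsSymplecticTypeGroup 2 R) (hirr : ActsAbsolutelyIrreducibly (matrixSet R))
    (hsim : R ≤ similarityGroup (sympForm m F))
    (hz : Nat.card (Subgroup.center R) = 2) (hcard : Nat.card R = 2 ^ (1 + 2 * k)) :
    ¬ spGL m F ≤ subgroupNormalizer R := by
  classical
  intro hle
  haveI : Nonempty ιS := ⟨Sum.inl ⟨0, by omega⟩⟩
  haveI := Fact.mk (CharP.char_is_prime F p)
  haveI : CharP (Matrix ιS ιS F) p := inferInstance
  have hp2 : p ≠ 2 := fun h => by subst h; exact absurd hp (by decide)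
  have h2F : (2 : F) ≠ 0 := by
    intro h
    have h' : ((2 : ℕ) : F) = 0 := by exact_mod_cast h
    rw [CharP.cast_eq_zero_iff F p] at h'
    exact hp2 ((Nat.prime_dvd_prime_iff_eq (Fact.out) Nat.prime_two).mp h')
  have hdeg := sympType_two_degree (by omega) hp hR hirr hz hcard
  have hk : 2 ≤ k := by
    by_contra h
    have := Nat.pow_le_pow_right (show 0 < 2 by norm_num) (show k ≤ 1 by omega)
    omega
  have hclass := commutator_le_center_of_exponent_four hR.pGroup hR.cyclic_of_characteristic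
    (by rw [hR.exponent_eq]; norm_num) hz
  have h4 : ∀ g : R, g ^ 4 = 1 := fun g => by
    have h := Monoid.pow_exponent_eq_one g
    rw [hR.exponent_eq] at h
    exact h
  obtain ⟨t, htZ, ht⟩ := exists_noncentral_involution hz hclass h4 (by
    rw [hcard]
    calc 8 < 2 ^ (1 + 2 * 2) := by norm_num
      _ ≤ _ := Nat.pow_le_pow_right (by norm_num) (by omega))
  set T : Matrix ιS ιS F := ((t : GL ιS F) : Matrix ιS ιS F) with hT
  have hTT : T * T = 1 := congrArg (fun g : R => ((g : GL ιS F) : Matrix ιS ιS F)) ht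
  have hTTv : ∀ v, T *ᵥ (T *ᵥ v) = v := fun v => by rw [Matrix.mulVec_mulVec, hTT, Matrix.one_mulVec]
  obtain ⟨cu, hcu₀⟩ := hsim t.2
  obtain ⟨c, hcu⟩ : ∃ c : F, ∀ u v, sympForm m F (T *ᵥ u) (T *ᵥ v) = c * sympForm m F u v := ⟨cu, hcu₀⟩
  have hcc : c * c = 1 := by
    obtain ⟨x, hx⟩ := sympForm_nondeg (m := m) (F := F) (v := Pi.single (Sum.inl ⟨0, by omega⟩) 1) (by simp)
    have h1 := hcu (T *ᵥ x) (T *ᵥ Pi.single (Sum.inl ⟨0, by omega⟩) 1)
    rw [hTTv, hTTv, hcu x _, ← mul_assoc] at h1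
    exact (mul_eq_right₀ hx).mp h1.symm
  -- the vector
  obtain ⟨v, hTvv, hmove⟩ : ∃ v : ιS → F, sympForm m F (T *ᵥ v) v = 0 ∧
      ∃ x, (c * sympForm m F x (T *ᵥ v)) • (T *ᵥ v) ≠ sympForm m F x v • v := by
    rcases mul_self_eq_one_iff.mp hcc with h1 | h1
    · -- an isometry
      have hzero : ∀ v, sympForm m F (T *ᵥ v) v = 0 := fun v => by
        have e := hcu (T *ᵥ v) v
        rw [hTTv, h1, one_mul] at e
        have e2 := sympForm_skew v (T *ᵥ v)
        exact mul_left_cancel₀ h2F (by linear_combination -e + e2)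
      by_contra hcon
      push Not at hcon
      apply htZ
      refine scalar_mem_center ?_
      obtain ⟨a, ha⟩ := exists_smul_of_lines (M := T) fun v hv => by
        obtain ⟨x, hx⟩ := sympForm_nondeg hv
        have e := hcon v (hzero v) x
        rw [h1, one_mul] at e
        have e' := congrArg (fun u => T *ᵥ u) e
        simp only [Matrix.mulVec_smul, hTTv] at e'
        exact ⟨(sympForm m F x v)⁻¹ * sympForm m F x (T *ᵥ v), by
          rw [← smul_smul, e', smul_smul, inv_mul_cancel₀ hx, one_smul]⟩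
      refine (mem_scalars_iff _).mpr ⟨Units.mk0 a fun h0 => ?_, ha⟩
      rw [ha, h0, zero_smul, zero_mul] at hTT
      exact zero_ne_one hTT
    · -- a skew similitude: an eigenvector
      obtain ⟨v, hv0, ε, hε, hεε⟩ : ∃ v : ιS → F, v ≠ 0 ∧ ∃ ε : F, T *ᵥ v = ε • v ∧ ε * ε = 1 := by
        set w : ιS → F := Pi.single (Sum.inl ⟨0, by omega⟩) 1 with hw
        by_cases h : w + T *ᵥ w = 0
        · refine ⟨w, by simp [hw], -1, ?_, by ring⟩
          rw [neg_one_smul]
          exact eq_neg_of_add_eq_zero_right h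
        · refine ⟨w + T *ᵥ w, h, 1, ?_, by ring⟩
          rw [Matrix.mulVec_add, hTTv, one_smul, add_comm]
      obtain ⟨x, hx⟩ := sympForm_nondeg hv0
      refine ⟨v, by rw [hε, sympForm_smul_left, sympForm_self, mul_zero], x, fun e => ?_⟩
      rw [hε, sympForm_smul_right, h1, smul_smul] at e
      have e' := sub_eq_zero.mpr e
      rw [← sub_smul, smul_eq_zero] at e'
      refine hx (mul_left_cancel₀ h2F ?_)
      rw [mul_zero]
      linear_combination -(e'.resolve_right hv0) - sympForm m F x v * hεε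
  -- the commutator with a transvection
  set y : GL ιS F := stv (T *ᵥ v) c * stv v (-1) with hy
  have hTinv : (((t : GL ιS F))⁻¹ : GL ιS F) = (t : GL ιS F) :=
    inv_eq_of_mul_eq_one_right (congrArg Subtype.val ht)
  have hyeq : y = (t : GL ιS F) * stv v 1 * ((t : GL ιS F))⁻¹ * (stv v 1)⁻¹ := by
    have h1 : (stv v 1 : GL ιS F)⁻¹ = stv v (-1) := by
      refine inv_eq_of_mul_eq_one_right (Units.ext (Matrix.ext_of_mulVec_single fun j => ?_))
      rw [Units.val_mul, ← Matrix.mulVec_mulVec, stv_mulVec, stv_mulVec, Units.val_one, Matrix.one_mulVec,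
        sympForm_add_left, sympForm_smul_left, sympForm_self]
      module
    rw [h1, hy, hTinv]
    congr 1
    refine Units.ext (Matrix.ext_of_mulVec_single fun j => ?_)
    rw [Units.val_mul, Units.val_mul, ← Matrix.mulVec_mulVec, ← Matrix.mulVec_mulVec, ← hT, stv_mulVec, stv_mulVec,
      Matrix.mulVec_add, Matrix.mulVec_smul, hTTv, one_mul]
    congr 2
    have e := hcu (T *ᵥ Pi.single j 1) v
    rw [hTTv] at e
    rw [e, ← mul_assoc, hcc, one_mul]
  have hyR : y ∈ R := by
    rw [hyeq, show (t : GL ιS F) * stv v 1 * ((t : GL ιS F))⁻¹ * (stv v 1)⁻¹ =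
      (t : GL ιS F) * (stv v 1 * (((t : GL ιS F))⁻¹) * (stv v 1)⁻¹) by group]
    exact R.mul_mem t.2 ((Subgroup.mem_normalizer_iff.mp (hle (stv_mem v 1)) _).mp (R.inv_mem t.2))
  set N : Matrix ιS ιS F := (y : Matrix ιS ιS F) - 1 with hN
  have hyv : ∀ x, (y : Matrix ιS ιS F) *ᵥ x =
      x + (c * sympForm m F x (T *ᵥ v)) • (T *ᵥ v) - sympForm m F x v • v := by
    intro x
    rw [hy, Units.val_mul, ← Matrix.mulVec_mulVec, stv_mulVec, stv_mulVec, sympForm_add_left, sympForm_smul_left,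
      sympForm_skew v (T *ᵥ v), hTvv]
    module
  have hNN : N * N = 0 := by
    refine Matrix.ext_of_mulVec_single fun j => ?_
    rw [← Matrix.mulVec_mulVec, Matrix.zero_mulVec]
    have hNx : ∀ x, N *ᵥ x = (c * sympForm m F x (T *ᵥ v)) • (T *ᵥ v) - sympForm m F x v • v := fun x => by
      rw [hN, Matrix.sub_mulVec, Matrix.one_mulVec, hyv]; abel
    rw [hNx (Pi.single j 1), Matrix.mulVec_sub, Matrix.mulVec_smul, Matrix.mulVec_smul, hNx, hNx,
      sympForm_self, sympForm_self, sympForm_skew v (T *ᵥ v), hTvv]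
    simp
  have hy1 : y = 1 := by
    have hpow : (y : Matrix ιS ιS F) ^ p = 1 := by
      rw [show (y : Matrix ιS ιS F) = 1 + N by rw [hN]; abel, add_pow_char_of_commute (p := p) (Commute.one_left N),
        one_pow]
      obtain ⟨j, hj⟩ : ∃ j, p = j + 2 := ⟨p - 2, by have := (Fact.out : p.Prime).two_le; omega⟩
      rw [hj, pow_add, pow_two N, hNN, mul_zero, add_zero]
    have h1 : orderOf y ∣ p := orderOf_dvd_of_pow_eq_one (Units.ext (by rw [Units.val_pow_eq_pow_val]; exact hpow))
    have h2 : orderOf y ∣ 4 := orderOf_dvd_of_pow_eq_one (congrArg Subtype.val (h4 ⟨y, hyR⟩))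
    exact orderOf_eq_one_iff.mp (Nat.eq_one_of_dvd_coprimes
      (Nat.Coprime.pow_right 2 ((Nat.coprime_primes (Fact.out : p.Prime) Nat.prime_two).mpr hp2)) h1 h2)
  obtain ⟨x, hx⟩ := hmove
  apply hx
  have h := hyv x
  rw [hy1, Units.val_one, Matrix.one_mulVec, add_sub_assoc, left_eq_add, sub_eq_zero] at h
  exact h

/-! ### Class 7 -/

theorem sp_not_le_tensorWreathSubgroup [Finite F] (hm : 1 ≤ m) {n₁ t : ℕ} (hn : 2 ≤ n₁) (ht : 2 ≤ t)
    (e : ιS ≃ (Fin t → Fin n₁)) (P : GL ιS F) : ¬ spGL m F ≤ tensorWreathSubgroup n₁ t e P := by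
  classical
  intro hle
  let o : Fin n₁ := ⟨0, by omega⟩
  set x₀ : Fin t → Fin n₁ := fun _ => o with hx₀
  set i : ιS := e.symm x₀ with hi
  set v : ιS → F := (P : Matrix ιS ιS F) *ᵥ Pi.single i 1 with hv
  obtain ⟨k', hk', hxe⟩ := hle (stv_mem v 1)
  obtain ⟨k, hk, rfl⟩ := hk'
  obtain ⟨σ, a, hka⟩ := mem_tensorWreathStandard hk
  set φ : ιS → F := fun l => sympForm m F ((P : Matrix ιS ιS F) *ᵥ Pi.single l 1) v with hφ
  have hv0 : v ≠ 0 := fun h => by
    have h1 := congrArg (fun u => ((P⁻¹ : GL ιS F) : Matrix ιS ιS F) *ᵥ u) h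
    simp only [hv, Matrix.mulVec_mulVec, Units.inv_mul, Matrix.one_mulVec, Matrix.mulVec_zero] at h1
    simpa using congrFun h1 i
  obtain ⟨j, hj⟩ : ∃ j, φ j ≠ 0 := by
    by_contra hcon
    push Not at hcon
    obtain ⟨w, hw⟩ := sympForm_nondeg hv0
    apply hw
    have hsum : w = ∑ j, (((P⁻¹ : GL ιS F) : Matrix ιS ιS F) *ᵥ w) j • ((P : Matrix ιS ιS F) *ᵥ Pi.single j 1) := by
      simp only [← Matrix.mulVec_smul, ← Matrix.mulVec_sum, ← pi_eq_sum_univ', Matrix.mulVec_mulVec,
        Units.mul_inv, Matrix.one_mulVec]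
    rw [hsum, sympForm_eq]
    simp only [formM, sum_dotProduct, smul_dotProduct, smul_eq_mul]
    refine Finset.sum_eq_zero fun l _ => mul_eq_zero_of_right _ ?_
    have := hcon l
    simp only [hφ, sympForm_eq] at this
    exact this
  have hji : j ≠ i := fun h => hj (by simp only [hφ, h, ← hv, sympForm_self])
  have hent : ∀ p q, ∏ l, a l (p l) (q (σ l)) =
      (if p = q then (1 : F) else 0) + φ (e.symm q) * (if p = x₀ then 1 else 0) := by
    intro p q
    rw [← hka]
    have hrw : glReindex e.symm k = P⁻¹ * stv v 1 * P := by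
      rw [← hxe]
      show glReindex e.symm k = P⁻¹ * (P * glReindex e.symm k * P⁻¹) * P
      group
    have h1 : ((glReindex e.symm k : GL ιS F) : Matrix ιS ιS F) (e.symm p) (e.symm q) =
        (k : Matrix (Fin t → Fin n₁) (Fin t → Fin n₁) F) p q := by
      simp [glReindex, Matrix.reindex_apply]
    rw [← h1, hrw]
    have h : ((P⁻¹ * stv v 1 * P : GL ιS F) : Matrix ιS ιS F) *ᵥ Pi.single (e.symm q) 1 =
        Pi.single (e.symm q) 1 + φ (e.symm q) • Pi.single i 1 := by
      rw [Units.val_mul, Units.val_mul, ← Matrix.mulVec_mulVec, ← Matrix.mulVec_mulVec, stv_mulVec, one_mul,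
        Matrix.mulVec_add, Matrix.mulVec_smul, hv, Matrix.mulVec_mulVec, Matrix.mulVec_mulVec, Units.inv_mul,
        Matrix.one_mulVec, Matrix.one_mulVec]
    have h' := congrFun h (e.symm p)
    rw [Matrix.mulVec_single_one, Matrix.col_apply] at h'
    rw [h', Pi.add_apply, Pi.smul_apply, smul_eq_mul, Pi.single_apply, Pi.single_apply, hi]
    simp only [e.symm.injective.eq_iff]
  obtain ⟨l₀, hl₀⟩ : ∃ l, (e j) (σ l) ≠ o := by
    by_contra hc
    push Not at hc
    exact hji (by
      rw [hi, show x₀ = e j from funext fun l => by rw [← σ.apply_symm_apply l, hc], Equiv.symm_apply_apply])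
  obtain ⟨l₁, hl₁⟩ : ∃ l, l ≠ l₀ := by
    haveI : Nontrivial (Fin t) := Fin.nontrivial_iff_two_le.mpr ht
    exact exists_ne l₀
  let w : Fin n₁ := ⟨1, by omega⟩
  have how : w ≠ o := fun h => by simpa [o, w] using congrArg Fin.val h
  -- a row away from `x₀` agreeing with it at `l₀`
  set p : Fin t → Fin n₁ := Function.update x₀ l₁ w with hp
  have hpne : p ≠ x₀ := fun h => how (by simpa [hp, hx₀] using congrFun h l₁)
  have h00 := hent x₀ (e j)
  rw [if_pos rfl, Equiv.symm_apply_apply, if_neg (fun h => hji (by rw [hi, h, Equiv.symm_apply_apply])), zero_add,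
    mul_one] at h00
  have hfac : ∀ l, a l (x₀ l) ((e j) (σ l)) ≠ 0 := fun l h0 =>
    hj (h00 ▸ Finset.prod_eq_zero (Finset.mem_univ l) h0)
  have hdiag := hent p p
  rw [if_pos rfl, if_neg hpne, mul_zero, add_zero] at hdiag
  have hfac' : ∀ l, a l (p l) (p (σ l)) ≠ 0 := fun l h0 =>
    one_ne_zero (hdiag ▸ Finset.prod_eq_zero (Finset.mem_univ l) h0 : (1 : F) = 0)
  have hx00 := hent x₀ x₀
  rw [if_pos rfl, show φ (e.symm x₀) = 0 by simp only [hφ, ← hi, ← hv, sympForm_self], zero_mul, add_zero] at hx00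
  have hfac0 : ∀ l, a l (x₀ l) (x₀ (σ l)) ≠ 0 := fun l h0 =>
    one_ne_zero (hx00 ▸ Finset.prod_eq_zero (Finset.mem_univ l) h0 : (1 : F) = 0)
  have hp0 : p l₀ = o := by rw [hp, Function.update_of_ne (Ne.symm hl₁)]
  -- any non-zero entry in that row keeps the coordinate
  have hkey : ∀ u, a l₀ o u ≠ 0 → u = p (σ l₀) := by
    intro u hu
    by_contra hne
    have h := hent p (Function.update p (σ l₀) u)
    rw [if_neg (fun h => hne (by conv_rhs => rw [h, Function.update_self])), if_neg hpne, mul_zero, add_zero,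
      Finset.prod_eq_zero_iff] at h
    obtain ⟨l, -, hl⟩ := h
    by_cases hll : l = l₀
    · subst hll
      rw [Function.update_self, hp0] at hl
      exact hu hl
    · rw [Function.update_of_ne (fun h => hll (σ.injective h))] at hl
      exact hfac' l hl
  exact hl₀ ((hkey _ (hfac l₀)).trans (hkey o (hfac0 l₀)).symm)

/-! ### Class 8 -/

theorem sp_not_le_quadSimilarityGroup [Fintype F] (hm : 2 ≤ m) (h2 : (2 : F) = 0) {Q : (ιS → F) → F}
    (hQ : IsNondegenerateQuadraticForm Q) (hpol : ∀ u v, QuadraticMap.polar Q u v = sympForm m F u v) :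
    ¬ spGL m F ≤ quadSimilarityGroup Q := by
  intro hle
  have hadd : ∀ a b, Q (a + b) = Q a + Q b + sympForm m F a b := fun a b => by
    rw [← hpol, QuadraticMap.polar]; ring
  haveI : CharP F 2 := by
    obtain ⟨p, hp⟩ := CharP.exists F
    haveI := hp
    have h' : ((2 : ℕ) : F) = 0 := by exact_mod_cast h2
    rw [CharP.cast_eq_zero_iff F p] at h'
    rwa [(Nat.prime_dvd_prime_iff_eq (CharP.char_is_prime F p) Nat.prime_two).mp h'] at hp
  -- orthogonal pair
  let a : ιS → F := Pi.single (Sum.inl ⟨0, by omega⟩) 1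
  let b : ιS → F := Pi.single (Sum.inl ⟨1, by omega⟩) 1
  have hab : sympForm m F a b = 0 := by
    simp [sympForm, a, b, Matrix.J, Matrix.mulVec_single_one, single_dotProduct, Matrix.fromBlocks]
  obtain ⟨v, hv0, hQv⟩ : ∃ v : ιS → F, v ≠ 0 ∧ Q v = 0 := by
    by_cases hQa : Q a = 0
    · exact ⟨a, by simp [a], hQa⟩
    obtain ⟨s, hs⟩ := FiniteField.isSquare_of_char_two (F := F) (ringChar.eq F 2) (Q b / Q a)
    refine ⟨s • a + b, fun h => ?_, ?_⟩
    · have h' := congrFun h (Sum.inl ⟨1, by omega⟩)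
      rw [Pi.add_apply, Pi.smul_apply, show a (Sum.inl ⟨1, by omega⟩) = 0 from
          Pi.single_eq_of_ne (fun hh => by simpa using congrArg Fin.val (Sum.inl_injective hh)) 1,
        show b (Sum.inl ⟨1, by omega⟩) = 1 from Pi.single_eq_same _ _, smul_zero, zero_add] at h'
      exact one_ne_zero h'
    rw [hadd, hQ.smul, sympForm_smul_left, hab, pow_two, ← hs, div_mul_cancel₀ _ hQa]
    linear_combination Q b * h2
  obtain ⟨u, hu⟩ := sympForm_nondeg hv0
  -- a non-singular vector orthogonal to `v`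
  obtain ⟨x, hxv, hQx⟩ : ∃ x : ιS → F, sympForm m F x v = 0 ∧ Q x ≠ 0 := by
    by_contra hc
    push Not at hc
    -- then `v⊥` would be totally singular
    have hperp : ∀ x y, sympForm m F x v = 0 → sympForm m F y v = 0 → sympForm m F x y = 0 := by
      intro x y hx hy
      have h := hadd x y
      rw [hc x hx, hc y hy, hc (x + y) (by rw [sympForm_add_left, hx, hy, add_zero])] at h
      linear_combination -h
    let φ : (ιS → F) →ₗ[F] F × F :=
      { toFun := fun x => (sympForm m F x v, sympForm m F x u)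
        map_add' := fun a b => by simp [sympForm_add_left]
        map_smul' := fun c a => by simp [sympForm_smul_left] }
    have h1 : LinearMap.ker φ ≠ ⊥ := LinearMap.ker_ne_bot_of_finrank_lt (by
      rw [Module.finrank_prod, Module.finrank_self, Module.finrank_fintype_fun_eq_card, Fintype.card_sum,
        Fintype.card_fin]
      omega)
    obtain ⟨z, hz, hz0⟩ := (Submodule.ne_bot_iff _).mp h1
    have hzv : sympForm m F z v = 0 := congrArg Prod.fst hz
    have hzu : sympForm m F z u = 0 := congrArg Prod.snd hz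
    obtain ⟨w, hw⟩ := sympForm_nondeg' hz0
    apply hw
    have hw' : sympForm m F (w + (-(sympForm m F w v / sympForm m F u v)) • u) v = 0 := by
      rw [sympForm_add_left, sympForm_smul_left, neg_mul, div_mul_cancel₀ _ hu, add_neg_cancel]
    have h := hperp z _ hzv hw'
    rwa [sympForm_add_right, sympForm_smul_right, hzu, mul_zero, add_zero] at h
  obtain ⟨c, hc⟩ := hle (stv_mem v 1)
  have hc1 : (c : F) = 1 := by
    have h := hc x
    rw [stv_mulVec, hxv, mul_zero, zero_smul, add_zero] at h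
    exact (mul_eq_right₀ hQx).mp h.symm
  have h := hc u
  rw [hc1, one_mul, stv_mulVec, one_mul, hadd, hQ.smul, hQv, mul_zero, add_zero, sympForm_smul_right,
    add_eq_left] at h
  exact mul_ne_zero hu hu h

end Cfsg.Agent.Lib.MaxClass
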