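import Mathlib
import Cfsg.Prelude.Def_GeometricClasses
import Cfsg.Agent.Lib.Orth.Siegel
import Cfsg.Agent.Lib.MaxClass.NotTop
import Cfsg.Agent.Lib.MaxClass.NotTopSymp

/-!
No member of a geometric class contains the Omega group of a non-degenerate quadratic form of
dimension at least five in odd characteristic.
-/

set_option autoImplicit false
set_option linter.style.haveILetI false
set_option linter.unusedSectionVars false

namespace Cfsg.Agent.Lib.MaxClass.OmegaNotTop

open Cfsg Cfsg.Geo Matrix QuadraticMap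
open Cfsg.Agent.Lib.Orth Cfsg.Agent.Lib.MaxClass

variable {ι : Type} [Fintype ι] [DecidableEq ι] {F : Type*} [Field F] {Q : QuadraticForm F (ι → F)}

/-- A Siegel element as a matrix group element. -/
noncomputable def sieg (Q : QuadraticForm F (ι → F)) (u v : ι → F) (hu : Q u = 0) (hv : Q v = 0)
    (huv : polar ⇑Q u v = 0) (c : F) : GL ι F :=
  (siegel Q u v hu hv huv c : ↥(isometryGroup F ⇑Q))

theorem sieg_mulVec {u v : ι → F} (hu : Q u = 0) (hv : Q v = 0) (huv : polar ⇑Q u v = 0) (c : F)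
    (x : ι → F) : (sieg Q u v hu hv huv c : Matrix ι ι F) *ᵥ x =
      x + c • (polar ⇑Q u x • v - polar ⇑Q v x • u) :=
  siegelMatrix_mulVec u v c x

theorem coe_sieg {u v : ι → F} (hu : Q u = 0) (hv : Q v = 0) (huv : polar ⇑Q u v = 0) (c : F) :
    (sieg Q u v hu hv huv c : Matrix ι ι F) = siegelMatrix (⇑Q) u v c := rfl

theorem sieg_mul {u v : ι → F} (hu : Q u = 0) (hv : Q v = 0) (huv : polar ⇑Q u v = 0) (c d : F) :
    sieg Q u v hu hv huv c * sieg Q u v hu hv huv d = sieg Q u v hu hv huv (c + d) :=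
  Units.ext (siegelMatrix_mul hu hv huv c d)

theorem sieg_pow {u v : ι → F} (hu : Q u = 0) (hv : Q v = 0) (huv : polar ⇑Q u v = 0) (c : F) (k : ℕ) :
    sieg Q u v hu hv huv c ^ k = sieg Q u v hu hv huv (k • c) := by
  induction k with
  | zero =>
    rw [pow_zero, zero_smul]
    exact Units.ext (siegelMatrix_zero u v).symm
  | succ k ih => rw [pow_succ, ih, sieg_mul, succ_nsmul]

section

variable [Finite F] (h2 : (2 : F) ≠ 0) (hQ : (QuadraticMap.polarBilin Q).Nondegenerate)
  (hn : 5 ≤ Fintype.card ι)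
include h2 hQ hn

theorem sieg_mem {u v : ι → F} (hu : Q u = 0) (hv : Q v = 0) (huv : polar ⇑Q u v = 0) (c : F) :
    sieg Q u v hu hv huv c ∈ omegaGL ⇑Q :=
  Subgroup.mem_map_of_mem _ (siegelGroup_le_omega h2 hQ (by omega) (siegel_mem hu hv huv c))

omit [Finite F] h2 hn in
theorem exists_polar_ne_zero {x : ι → F} (hx : x ≠ 0) : ∃ w, polar ⇑Q x w ≠ 0 := by
  by_contra hc
  push Not at hc
  exact hx (hQ.1 x fun w => by rw [QuadraticMap.polarBilin_apply_apply, hc])

/-- Two orthogonal hyperbolic pairs, one vector of which is not orthogonal to a given vector. -/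
theorem exists_twoPairs_at {x : ι → F} (hx : x ≠ 0) :
    ∃ e f r s, TwoPairs Q e f r s ∧ polar ⇑Q e x ≠ 0 := by
  obtain ⟨e, f, r, s, h⟩ := exists_twoPairs h2 hQ hn
  by_cases h1 : polar ⇑Q e x = 0
  swap
  · exact ⟨e, f, r, s, h, h1⟩
  by_cases h3 : polar ⇑Q f x = 0
  swap
  · exact ⟨f, e, r, s, h.swap, h3⟩
  obtain ⟨w, hw⟩ := exists_polar_ne_zero hQ hx
  set w' := w - polar ⇑Q f w • e - polar ⇑Q e w • f with hw'
  have hfw' : polar ⇑Q f w' = 0 := by
    simp [hw', polar_sub_right, polar_smul_right, polar_self_zero h.hf, polar_comm (⇑Q) f e, h.hef]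
  have hew' : polar ⇑Q e w' = 0 := by
    simp [hw', polar_sub_right, polar_smul_right, polar_self_zero h.he, h.hef]
  obtain ⟨g, -, hg⟩ := h.swap.eichler_mem hfw'
  refine ⟨app g e, app g f, app g r, app g s,
    ⟨by rw [Q_app, h.he], by rw [Q_app, h.hf], by rw [Q_app, h.hr], by rw [Q_app, h.hs],
      by rw [polar_app, h.hef], by rw [polar_app, h.hrs], by rw [polar_app, h.her], by rw [polar_app, h.hes],
      by rw [polar_app, h.hfr], by rw [polar_app, h.hfs]⟩, ?_⟩
  have he' : app g e = e + w' - Q w' • f := by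
    rw [hg, eichler, polar_comm (⇑Q) f e, h.hef, polar_comm (⇑Q) w' e, hew', one_smul, mul_one, zero_add]
  rw [he', polar_sub_left, polar_smul_left, polar_add_left, h1, h3, smul_zero, sub_zero, zero_add, hw',
    polar_sub_left, polar_sub_left, polar_smul_left, polar_smul_left, h1, h3, smul_zero, smul_zero, sub_zero,
    sub_zero, polar_comm]
  exact hw

theorem not_le_subspaceStabilizer {W : Submodule F (ι → F)} (h0 : W ≠ ⊥) (h1 : W ≠ ⊤) :
    ¬ omegaGL ⇑Q ≤ subspaceStabilizer W := by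
  intro hle
  have hmem : ∀ g ∈ siegelGroup Q, ∀ y ∈ W, app g y ∈ W := by
    intro g hg y hy
    exact (hle (Subgroup.mem_map_of_mem _ (siegelGroup_le_omega h2 hQ (by omega) hg)) y).mp hy
  obtain ⟨x, hxW, hx⟩ := W.ne_bot_iff.mp h0
  obtain ⟨e, f, r, s, h, hex⟩ := exists_twoPairs_at h2 hQ hn hx
  have key : ∀ a, polar ⇑Q e a = 0 →
      polar ⇑Q e x • a - polar ⇑Q a x • e ∈ W ∧ (Q a * polar ⇑Q e x) • e ∈ W := by
    intro a ha
    obtain ⟨g, hg, hga⟩ := h.eichler_mem ha
    obtain ⟨g', hg', hga'⟩ := h.eichler_mem (a := -a) (by rw [polar_neg_right, ha, neg_zero])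
    have m1 := W.sub_mem (hmem g hg x hxW) hxW
    have m2 := W.sub_mem (hmem g' hg' x hxW) hxW
    rw [hga, eichler] at m1
    rw [hga', eichler, QuadraticMap.map_neg, polar_neg_left] at m2
    have m3 := W.smul_mem (2 : F)⁻¹ (W.sub_mem m1 m2)
    have m4 := W.smul_mem (-(2 : F)⁻¹) (W.add_mem m1 m2)
    have h22 : (2 : F)⁻¹ * 2 = 1 := inv_mul_cancel₀ h2
    constructor
    · convert m3 using 1
      match_scalars <;> field_simp <;> ring
    · convert m4 using 1
      match_scalars <;> field_simp <;> ring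
  have heW : e ∈ W := by
    have h' := (key (r + s) (by rw [polar_add_right, h.her, h.hes, add_zero])).2
    rw [QuadraticMap.map_add (⇑Q), h.hr, h.hs, h.hrs, zero_add, zero_add, one_mul] at h'
    exact (W.smul_mem_iff hex).mp h'
  have hperp : ∀ a, polar ⇑Q e a = 0 → a ∈ W := by
    intro a ha
    have h' := W.add_mem (key a ha).1 (W.smul_mem (polar ⇑Q a x) heW)
    rw [sub_add_cancel] at h'
    exact (W.smul_mem_iff hex).mp h'
  refine h1 (top_unique fun y _ => ?_)
  have hy := hperp (y - (polar ⇑Q e y / polar ⇑Q e x) • x)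
    (by rw [polar_sub_right, polar_smul_right, smul_eq_mul, div_mul_cancel₀ _ hex, sub_self])
  simpa using W.add_mem hy (W.smul_mem (polar ⇑Q e y / polar ⇑Q e x) hxW)

theorem not_le_decompositionStabilizer {t k : ℕ} {D : Fin t → Submodule F (ι → F)}
    (hD : IsMDecomposition k D) : ¬ omegaGL ⇑Q ≤ decompositionStabilizer D := by
  intro hle
  let i : Fin t := ⟨0, lt_of_lt_of_le Nat.zero_lt_two hD.two_le⟩
  have hne : ∀ l, D l ≠ ⊥ := fun l h => by
    have := hD.finrank_eq l
    rw [h, finrank_bot] at this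
    have := hD.pos
    omega
  have htop : D i ≠ ⊤ := fun h => by
    let j : Fin t := ⟨1, lt_of_lt_of_le Nat.one_lt_two hD.two_le⟩
    have hd := hD.indep.pairwiseDisjoint (show i ≠ j by simp [i, j, Fin.ext_iff])
    simp only [Function.onFun, h, top_disjoint] at hd
    exact hne j hd
  -- the Siegel elements fix every member
  have hfix : ∀ g ∈ siegelSet Q, ∀ y ∈ D i, app g y ∈ D i := by
    intro g hg y hy
    obtain ⟨u, v, hu, hv, huv, c, rfl⟩ := exists_eq_siegel hg
    obtain ⟨σ, hσ⟩ := hle (sieg_mem h2 hQ hn hu hv huv c)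
    have hmap : ∀ l, ∀ z ∈ D l, (sieg Q u v hu hv huv c : Matrix ι ι F) *ᵥ z ∈ D (σ l) := fun l z hz => by
      rw [← hσ l]
      exact ⟨z, hz, Matrix.toLin'_apply _ _⟩
    show (sieg Q u v hu hv huv c : Matrix ι ι F) *ᵥ y ∈ D i
    by_cases hi : σ i = i
    · rw [← hi]
      exact hmap i y hy
    exfalso
    obtain ⟨z, hz, hz0⟩ := (D i).ne_bot_iff.mp (hne i)
    have h1 := hmap i z hz
    have h3 := hmap (σ i) _ h1
    set N := fun x : ι → F => c • (polar ⇑Q u x • v - polar ⇑Q v x • u) with hN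
    have hg1 : ∀ x, (sieg Q u v hu hv huv c : Matrix ι ι F) *ᵥ x = x + N x := sieg_mulVec hu hv huv c
    have hsq : (sieg Q u v hu hv huv c : Matrix ι ι F) *ᵥ ((sieg Q u v hu hv huv c : Matrix ι ι F) *ᵥ z) =
        (2 : F) • ((sieg Q u v hu hv huv c : Matrix ι ι F) *ᵥ z) - z := by
      rw [Matrix.mulVec_mulVec, ← Units.val_mul, sieg_mul, sieg_mulVec, sieg_mulVec]
      module
    rw [hsq] at h3
    by_cases h4 : σ (σ i) = i
    · rw [h4] at h3
      have h5 : (2 : F) • ((sieg Q u v hu hv huv c : Matrix ι ι F) *ᵥ z) ∈ D i := by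
        simpa using (D i).add_mem h3 hz
      have h6 := Submodule.disjoint_def.mp (hD.indep.pairwiseDisjoint hi) _ h1
        (((D i).smul_mem_iff h2).mp h5)
      apply hz0
      have h7 := congrArg (fun x => ((sieg Q u v hu hv huv c)⁻¹ : GL ι F).val *ᵥ x) h6
      simpa [Matrix.mulVec_mulVec] using h7
    · have hne3 : σ (σ i) ≠ σ i := fun h => hi (σ.injective h)
      have hzero : (2 : F) • ((sieg Q u v hu hv huv c : Matrix ι ι F) *ᵥ z) - z = 0 := by
        refine Submodule.disjoint_def.mp (hD.indep (σ (σ i))) _ h3 ?_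
        exact Submodule.sub_mem _
          (Submodule.mem_iSup_of_mem (σ i) (Submodule.mem_iSup_of_mem hne3.symm ((D _).smul_mem _ h1)))
          (Submodule.mem_iSup_of_mem i (Submodule.mem_iSup_of_mem (Ne.symm h4) hz))
      refine hz0 (Submodule.disjoint_def.mp (hD.indep.pairwiseDisjoint (Ne.symm hi)) _ hz ?_)
      rw [← sub_eq_zero.mp hzero]
      exact (D _).smul_mem _ h1
  -- hence so does the whole group
  refine not_le_subspaceStabilizer h2 hQ hn (hne i) htop ?_
  rintro _ ⟨g, hg, rfl⟩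
  rw [omega_eq_siegelGroup h2 hQ hn, siegelGroup] at hg
  refine ((stabilizing (glToMat ι F) (D i : Set (ι → F))).comap (isometryGroup F ⇑Q).subtype).closure_le.mpr ?_ hg
  intro g hg'
  intro y
  refine ⟨fun hy => hfix g hg' y hy, fun hy => ?_⟩
  obtain ⟨u, v, hu, hv, huv, c, rfl⟩ := exists_eq_siegel hg'
  have h := hfix (siegel Q u v hu hv huv (-c)) ⟨u, v, -c, hu, hv, huv, rfl⟩ _ hy
  have e : (sieg Q u v hu hv huv (-c) : Matrix ι ι F) *ᵥ ((sieg Q u v hu hv huv c : Matrix ι ι F) *ᵥ y) = y := by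
    rw [Matrix.mulVec_mulVec, ← Units.val_mul, sieg_mul, neg_add_cancel, coe_sieg, siegelMatrix_zero, Matrix.one_mulVec]
  rw [← e]
  exact h

theorem not_le_subalgebraNormalizer {r : ℕ} (hr : 2 ≤ r) {K : Subalgebra F (Matrix ι ι F)}
    (hK : IsFieldSubalgebra r K) : ¬ omegaGL ⇑Q ≤ subalgebraNormalizer K := by
  intro hle
  haveI : Nonempty ι := Fintype.card_pos_iff.mp (by omega)
  obtain ⟨k, hk, hkns⟩ := exists_notMem_bot_of_finrank hr hK
  have hkill : ∀ {u v : ι → F} (hu : Q u = 0) (hv : Q v = 0) (huv : polar ⇑Q u v = 0) (z : ι → F),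
      polar ⇑Q u (k *ᵥ z) • v - polar ⇑Q v (k *ᵥ z) • u =
        k *ᵥ (polar ⇑Q u z • v - polar ⇑Q v z • u) := by
    intro u v hu hv huv z
    set T := sieg Q u v hu hv huv 1 with hT
    have hk' := (hle (sieg_mem h2 hQ hn hu hv huv 1) k).mp hk
    rw [← hT] at hk'
    set k' := (T : Matrix ι ι F) * k * ((T⁻¹ : GL ι F) : Matrix ι ι F) with hk'def
    let φ : (ι → F) →ₗ[F] Fin 4 → F := LinearMap.pi ![(QuadraticMap.polarBilin Q) u, (QuadraticMap.polarBilin Q) v,
      ((QuadraticMap.polarBilin Q) u).comp (Matrix.mulVecLin k),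
      ((QuadraticMap.polarBilin Q) v).comp (Matrix.mulVecLin k)]
    have hker : LinearMap.ker φ ≠ ⊥ := LinearMap.ker_ne_bot_of_finrank_lt (by simp; omega)
    obtain ⟨x, hx, hx0⟩ := (Submodule.ne_bot_iff _).mp hker
    have hx' := congrFun (LinearMap.mem_ker.mp hx)
    have c0 : polar ⇑Q u x = 0 := hx' 0
    have c1 : polar ⇑Q v x = 0 := hx' 1
    have c2 : polar ⇑Q u (k *ᵥ x) = 0 := hx' 2
    have c3 : polar ⇑Q v (k *ᵥ x) = 0 := hx' 3
    have hTx : (T : Matrix ι ι F) *ᵥ x = x := by rw [hT, sieg_mulVec, c0, c1]; simp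
    have hTi : ((T⁻¹ : GL ι F) : Matrix ι ι F) *ᵥ x = x := by
      conv_lhs => rw [← hTx]
      rw [Matrix.mulVec_mulVec, Units.inv_mul, Matrix.one_mulVec]
    have hk'x : k' *ᵥ x = k *ᵥ x := by
      rw [hk'def, ← Matrix.mulVec_mulVec, ← Matrix.mulVec_mulVec, hTi, hT, sieg_mulVec, c2, c3]
      simp
    have heq : k' = k := by
      by_contra hne
      obtain ⟨y, -, hy⟩ := hK.inv (k' - k) (K.sub_mem hk' hk) (sub_ne_zero.mpr hne)
      have hy' : y * (k' - k) = 1 := mul_eq_one_comm.mp hy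
      have := congrArg (fun A : Matrix ι ι F => A *ᵥ x) hy'
      simp only [← Matrix.mulVec_mulVec, Matrix.one_mulVec, Matrix.sub_mulVec, hk'x, sub_self, Matrix.mulVec_zero]
        at this
      exact hx0 this.symm
    have hcomm : (T : Matrix ι ι F) * k = k * (T : Matrix ι ι F) := by
      conv_rhs => rw [← heq, hk'def, mul_assoc, Units.inv_mul, mul_one]
    have h5 := congrArg (fun A : Matrix ι ι F => A *ᵥ z) hcomm
    simp only [← Matrix.mulVec_mulVec, hT, sieg_mulVec, one_smul, Matrix.mulVec_add] at h5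
    exact add_left_cancel h5
  obtain ⟨e, f, r, s, h⟩ := exists_twoPairs h2 hQ hn
  have hspan : ∀ a, Q a = 0 → polar ⇑Q e a = 0 → ∀ b, polar ⇑Q a b = 1 → polar ⇑Q e b = 0 →
      ∃ p q : F, k *ᵥ e = p • e + q • a := by
    intro a ha hea b hab heb
    have h5 := hkill h.he ha hea b
    rw [heb, hab, zero_smul, zero_sub, one_smul, Matrix.mulVec_neg] at h5
    refine ⟨polar ⇑Q a (k *ᵥ b), -polar ⇑Q e (k *ᵥ b), ?_⟩
    rw [neg_smul]
    linear_combination (norm := module) h5
  obtain ⟨p, q, hpq⟩ := hspan r h.hr h.her s h.hrs h.hes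
  obtain ⟨p', q', hpq'⟩ := hspan s h.hs h.hes r ((polar_comm (⇑Q) s r).trans h.hrs) h.her
  have hq : q = 0 := by
    have h5 := congrArg (polar ⇑Q s) (hpq.symm.trans hpq')
    simpa [polar_add_right, polar_smul_right, polar_comm (⇑Q) s e, h.hes, polar_comm (⇑Q) s r, h.hrs,
      polar_self_zero h.hs] using h5
  rw [hq, zero_smul, add_zero] at hpq
  have he0 : e ≠ 0 := fun h0 => one_ne_zero (α := F) (by rw [← h.hef, h0, polar_zero_left])
  refine hkns p ?_
  by_contra hne
  obtain ⟨y, -, hy⟩ := hK.inv (k - p • 1) (K.sub_mem hk (K.smul_mem K.one_mem p)) (sub_ne_zero.mpr hne)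
  have hy' : y * (k - p • 1) = 1 := mul_eq_one_comm.mp hy
  have := congrArg (fun A : Matrix ι ι F => A *ᵥ e) hy'
  simp only [← Matrix.mulVec_mulVec, Matrix.one_mulVec, Matrix.sub_mulVec, Matrix.smul_mulVec, hpq, sub_self,
    Matrix.mulVec_zero] at this
  exact he0 this.symm

theorem not_le_subfieldSubgroup {F₀ : Subfield F} (hF : F₀ ≠ ⊤) (P : GL ι F) :
    ¬ omegaGL ⇑Q ≤ subfieldSubgroup F₀ P := by
  intro hle
  obtain ⟨p, hchar⟩ := CharP.exists F
  haveI hp : Fact p.Prime := ⟨CharP.char_is_prime F p⟩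
  haveI : Nonempty ι := Fintype.card_pos_iff.mp (by omega)
  -- unipotent elements are realised over the subfield
  have hreal : ∀ {u v : ι → F} (hu : Q u = 0) (hv : Q v = 0) (huv : polar ⇑Q u v = 0) (c : F) (i j : ι),
      ((P⁻¹ * sieg Q u v hu hv huv c * P : GL ι F) : Matrix ι ι F) i j ∈ F₀ := by
    intro u v hu hv huv c i j
    obtain ⟨x, hx, hxe⟩ := hle (sieg_mem h2 hQ hn hu hv huv c)
    have hxt : x = P⁻¹ * sieg Q u v hu hv huv c * P := by
      rw [← hxe]
      show x = P⁻¹ * (P * x * P⁻¹) * P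
      group
    subst hxt
    set g := P⁻¹ * sieg Q u v hu hv huv c * P with hgdef
    obtain ⟨_, ⟨a, rfl⟩, z, hz, haz⟩ := Subgroup.mem_sup_of_normal_right.mp hx
    obtain ⟨d, hd⟩ := (mem_scalars_iff z).mp hz
    set A := Matrix.GeneralLinearGroup.map (F₀.subtype : F₀ →+* F) a with hA
    have hAval : ∀ (b : GL ι F₀) (k l : ι),
        (Matrix.GeneralLinearGroup.map (F₀.subtype : F₀ →+* F) b : Matrix ι ι F) k l ∈ F₀ := fun b k l =>
      ((b : Matrix ι ι F₀) k l).2
    have hgp : g ^ p = 1 := by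
      rw [hgdef, show P⁻¹ * sieg Q u v hu hv huv c * P = P⁻¹ * sieg Q u v hu hv huv c * (P⁻¹)⁻¹ by rw [inv_inv],
        conj_pow, sieg_pow]
      rw [nsmul_eq_mul, CharP.cast_eq_zero, zero_mul,
        show sieg Q u v hu hv huv 0 = 1 from Units.ext (siegelMatrix_zero u v)]
      group
    have hzc : Commute A z := by
      apply Units.ext
      rw [Units.val_mul, Units.val_mul, hd, Matrix.smul_mul, one_mul, Matrix.mul_smul, mul_one]
    have hdp : (d : F) ^ p ∈ F₀ := by
      obtain ⟨l⟩ := (inferInstance : Nonempty ι)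
      have h1 : A ^ p * z ^ p = 1 := by rw [← hzc.mul_pow, haz, hgp]
      have hzp : ((z ^ p : GL ι F) : Matrix ι ι F) = (d : F) ^ p • 1 := by
        rw [Units.val_pow_eq_pow_val, hd, smul_pow, one_pow]
      have h3 := congrArg (fun X : GL ι F => (X : Matrix ι ι F) l l) h1
      simp only [Units.val_mul, hzp, Matrix.mul_smul, mul_one, Matrix.smul_apply, smul_eq_mul, Units.val_one,
        Matrix.one_apply_eq] at h3
      rw [hA, ← map_pow] at h3
      rw [← inv_inv ((d : F) ^ p), inv_eq_of_mul_eq_one_right h3]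
      exact F₀.inv_mem (hAval _ l l)
    have hdmem : (d : F) ∈ F₀ := by
      obtain ⟨w, hw⟩ := surjective_frobenius F₀ p ⟨_, hdp⟩
      have hw' : (w : F) ^ p = (d : F) ^ p := congrArg Subtype.val hw
      rw [← (frobenius_inj F p) (show frobenius F p (w : F) = frobenius F p (d : F) from hw')]
      exact w.2
    rw [← haz, Units.val_mul, hd, Matrix.mul_smul, mul_one, Matrix.smul_apply, smul_eq_mul]
    exact F₀.mul_mem hdmem (hAval a i j)
  obtain ⟨e, f, r, s, h⟩ := exists_twoPairs h2 hQ hn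
  refine hF (top_unique fun a _ => ?_)
  set g₁ := sieg Q e r h.he h.hr h.her a
  set g₂ := sieg Q f s h.hf h.hs h.hfs 1
  have htr : (((g₁ * g₂ : GL ι F)) : Matrix ι ι F).trace ∈ F₀ := by
    have h1 : ((P⁻¹ * g₁ * P : GL ι F) : Matrix ι ι F) * ((P⁻¹ * g₂ * P : GL ι F) : Matrix ι ι F) =
        ((P⁻¹ : GL ι F) : Matrix ι ι F) * ((g₁ * g₂ : GL ι F) : Matrix ι ι F) * (P : Matrix ι ι F) := by
      simp only [← Units.val_mul]
      congr 1
      group
    have h3 := congrArg Matrix.trace h1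
    rw [Matrix.trace_units_conj'] at h3
    rw [← h3]
    exact Subfield.sum_mem _ fun i _ => by
      rw [Matrix.diag_apply, Matrix.mul_apply]
      exact Subfield.sum_mem _ fun j _ => F₀.mul_mem (hreal _ _ _ _ i j) (hreal _ _ _ _ j i)
  have hval : (((g₁ * g₂ : GL ι F)) : Matrix ι ι F).trace = (Fintype.card ι : F) - 2 * a := by
    rw [Units.val_mul, coe_sieg, coe_sieg, siegelMatrix, siegelMatrix]
    simp only [Matrix.mul_add, Matrix.add_mul, one_mul, mul_one, Matrix.trace_add, Matrix.trace_one,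
      Matrix.smul_mul, Matrix.mul_smul, Matrix.trace_smul, Matrix.sub_mul, Matrix.mul_sub, Matrix.trace_sub,
      Matrix.vecMulVec_mul_vecMulVec, Matrix.trace_vecMulVec, dotProduct_comm _ (polarVec (⇑Q) _),
      polarVec_dotProduct, smul_dotProduct, dotProduct_smul, smul_eq_mul, h.hef, h.hrs, h.her, h.hes, h.hfr, h.hfs,
      polar_comm (⇑Q) r e, polar_comm (⇑Q) f e, polar_comm (⇑Q) s r, polar_comm (⇑Q) s e, polar_comm (⇑Q) r f,
      polar_comm (⇑Q) s f]
    ring
  rw [hval] at htr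
  have h2a : 2 * a ∈ F₀ := by simpa using F₀.sub_mem (natCast_mem F₀ (Fintype.card ι)) htr
  have : a = (2 : F)⁻¹ * (2 * a) := by rw [← mul_assoc, inv_mul_cancel₀ h2, one_mul]
  rw [this]
  exact F₀.mul_mem (F₀.inv_mem (by exact_mod_cast natCast_mem F₀ 2)) h2a

theorem not_le_tensorWreathSubgroup_two {d : ℕ} (hd : 3 ≤ d) (E : ι ≃ (Fin 2 → Fin d)) (P : GL ι F) :
    ¬ omegaGL ⇑Q ≤ tensorWreathSubgroup d 2 E P := by
  intro hle
  obtain ⟨e, f, r, s, h⟩ := exists_twoPairs h2 hQ hn
  set g := sieg Q e r h.he h.hr h.her 1 with hg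
  set g' := sieg Q e r h.he h.hr h.her (2 : F)⁻¹ with hg'
  have hgg : g' * g' = g := by
    rw [hg, hg', sieg_mul]
    congr 1
    field_simp
    ring
  obtain ⟨k', ⟨k, hk, rfl⟩, hxe⟩ := hle (sieg_mem h2 hQ hn h.he h.hr h.her (2 : F)⁻¹)
  obtain ⟨σ, a, hka⟩ := mem_tensorWreathStandard hk
  have hentry : ∃ A B : Matrix (Fin d) (Fin d) F, ∀ x y : Fin 2 → Fin d,
      ((k * k : GL (Fin 2 → Fin d) F) : Matrix (Fin 2 → Fin d) (Fin 2 → Fin d) F) x y =
        A (x 0) (y 0) * B (x 1) (y 1) := by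
    have hsum : ∀ x y : Fin 2 → Fin d,
        ((k * k : GL (Fin 2 → Fin d) F) : Matrix (Fin 2 → Fin d) (Fin 2 → Fin d) F) x y =
          ∑ z : Fin d, ∑ w : Fin d,
            (a 0 (x 0) (![z, w] (σ 0)) * a 1 (x 1) (![z, w] (σ 1))) *
            (a 0 z (y (σ 0)) * a 1 w (y (σ 1))) := by
      intro x y
      rw [Units.val_mul, Matrix.mul_apply, ← (finTwoArrowEquiv (Fin d)).symm.sum_comp, Fintype.sum_prod_type]
      refine Finset.sum_congr rfl fun z _ => Finset.sum_congr rfl fun w _ => ?_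
      rw [hka, hka, Fin.prod_univ_two, Fin.prod_univ_two]
      rfl
    rcases ((by decide : ∀ τ : Equiv.Perm (Fin 2), τ = 1 ∨ τ = Equiv.swap 0 1) σ) with rfl | rfl
    · refine ⟨a 0 * a 0, a 1 * a 1, fun x y => ?_⟩
      rw [hsum, Matrix.mul_apply, Matrix.mul_apply, Finset.sum_mul_sum]
      refine Finset.sum_congr rfl fun z _ => Finset.sum_congr rfl fun w _ => ?_
      simp
      ring
    · refine ⟨a 0 * a 1, a 1 * a 0, fun x y => ?_⟩
      rw [hsum, Matrix.mul_apply, Matrix.mul_apply, Finset.sum_mul_sum, Finset.sum_comm]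
      refine Finset.sum_congr rfl fun z _ => Finset.sum_congr rfl fun w _ => ?_
      simp
      ring
  obtain ⟨A, B, hAB⟩ := hentry
  set M := P⁻¹ * g * P with hM
  have hMval : ∀ x y, (M : Matrix ι ι F) (E.symm x) (E.symm y) = A (x 0) (y 0) * B (x 1) (y 1) := by
    intro x y
    have hrw : M = glReindex E.symm (k * k) := by
      rw [hM, ← hgg, map_mul]
      have : glReindex E.symm k = P⁻¹ * g' * P := by
        rw [hg', ← hxe]
        show glReindex E.symm k = P⁻¹ * (P * glReindex E.symm k * P⁻¹) * P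
        group
      rw [this]
      group
    rw [← hAB, hrw]
    simp [glReindex, Matrix.reindex_apply]
  set u₁ := ((P⁻¹ : GL ι F) : Matrix ι ι F) *ᵥ e
  set u₂ := ((P⁻¹ : GL ι F) : Matrix ι ι F) *ᵥ r
  set S := Submodule.span F (Set.range ![u₁, u₂]) with hS
  have hSfin : Module.finrank F S ≤ 2 := (finrank_range_le_card _).trans_eq (Fintype.card_fin 2)
  have himg : ∀ x : ι → F, (M : Matrix ι ι F) *ᵥ x - x ∈ S := by
    intro x
    rw [hM, Units.val_mul, Units.val_mul, ← Matrix.mulVec_mulVec, ← Matrix.mulVec_mulVec, hg, sieg_mulVec,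
      Matrix.mulVec_add, Matrix.mulVec_mulVec, Units.inv_mul, Matrix.one_mulVec, add_sub_cancel_left, one_smul,
      Matrix.mulVec_sub, Matrix.mulVec_smul, Matrix.mulVec_smul]
    exact S.sub_mem (S.smul_mem _ (Submodule.subset_span ⟨1, rfl⟩)) (S.smul_mem _ (Submodule.subset_span ⟨0, rfl⟩))
  -- one of the two factors is scalar
  have hscalar : ∀ (A B : Matrix (Fin d) (Fin d) F) (π : ι ≃ Fin d × Fin d),
      (∀ i j, (M : Matrix ι ι F) i j = A (π i).1 (π j).1 * B (π i).2 (π j).2) →
      ∃ c : F, B = c • 1 := by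
    intro A B π hval
    haveI : Nonempty (Fin d) := ⟨⟨0, by omega⟩⟩
    by_contra hc
    obtain ⟨y, hy0, hy⟩ : ∃ y : Fin d → F, y ≠ 0 ∧ ∀ c : F, B *ᵥ y ≠ c • y := by
      by_contra hcon
      push Not at hcon
      exact hc (exists_smul_of_lines hcon)
    let L : (Fin d → F) →ₗ[F] (ι → F) :=
      { toFun := fun c i => (A *ᵥ c) (π i).1 * (B *ᵥ y) (π i).2 - c (π i).1 * y (π i).2
        map_add' := fun c c' => by
          funext i
          simp only [Matrix.mulVec_add, Pi.add_apply]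
          ring
        map_smul' := fun s c => by
          funext i
          simp only [Matrix.mulVec_smul, Pi.smul_apply, smul_eq_mul, RingHom.id_apply]
          ring }
    have hLS : ∀ c, L c ∈ S := by
      intro c
      convert himg (fun i => c (π i).1 * y (π i).2) using 1
      funext i
      show (A *ᵥ c) (π i).1 * (B *ᵥ y) (π i).2 - c (π i).1 * y (π i).2 = _
      rw [Pi.sub_apply]
      congr 1
      simp only [Matrix.mulVec, dotProduct]
      rw [← π.symm.sum_comp, Fintype.sum_prod_type, Finset.sum_mul_sum]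
      refine Finset.sum_congr rfl fun z _ => Finset.sum_congr rfl fun w _ => ?_
      rw [hval, Equiv.apply_symm_apply]
      ring
    have hinj : Function.Injective (L.codRestrict S hLS) := by
      rw [← LinearMap.ker_eq_bot, LinearMap.ker_codRestrict, LinearMap.ker_eq_bot']
      intro c hc0
      by_contra hne
      obtain ⟨i, hi⟩ := Function.ne_iff.mp hne
      have hrel : ∀ j, (A *ᵥ c) i * (B *ᵥ y) j = c i * y j := fun j => by
        have := congrFun hc0 (π.symm (i, j))
        simpa [L, sub_eq_zero] using this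
      have hA : (A *ᵥ c) i ≠ 0 := by
        intro h0
        refine hy0 (funext fun j => ?_)
        have := hrel j
        rw [h0, zero_mul] at this
        exact (mul_eq_zero.mp this.symm).resolve_left hi
      refine hy (c i / (A *ᵥ c) i) (funext fun j => ?_)
      rw [Pi.smul_apply, smul_eq_mul, div_mul_eq_mul_div, eq_div_iff hA, mul_comm ((B *ᵥ y) j), hrel]
    have := LinearMap.finrank_le_finrank_of_injective hinj
    rw [Module.finrank_fintype_fun_eq_card, Fintype.card_fin] at this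
    omega
  obtain ⟨cB, hB⟩ := hscalar A B (E.trans (finTwoArrowEquiv (Fin d))) fun i j => by
    have := hMval (E i) (E j)
    simpa using this
  obtain ⟨cA, hA⟩ := hscalar B A ((E.trans (finTwoArrowEquiv (Fin d))).trans (Equiv.prodComm _ _)) fun i j => by
    have := hMval (E i) (E j)
    simpa [mul_comm] using this
  have hMs : (M : Matrix ι ι F) = (cA * cB) • 1 := by
    ext i j
    have := hMval (E i) (E j)
    rw [Equiv.symm_apply_apply, Equiv.symm_apply_apply] at this
    rw [this, hA, hB]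
    by_cases hij : i = j
    · subst hij; simp
    · have : E i 0 ≠ E j 0 ∨ E i 1 ≠ E j 1 := by
        by_contra hc
        push Not at hc
        exact hij (E.injective (funext fun l => by fin_cases l <;> [exact hc.1; exact hc.2]))
      rcases this with h' | h' <;> simp [h', hij]
  have hgs : (g : Matrix ι ι F) = (cA * cB) • 1 := by
    have : g = P * M * P⁻¹ := by rw [hM]; group
    rw [this, Units.val_mul, Units.val_mul, hMs, Matrix.mul_smul, mul_one, Matrix.smul_mul, ← Units.val_mul,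
      mul_inv_cancel, Units.val_one]
  have he := congrArg (fun X : Matrix ι ι F => X *ᵥ e) hgs
  have hf := congrArg (fun X : Matrix ι ι F => X *ᵥ f) hgs
  simp only [hg, sieg_mulVec, Matrix.smul_mulVec, Matrix.one_mulVec, polar_comm (⇑Q) r e, polar_comm (⇑Q) r f,
    h.her, h.hfr, h.hef, polar_self_zero h.he, zero_smul, sub_zero, one_smul, smul_zero, add_zero] at he hf
  have he0 : e ≠ 0 := fun h0 => one_ne_zero (α := F) (by rw [← h.hef, h0, polar_zero_left])
  have hc1 : cA * cB = 1 := smul_left_injective F he0 (show (cA * cB) • e = (1 : F) • e by rw [one_smul, ← he])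
  rw [hc1, one_smul, add_eq_left] at hf
  exact one_ne_zero (α := F) (by rw [← h.hrs, hf, polar_zero_left])

end

end Cfsg.Agent.Lib.MaxClass.OmegaNotTop
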