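import Mathlib
import Cfsg.Prelude.Def_GeometricClasses
import Cfsg.Agent.Lib.Aschbacher.Orthogonal
import Cfsg.Agent.Lib.Orth.StandardOdd
import Cfsg.Agent.Lib.MaxClass.Degree
import Cfsg.Agent.Lib.MaxClass.LinearMax
import Cfsg.Agent.Lib.MaxClass.NotTopOrth

/-!
Maximal subgroups of the Omega group of the odd-dimensional orthogonal space: one of the geometric
types, with the parameters that can occur, or in the residual class.
-/

set_option autoImplicit false
set_option linter.style.haveILetI false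
set_option linter.unusedSectionVars false

namespace Cfsg.Agent.Lib.MaxClass

open Cfsg Cfsg.Geo Matrix QuadraticMap
open Cfsg.Agent.Lib.Aschbacher Cfsg.Agent.Lib.Orth

variable {ι : Type} [Fintype ι] [DecidableEq ι] {F : Type*} [Field F] {Q : QuadraticForm F (ι → F)}

theorem polarBilin_isRefl : LinearMap.BilinForm.IsRefl (QuadraticMap.polarBilin Q) := fun x y h => by
  rw [QuadraticMap.polarBilin_apply_apply] at h ⊢
  rwa [polar_comm]

/-- The orthogonal complement for the polar form. -/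
noncomputable def polarPerp (Q : QuadraticForm F (ι → F)) (W : Submodule F (ι → F)) : Submodule F (ι → F) :=
  LinearMap.BilinForm.orthogonal (QuadraticMap.polarBilin Q) W

theorem mem_polarPerp {W : Submodule F (ι → F)} {v : ι → F} :
    v ∈ polarPerp Q W ↔ ∀ w ∈ W, polar ⇑Q w v = 0 := Iff.rfl

theorem finrank_polarPerp (hQ : (QuadraticMap.polarBilin Q).Nondegenerate) (W : Submodule F (ι → F)) :
    Module.finrank F (polarPerp Q W) = Fintype.card ι - Module.finrank F W := by
  rw [polarPerp, LinearMap.BilinForm.finrank_orthogonal hQ, Module.finrank_fintype_fun_eq_card]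

theorem polarPerp_polarPerp (hQ : (QuadraticMap.polarBilin Q).Nondegenerate) (W : Submodule F (ι → F)) :
    polarPerp Q (polarPerp Q W) = W :=
  LinearMap.BilinForm.orthogonal_orthogonal hQ polarBilin_isRefl W

theorem nondegenerateOn_polarPerp (hQ : (QuadraticMap.polarBilin Q).Nondegenerate) {W : Submodule F (ι → F)}
    (hW : IsNondegenerateOn (polar ⇑Q) W) : IsNondegenerateOn (polar ⇑Q) (polarPerp Q W) := by
  intro w hw hw0
  have h : ∃ x ∈ polarPerp Q W, polar ⇑Q x w ≠ 0 := by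
    by_contra hc
    push Not at hc
    have hwW : w ∈ W := by
      rw [← polarPerp_polarPerp hQ W]
      exact mem_polarPerp.mpr hc
    obtain ⟨⟨x, hx, hxw⟩, -⟩ := hW w hwW hw0
    exact hxw (mem_polarPerp.mp hw x hx)
  obtain ⟨x, hx, hxw⟩ := h
  exact ⟨⟨x, hx, hxw⟩, ⟨x, hx, by rwa [polar_comm]⟩⟩

theorem stabilizer_le_polarPerp (W : Submodule F (ι → F)) :
    subspaceStabilizer W ⊓ isometryGroup F ⇑Q ≤ subspaceStabilizer (polarPerp Q W) := by
  rintro g ⟨hg, hgI⟩ v
  have hW : ∀ w, w ∈ W ↔ (g : Matrix ι ι F) *ᵥ w ∈ W := hg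
  have hQg : ∀ x y, polar ⇑Q ((g : Matrix ι ι F) *ᵥ x) ((g : Matrix ι ι F) *ᵥ y) = polar ⇑Q x y :=
    fun x y => polar_app (⟨g, hgI⟩ : ↥(isometryGroup F ⇑Q)) x y
  show v ∈ polarPerp Q W ↔ (g : Matrix ι ι F) *ᵥ v ∈ polarPerp Q W
  rw [mem_polarPerp, mem_polarPerp]
  constructor
  · intro h w hw
    obtain ⟨x, rfl⟩ : ∃ x, (g : Matrix ι ι F) *ᵥ x = w :=
      ⟨((g⁻¹ : GL ι F) : Matrix ι ι F) *ᵥ w, by rw [Matrix.mulVec_mulVec, Units.mul_inv, Matrix.one_mulVec]⟩
    rw [hQg]
    exact h x ((hW x).mpr hw)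
  · intro h w hw
    rw [← hQg]
    exact h _ ((hW w).mp hw)

theorem nondegenerateOn_span_singleton (h2 : (2 : F) ≠ 0) {w : ι → F} (hw : Q w ≠ 0) :
    IsNondegenerateOn (polar ⇑Q) (F ∙ w) := by
  intro x hx hx0
  obtain ⟨b, rfl⟩ := Submodule.mem_span_singleton.mp hx
  have hb : b ≠ 0 := fun h => hx0 (by rw [h, zero_smul])
  refine ⟨⟨w, Submodule.mem_span_singleton_self w, ?_⟩, ⟨w, Submodule.mem_span_singleton_self w, ?_⟩⟩
  · rw [polar_smul_right, polar_self_eq, smul_eq_mul]
    exact mul_ne_zero hb (mul_ne_zero h2 hw)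
  · rw [polar_smul_left, polar_self_eq, smul_eq_mul]
    exact mul_ne_zero hb (mul_ne_zero h2 hw)

/-- Over the field of three elements the stabiliser of a hyperbolic plane fixes a non-singular line. -/
theorem exists_line_of_plus_plane [Fintype F] (h2 : (2 : F) ≠ 0) (hq : Fintype.card F = 3)
    {W : Submodule F (ι → F)} (hW : IsNondegenerateOn (polar ⇑Q) W) (hd : Module.finrank F W = 2)
    (hplus : IsPlusTypeOn ⇑Q W) :
    ∃ w : ι → F, Q w ≠ 0 ∧ subspaceStabilizer W ⊓ isometryGroup F ⇑Q ≤ subspaceStabilizer (F ∙ w) := by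
  obtain ⟨U, hUW, hUs, hUd⟩ := hplus
  have hU0 : U ≠ ⊥ := fun h => by rw [h, finrank_bot, hd] at hUd; omega
  obtain ⟨u, hu, hu0⟩ := U.ne_bot_iff.mp hU0
  have hQu : Q u = 0 := hUs u hu
  obtain ⟨⟨x, hx, hxu⟩, -⟩ := hW u (hUW hu) hu0
  rw [polar_comm] at hxu
  set y := (polar ⇑Q u x)⁻¹ • x with hy
  have huy : polar ⇑Q u y = 1 := by rw [hy, polar_smul_right, smul_eq_mul, inv_mul_cancel₀ hxu]
  clear_value y
  set v := y - Q y • u with hv
  have hvW : v ∈ W := W.sub_mem (hy ▸ W.smul_mem _ hx) (W.smul_mem _ (hUW hu))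
  have huv : polar ⇑Q u v = 1 := by
    rw [hv, polar_sub_right, polar_smul_right, polar_self_zero hQu, huy, smul_zero, sub_zero]
  have hQv : Q v = 0 := by
    rw [hv, sub_eq_add_neg, QuadraticMap.map_add (⇑Q), ← neg_smul, QuadraticMap.map_smul, hQu, polar_smul_right,
      polar_comm _ y u, huy, smul_zero, smul_eq_mul]
    ring
  have hQw : Q (u + v) = 1 := by rw [QuadraticMap.map_add (⇑Q), hQu, hQv, huv, zero_add, zero_add]
  have hli : LinearIndependent F (fun i => (![⟨u, hUW hu⟩, ⟨v, hvW⟩] i : W)) := by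
    rw [Fintype.linearIndependent_iff]
    intro g hg i
    rw [Fin.sum_univ_two] at hg
    have hg' : g 0 • u + g 1 • v = 0 := congrArg Subtype.val hg
    have e1 := congrArg (polar ⇑Q u) hg'
    have e0 := congrArg (polar ⇑Q v) hg'
    simp only [polar_add_right, polar_smul_right, polar_self_zero hQu, polar_self_zero hQv, huv,
      polar_comm (⇑Q) v u, polar_zero_right, smul_eq_mul, mul_zero, mul_one, zero_add, add_zero] at e0 e1
    fin_cases i
    · exact e0
    · exact e1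
  have hspan : ∀ z ∈ W, ∃ a b : F, z = a • u + b • v := by
    intro z hz
    have htop := hli.span_eq_top_of_card_eq_finrank (by rw [Fintype.card_fin, hd])
    have hzmem : (⟨z, hz⟩ : W) ∈ Submodule.span F (Set.range fun i => (![⟨u, hUW hu⟩, ⟨v, hvW⟩] i : W)) := by
      rw [htop]; trivial
    obtain ⟨g, hg⟩ := (Submodule.mem_span_range_iff_exists_fun F).mp hzmem
    rw [Fin.sum_univ_two] at hg
    exact ⟨g 0, g 1, (congrArg Subtype.val hg).symm⟩
  refine ⟨u + v, by rw [hQw]; exact one_ne_zero, ?_⟩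
  rintro g ⟨hg, hgI⟩
  obtain ⟨a, b, hab⟩ := hspan _ (((hg : ∀ w, w ∈ W ↔ (g : Matrix ι ι F) *ᵥ w ∈ W) (u + v)).mp
    (W.add_mem (hUW hu) hvW))
  have hQg : Q ((g : Matrix ι ι F) *ᵥ (u + v)) = Q (u + v) := mem_isometryGroup_iff.mp hgI _
  change (g : Matrix ι ι F) *ᵥ (u + v) = a • u + b • v at hab
  rw [hab, hQw, QuadraticMap.map_add (⇑Q), QuadraticMap.map_smul, QuadraticMap.map_smul, hQu, hQv,
    polar_smul_left, polar_smul_right, huv] at hQg
  simp only [smul_eq_mul, mul_zero, zero_add, mul_one] at hQg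
  have ha : a ≠ 0 := left_ne_zero_of_mul_eq_one hQg
  have ha2 : a ^ 2 = 1 := by
    have h := FiniteField.pow_card_sub_one_eq_one a ha
    rwa [hq] at h
  have hba : b = a := mul_left_cancel₀ ha (by rw [hQg, ← pow_two, ha2])
  rw [hba, ← smul_add] at hab
  intro z
  show z ∈ F ∙ (u + v) ↔ (g : Matrix ι ι F) *ᵥ z ∈ F ∙ (u + v)
  constructor
  · intro hz
    obtain ⟨r, rfl⟩ := Submodule.mem_span_singleton.mp hz
    rw [Matrix.mulVec_smul, hab, smul_smul]
    exact Submodule.smul_mem _ _ (Submodule.mem_span_singleton_self _)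
  · intro hz
    obtain ⟨r, hr⟩ := Submodule.mem_span_singleton.mp hz
    refine Submodule.mem_span_singleton.mpr ⟨r * a⁻¹, ?_⟩
    have h := congrArg (fun y => ((g⁻¹ : GL ι F) : Matrix ι ι F) *ᵥ y)
      (show (g : Matrix ι ι F) *ᵥ ((r * a⁻¹) • (u + v)) = (g : Matrix ι ι F) *ᵥ z by
        rw [Matrix.mulVec_smul, hab, smul_smul, mul_assoc, inv_mul_cancel₀ ha, mul_one, hr])
    simpa [Matrix.mulVec_mulVec] using h

/-- Every non-degenerate proper subspace may be replaced by an even-dimensional one that is not an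
exception. -/
theorem exists_even_nondegenerate [Fintype F] (h2 : (2 : F) ≠ 0) (hQ : (QuadraticMap.polarBilin Q).Nondegenerate)
    (hodd : Odd (Fintype.card ι)) (hn : 5 ≤ Fintype.card ι) {W : Submodule F (ι → F)} (h0 : W ≠ ⊥) (h1 : W ≠ ⊤)
    (hW : IsNondegenerateOn (polar ⇑Q) W) :
    ∃ W' : Submodule F (ι → F), W' ≠ ⊥ ∧ W' ≠ ⊤ ∧ Even (Module.finrank F W') ∧
      IsNondegenerateOn (polar ⇑Q) W' ∧
      ¬ (Fintype.card F = 3 ∧ Module.finrank F W' = 2 ∧ IsPlusTypeOn ⇑Q W') ∧
      subspaceStabilizer W ⊓ isometryGroup F ⇑Q ≤ subspaceStabilizer W' := by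
  have hne : ∀ X : Submodule F (ι → F), 0 < Module.finrank F X → X ≠ ⊥ := fun X hX h => by
    rw [h, finrank_bot] at hX; omega
  have hnt : ∀ X : Submodule F (ι → F), Module.finrank F X < Fintype.card ι → X ≠ ⊤ := fun X hX h => by
    rw [h, finrank_top, Module.finrank_fintype_fun_eq_card] at hX; omega
  have key : ∀ X : Submodule F (ι → F), X ≠ ⊥ → X ≠ ⊤ → Even (Module.finrank F X) →
      IsNondegenerateOn (polar ⇑Q) X →
      subspaceStabilizer W ⊓ isometryGroup F ⇑Q ≤ subspaceStabilizer X →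
      ∃ W' : Submodule F (ι → F), W' ≠ ⊥ ∧ W' ≠ ⊤ ∧ Even (Module.finrank F W') ∧
        IsNondegenerateOn (polar ⇑Q) W' ∧
        ¬ (Fintype.card F = 3 ∧ Module.finrank F W' = 2 ∧ IsPlusTypeOn ⇑Q W') ∧
        subspaceStabilizer W ⊓ isometryGroup F ⇑Q ≤ subspaceStabilizer W' := by
    intro X hX0 hX1 hXe hX hle
    by_cases hex : Fintype.card F = 3 ∧ Module.finrank F X = 2 ∧ IsPlusTypeOn ⇑Q X
    swap
    · exact ⟨X, hX0, hX1, hXe, hX, hex, hle⟩
    obtain ⟨hq, hd, hplus⟩ := hex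
    obtain ⟨w, hw, hwle⟩ := exists_line_of_plus_plane h2 hq hX hd hplus
    have hw0 : w ≠ 0 := fun h => hw (by rw [h, QuadraticMap.map_zero])
    have hfin : Module.finrank F (polarPerp Q (F ∙ w)) = Fintype.card ι - 1 := by
      rw [finrank_polarPerp hQ, finrank_span_singleton hw0]
    refine ⟨polarPerp Q (F ∙ w), hne _ (by omega), hnt _ (by omega), ?_,
      nondegenerateOn_polarPerp hQ (nondegenerateOn_span_singleton h2 hw), fun hc => by omega,
      le_trans (le_inf ((le_inf hle inf_le_right).trans hwle) inf_le_right) (stabilizer_le_polarPerp _)⟩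
    obtain ⟨j, hj⟩ := hodd
    exact ⟨j, by omega⟩
  by_cases hev : Even (Module.finrank F W)
  · exact key W h0 h1 hev hW inf_le_left
  have hlt : Module.finrank F W < Fintype.card ι := by
    have := Submodule.finrank_lt h1
    rwa [Module.finrank_fintype_fun_eq_card] at this
  have hpos : 0 < Module.finrank F W := Submodule.one_le_finrank_iff.mpr h0
  have hfin := finrank_polarPerp hQ W
  refine key _ (hne _ (by omega)) (hnt _ (by omega)) ?_ (nondegenerateOn_polarPerp hQ hW) (stabilizer_le_polarPerp W)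
  obtain ⟨j, hj⟩ := hodd
  obtain ⟨l, hl⟩ := Nat.not_even_iff_odd.mp hev
  exact ⟨j - l, by omega⟩

/-- Over the field of three elements a decomposition into isometric three-spaces refines to a frame. -/
theorem exists_frame_of_three [Fintype F] (hq : Fintype.card F = 3) {t : ℕ} {D : Fin t → Submodule F (ι → F)}
    (hD : IsOrthogonalMDecomposition (⇑Q) 3 D) :
    ∃ D' : Fin (t * 3) → Submodule F (ι → F), IsOrthogonalMDecomposition (⇑Q) 1 D' ∧
      decompositionStabilizer D ⊓ isometryGroup F ⇑Q ≤ decompositionStabilizer D' := by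
  classical
  have hodd : Odd (Fintype.card F) := by rw [hq]; decide
  have h2 := two_ne_zero_of_odd hodd
  have h3 : (3 : F) = 0 := by
    have h := Nat.cast_card_eq_zero F
    rw [hq] at h
    exact_mod_cast h
  let i₀ : Fin t := ⟨0, lt_of_lt_of_le Nat.zero_lt_two hD.decomp.decomp.two_le⟩
  let bD := Module.finBasisOfFinrankEq F (D i₀) (hD.decomp.decomp.finrank_eq i₀)
  let G : Matrix (Fin 3) (Fin 3) F := Matrix.of fun a b => polar ⇑Q (bD a : ι → F) (bD b : ι → F)
  have hcomb : ∀ f f' : Fin 3 → F, polar ⇑Q ((∑ a, f a • bD a : D i₀) : ι → F)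
      ((∑ b, f' b • bD b : D i₀) : ι → F) = f ⬝ᵥ (G *ᵥ f') := by
    intro f f'
    simp only [Submodule.coe_sum, Submodule.coe_smul, ← QuadraticMap.polarBilin_apply_apply, map_sum, map_smul,
      LinearMap.sum_apply, LinearMap.smul_apply, smul_eq_mul, dotProduct, Matrix.mulVec, G, Matrix.of_apply,
      Finset.mul_sum]
    rw [Finset.sum_comm]
    refine Finset.sum_congr rfl fun a _ => Finset.sum_congr rfl fun b _ => ?_
    ring
  have hGu : IsUnit G := by
    rw [Matrix.isUnit_iff_isUnit_det, isUnit_iff_ne_zero]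
    intro h0
    obtain ⟨f, hf0, hf⟩ := Matrix.exists_mulVec_eq_zero_iff.mpr h0
    have hw0 : ((∑ b, f b • bD b : D i₀) : ι → F) ≠ 0 := by
      intro h
      refine hf0 (funext fun j => ?_)
      exact Fintype.linearIndependent_iff.mp bD.linearIndependent f (Subtype.ext h) j
    obtain ⟨⟨x, hx, hxw⟩, -⟩ := hD.decomp.nondegenerate i₀ _ (∑ b, f b • bD b : D i₀).2 hw0
    apply hxw
    have := hcomb (fun a => bD.repr ⟨x, hx⟩ a) f
    rwa [hf, dotProduct_zero, bD.sum_repr] at this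
  obtain ⟨b, u, hu, hb⟩ := exists_congr_scalar hodd (by decide) hGu.unit (by
    show Gᵀ = G
    ext i j
    simp only [G, Matrix.transpose_apply, Matrix.of_apply]
    exact polar_comm _ _ _)
  have hb' : ∀ l l', (fun a => (b : Matrix (Fin 3) (Fin 3) F) a l) ⬝ᵥ
      (G *ᵥ fun a => (b : Matrix (Fin 3) (Fin 3) F) a l') = if l = l' then u else 0 := by
    intro l l'
    have h := congrFun (congrFun hb l) l'
    rw [Matrix.mul_assoc, Matrix.mul_apply_eq_vecMul, Matrix.smul_apply, Matrix.one_apply, smul_eq_mul,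
      mul_ite, mul_one, mul_zero] at h
    rw [← h]
    rfl
  choose φ hφ using fun i => hD.isometric i₀ i
  set x : Fin 3 → D i₀ := fun l => ∑ a, (b : Matrix (Fin 3) (Fin 3) F) a l • bD a with hx
  set v : Fin t × Fin 3 → ι → F := fun k => ((φ k.1 (x k.2) : D k.1) : ι → F) with hv
  have hpolφ : ∀ i (y z : D i₀), polar ⇑Q (φ i y : ι → F) (φ i z : ι → F) = polar ⇑Q (y : ι → F) (z : ι → F) := by
    intro i y z
    simp only [QuadraticMap.polar, ← Submodule.coe_add, ← map_add, hφ]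
  have hvv : ∀ k k', polar ⇑Q (v k) (v k') = if k = k' then u else 0 := by
    rintro ⟨i, l⟩ ⟨i', l'⟩
    by_cases hii : i = i'
    · subst hii
      rw [hv]
      simp only [hpolφ, hx, hcomb, hb', Prod.mk.injEq, true_and]
    · rw [if_neg (fun h => hii (congrArg Prod.fst h))]
      exact hD.decomp.orthogonal i i' hii _ (φ i (x l)).2 _ (φ i' (x l')).2
  have hQv : ∀ k, Q (v k) = u * (2 : F)⁻¹ := fun k => by
    rw [eq_mul_inv_iff_mul_eq₀ h2, mul_comm, ← polar_self_eq, hvv, if_pos rfl]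
  have hv0 : ∀ k, v k ≠ 0 := fun k h => hu (by
    have := hvv k k
    rw [if_pos rfl, h, polar_zero_left] at this
    exact this.symm)
  have hcoef : ∀ (f : Fin t × Fin 3 → F) k, polar ⇑Q (v k) (∑ j, f j • v j) = f k * u := by
    intro f k
    rw [Orth.polar_sum_right, Finset.sum_eq_single k]
    · rw [polar_smul_right, hvv, if_pos rfl, smul_eq_mul]
    · intro j _ hj
      rw [polar_smul_right, hvv, if_neg (Ne.symm hj), smul_zero]
    · simp
  have hli : LinearIndependent F v := by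
    rw [Fintype.linearIndependent_iff]
    intro f hf k
    have := hcoef f k
    rw [hf, polar_zero_right] at this
    exact (mul_eq_zero.mp this.symm).resolve_right hu
  haveI : Nonempty (Fin t × Fin 3) := ⟨(i₀, 0)⟩
  have hspan := hli.span_eq_top_of_card_eq_finrank (by
    rw [Fintype.card_prod, Fintype.card_fin, Fintype.card_fin, Module.finrank_fintype_fun_eq_card,
      isMDecomposition_card hD.decomp.decomp])
  set ψ : Fin (t * 3) ≃ Fin t × Fin 3 := finProdFinEquiv.symm with hψ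
  let D' : Fin (t * 3) → Submodule F (ι → F) := fun k => F ∙ v (ψ k)
  have hD' : IsMDecomposition 1 D' := by
    refine ⟨?_, one_pos, fun k => finrank_span_singleton (hv0 _),
      (hli.comp ψ ψ.injective).iSupIndep_span_singleton, ?_⟩
    · have := hD.decomp.decomp.two_le; omega
    · rw [show iSup D' = ⨆ k, F ∙ (v ∘ ψ) k from rfl, ← Submodule.span_range_eq_iSup, Set.range_comp,
        ψ.range_eq_univ, Set.image_univ, hspan]
  refine ⟨D', ⟨⟨hD', fun k w hw hw0 => ?_, fun k l hkl y hy z hz => ?_⟩, fun k l => ?_⟩, ?_⟩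
  · exact nondegenerateOn_span_singleton h2 (by rw [hQv]; exact mul_ne_zero hu (inv_ne_zero h2)) w hw hw0
  · obtain ⟨a, rfl⟩ := Submodule.mem_span_singleton.mp hy
    obtain ⟨a', rfl⟩ := Submodule.mem_span_singleton.mp hz
    rw [polar_smul_left, polar_smul_right, hvv, if_neg (fun h => hkl (ψ.injective h)), smul_zero, smul_zero]
  · refine ⟨(LinearEquiv.toSpanNonzeroSingleton F _ _ (hv0 (ψ k))).symm.trans
      (LinearEquiv.toSpanNonzeroSingleton F _ _ (hv0 (ψ l))), fun w => ?_⟩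
    obtain ⟨a, rfl⟩ := (LinearEquiv.toSpanNonzeroSingleton F _ _ (hv0 (ψ k))).surjective w
    rw [LinearEquiv.trans_apply, LinearEquiv.symm_apply_apply]
    show Q (a • v (ψ l)) = Q (a • v (ψ k))
    rw [QuadraticMap.map_smul, QuadraticMap.map_smul, hQv, hQv]
  rintro g ⟨⟨σ, hσ⟩, hgI⟩
  have hstep : ∀ k : Fin (t * 3), ∃ k', (D' k).map (Matrix.toLin' (g : Matrix ι ι F)) = D' k' := by
    intro k
    set y := (g : Matrix ι ι F) *ᵥ v (ψ k) with hy
    have hyD : y ∈ D (σ (ψ k).1) := by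
      rw [← hσ (ψ k).1]
      exact ⟨_, (φ _ (x (ψ k).2)).2, Matrix.toLin'_apply _ _⟩
    have hyy : polar ⇑Q y y = u := by
      have := polar_app (⟨g, hgI⟩ : ↥(isometryGroup F ⇑Q)) (v (ψ k)) (v (ψ k))
      rw [hvv, if_pos rfl] at this
      exact this
    obtain ⟨f, hf⟩ := (Submodule.mem_span_range_iff_exists_fun F).mp (show y ∈ Submodule.span F (Set.range v) by
      rw [hspan]; trivial)
    have hzero : ∀ j, j.1 ≠ σ (ψ k).1 → f j = 0 := by
      rintro ⟨i, l⟩ hj
      have h := hcoef f (i, l)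
      rw [hf, hD.decomp.orthogonal i _ hj _ (φ i (x l)).2 _ hyD] at h
      exact (mul_eq_zero.mp h.symm).resolve_right hu
    set i := σ (ψ k).1 with hi
    have hsum : f (i, 0) ^ 2 + f (i, 1) ^ 2 + f (i, 2) ^ 2 = 1 := by
      have h : polar ⇑Q y y = (∑ j, f j ^ 2) * u := by
        have hcomm : ∀ j, polar ⇑Q y (v j) = f j * u := fun j => by rw [polar_comm, ← hf, hcoef]
        conv_lhs => arg 3; rw [← hf]
        rw [Orth.polar_sum_right, Finset.sum_mul]
        refine Finset.sum_congr rfl fun j _ => ?_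
        rw [polar_smul_right, hcomm, smul_eq_mul]
        ring
      rw [hyy, Fintype.sum_prod_type, Finset.sum_eq_single i (fun i' _ hi' => Finset.sum_eq_zero fun l _ => by
        rw [hzero (i', l) hi', zero_pow two_ne_zero]) (by simp), Fin.sum_univ_three] at h
      exact mul_right_cancel₀ hu (by rw [← h, one_mul])
    have hsq : ∀ a : F, a = 0 ∨ a ^ 2 = 1 := fun a => by
      by_cases ha : a = 0
      · exact Or.inl ha
      · have h := FiniteField.pow_card_sub_one_eq_one a ha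
        rw [hq] at h
        exact Or.inr h
    obtain ⟨l₀, hl₀⟩ : ∃ l₀, ∀ l, l ≠ l₀ → f (i, l) = 0 := by
      rcases hsq (f (i, 0)) with h0 | h0 <;> rcases hsq (f (i, 1)) with h1 | h1 <;>
        rcases hsq (f (i, 2)) with h2' | h2'
      all_goals first
        | (refine ⟨0, fun l hl => ?_⟩; fin_cases l <;> first | exact absurd rfl hl | assumption)
        | (refine ⟨1, fun l hl => ?_⟩; fin_cases l <;> first | exact absurd rfl hl | assumption)
        | (refine ⟨2, fun l hl => ?_⟩; fin_cases l <;> first | exact absurd rfl hl | assumption)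
        | (exfalso; simp only [h0, h1, h2', zero_pow two_ne_zero, zero_add, add_zero] at hsum
           first
            | exact one_ne_zero (α := F) (by linear_combination hsum)
            | exact one_ne_zero (α := F) (by linear_combination h3 - hsum))
    have hyv : y = f (i, l₀) • v (i, l₀) := by
      rw [← hf, Finset.sum_eq_single (i, l₀)]
      · rintro ⟨i', l⟩ _ hne
        by_cases hii : i' = i
        · subst hii
          rw [hl₀ l (fun h => hne (by rw [h])), zero_smul]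
        · rw [hzero (i', l) hii, zero_smul]
      · simp
    refine ⟨ψ.symm (i, l₀), ?_⟩
    show (F ∙ v (ψ k)).map _ = F ∙ v (ψ (ψ.symm (i, l₀)))
    rw [Equiv.apply_symm_apply, Submodule.map_span, Set.image_singleton, Matrix.toLin'_apply, ← hy, hyv]
    refine Submodule.span_singleton_smul_eq (IsUnit.mk0 _ fun h0 => hv0 (ψ k) ?_) _
    have hgy : y = 0 := by rw [hyv, h0, zero_smul]
    have h := congrArg (fun z => ((g⁻¹ : GL ι F) : Matrix ι ι F) *ᵥ z) hgy
    simpa [hy, Matrix.mulVec_mulVec] using h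
  choose π hπ using hstep
  have hinj : Function.Injective π := by
    intro k k' h
    have hmap : (D' k).map (Matrix.toLin' (g : Matrix ι ι F)) = (D' k').map (Matrix.toLin' (g : Matrix ι ι F)) := by
      rw [hπ, hπ, h]
    have hkk := Submodule.map_injective_of_injective (fun a c hac => by
      simp only [Matrix.toLin'_apply] at hac
      have h' := congrArg (fun z => ((g⁻¹ : GL ι F) : Matrix ι ι F) *ᵥ z) hac
      simpa [Matrix.mulVec_mulVec] using h') hmap
    by_contra hne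
    have hd := hD'.indep.pairwiseDisjoint hne
    simp only [Function.onFun, hkk, disjoint_self] at hd
    have := hD'.finrank_eq k'
    rw [hd, finrank_bot] at this
    omega
  exact ⟨Equiv.ofBijective π (Finite.injective_iff_bijective.mp hinj), hπ⟩

/-- Maximal subgroups of the Omega group in dimension `2m+1 ≥ 7`, when no tensor product and only
tensor squares can occur. -/
theorem orthogonal_max [Fintype F] {m : ℕ} (hm : 3 ≤ m) (hodd : Odd (Fintype.card F))
    (hnotensor : ∀ a b, 3 ≤ a → a < b → a * b ≠ 2 * m + 1)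
    (hsquare : ∀ k t, 3 ≤ k → 2 ≤ t → k ^ t = 2 * m + 1 → t = 2)
    {H : Subgroup (GL (Unit ⊕ (Fin m ⊕ Fin m)) F)}
    (hH : IsMaximalIn (omegaGL (quadFormOdd m F)) H) :
    (∃ W : Submodule F (Unit ⊕ (Fin m ⊕ Fin m) → F), W ≠ ⊥ ∧ IsTotallySingularQuad (quadFormOdd m F) W ∧
      H = subspaceStabilizer W ⊓ omegaGL (quadFormOdd m F)) ∨
    (∃ W : Submodule F (Unit ⊕ (Fin m ⊕ Fin m) → F), W ≠ ⊥ ∧ Even (Module.finrank F W) ∧
      IsNondegenerateOn (QuadraticMap.polar (quadFormOdd m F)) W ∧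
      ¬ (Fintype.card F = 3 ∧ Module.finrank F W = 2 ∧ IsPlusTypeOn (quadFormOdd m F) W) ∧
      H = subspaceStabilizer W ⊓ omegaGL (quadFormOdd m F)) ∨
    (∃ (t k : ℕ) (D : Fin t → Submodule F (Unit ⊕ (Fin m ⊕ Fin m) → F)), 2 ≤ t ∧ 1 < k ∧ t * k = 2 * m + 1 ∧
      (k = 3 → 5 ≤ Fintype.card F) ∧ IsOrthogonalMDecomposition (quadFormOdd m F) k D ∧
      H = decompositionStabilizer D ⊓ omegaGL (quadFormOdd m F)) ∨
    ((Fintype.card F).Prime ∧ ∃ D : Fin (2 * m + 1) → Submodule F (Unit ⊕ (Fin m ⊕ Fin m) → F),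
      IsOrthogonalMDecomposition (quadFormOdd m F) 1 D ∧
      H = decompositionStabilizer D ⊓ omegaGL (quadFormOdd m F)) ∨
    (∃ (r : ℕ) (K : Subalgebra F (Matrix (Unit ⊕ (Fin m ⊕ Fin m)) (Unit ⊕ (Fin m ⊕ Fin m)) F)), r.Prime ∧
      r ∣ 2 * m + 1 ∧ 2 * m + 1 ≠ r ∧ IsFieldSubalgebra r K ∧
      IsSelfAdjointFor (QuadraticMap.polar (quadFormOdd m F)) K ∧
      H = subalgebraNormalizer K ⊓ omegaGL (quadFormOdd m F)) ∨
    (∃ (F₀ : Subfield F) (r : ℕ) (P : GL (Unit ⊕ (Fin m ⊕ Fin m)) F), r.Prime ∧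
      Fintype.card F = Nat.card F₀ ^ r ∧ IsQuadFormRationalStructure (quadFormOdd m F) F₀ P ∧
      H = subfieldSubgroup F₀ P ⊓ omegaGL (quadFormOdd m F)) ∨
    (∃ (k : ℕ) (e : (Unit ⊕ (Fin m ⊕ Fin m)) ≃ (Fin 2 → Fin k)) (P : GL (Unit ⊕ (Fin m ⊕ Fin m)) F)
      (f₁ : (Fin k → F) → (Fin k → F) → F), 3 ≤ k ∧ k ^ 2 = 2 * m + 1 ∧ (k = 3 → 5 ≤ Fintype.card F) ∧
      IsSymmetricForm f₁ ∧ IsTensorPowerFormStructure id (QuadraticMap.polar (quadFormOdd m F)) f₁ e P ∧
      H = tensorWreathSubgroup k 2 e P ⊓ omegaGL (quadFormOdd m F)) ∨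
    InOrthogonalResidualClass H := by
  classical
  have h2 := two_ne_zero_of_odd hodd
  have hQ := oddForm_nondegenerate h2 m
  have hcard : Fintype.card (Unit ⊕ (Fin m ⊕ Fin m)) = 2 * m + 1 := by
    simp only [Fintype.card_sum, Fintype.card_unit, Fintype.card_fin]; omega
  have hn : 5 ≤ Fintype.card (Unit ⊕ (Fin m ⊕ Fin m)) := by omega
  have hqne : Fintype.card F ≠ 3 → 5 ≤ Fintype.card F := fun h => by
    have h1 : 1 < Fintype.card F := Fintype.one_lt_card
    obtain ⟨j, hj⟩ := hodd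
    omega
  rw [← coe_oddForm] at hH ⊢
  have hI : omegaGL ⇑(oddForm m F) ≤ isometryGroup F ⇑(oddForm m F) := Subgroup.map_subtype_le _
  have hHI : H ≤ isometryGroup F ⇑(oddForm m F) := hH.1.le.trans hI
  have heq : ∀ X : Subgroup (GL (Unit ⊕ (Fin m ⊕ Fin m)) F), H ≤ X →
      ¬ omegaGL ⇑(oddForm m F) ≤ X → H = X ⊓ omegaGL ⇑(oddForm m F) := fun X h1 h2 =>
    eq_inf_of_maximal_le hH h1 h2
  rcases orthogonalOdd_class_or_residual hodd (by omega) H (coe_oddForm (F := F) m ▸ hHI) with ⟨M, hM, hle⟩ | hres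
  swap
  · exact Or.inr (Or.inr (Or.inr (Or.inr (Or.inr (Or.inr (Or.inr hres))))))
  simp only [InOrthogonalOddClass, ← coe_oddForm] at hM
  rcases hM with ⟨W, h0, hts, rfl⟩ | ⟨W, h0, h1, hnd, rfl⟩ | ⟨t, k, D, hk, hD, rfl⟩ | ⟨t, D, hq, hD, rfl⟩ |
    ⟨r, K, hr, hnr, hK, hsa, rfl⟩ | ⟨n₁, n₂, e, P, f₁, f₂, ha, hab, hf₁, hf₂, hstr, rfl⟩ |
    ⟨F₀, r, P, hr, hq, hstr, rfl⟩ | ⟨k, t, e, P, f₁, hk, ht, hex, hf₁, hstr, rfl⟩
  · have h1 : W ≠ ⊤ := by
      rintro rfl
      have := hts (Pi.single (Sum.inl ()) 1) trivial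
      rw [coe_oddForm] at this
      simp [quadFormOdd] at this
    exact Or.inl ⟨W, h0, hts, heq _ (hle.trans inf_le_left) (OmegaNotTop.not_le_subspaceStabilizer h2 hQ hn h0 h1)⟩
  · obtain ⟨W', h0', h1', hev, hnd', hex, hW'⟩ :=
      exists_even_nondegenerate h2 hQ ⟨m, hcard⟩ hn h0 h1 hnd
    exact Or.inr (Or.inl ⟨W', h0', hev, hnd', hex,
      heq _ (hle.trans hW') (OmegaNotTop.not_le_subspaceStabilizer h2 hQ hn h0' h1')⟩)
  · have htk : t * k = 2 * m + 1 := by rw [isMDecomposition_card hD.decomp.decomp, hcard]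
    by_cases h33 : k = 3 ∧ Fintype.card F = 3
    · obtain ⟨rfl, hq⟩ := h33
      obtain ⟨D', hD', hD'le⟩ := exists_frame_of_three hq hD
      revert D'
      rw [htk]
      intro D' hD' hD'le
      exact Or.inr (Or.inr (Or.inr (Or.inl ⟨by rw [hq]; exact Nat.prime_three, D', hD',
        heq _ (hle.trans hD'le) (OmegaNotTop.not_le_decompositionStabilizer h2 hQ hn hD'.decomp.decomp)⟩)))
    exact Or.inr (Or.inr (Or.inl ⟨t, k, D, hD.decomp.decomp.two_le, hk, htk, fun h => hqne fun h' => h33 ⟨h, h'⟩, hD,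
      heq _ (hle.trans inf_le_left) (OmegaNotTop.not_le_decompositionStabilizer h2 hQ hn hD.decomp.decomp)⟩))
  · have htk := isMDecomposition_card hD.decomp.decomp
    rw [mul_one, hcard] at htk
    subst htk
    exact Or.inr (Or.inr (Or.inr (Or.inl ⟨hq, D, hD,
      heq _ (hle.trans inf_le_left) (OmegaNotTop.not_le_decompositionStabilizer h2 hQ hn hD.decomp.decomp)⟩)))
  · have hdvd := finrank_dvd_of_isFieldSubalgebra hK
    rw [hcard] at hdvd
    exact Or.inr (Or.inr (Or.inr (Or.inr (Or.inl ⟨r, K, hr, hdvd, hnr, hK, hsa,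
      heq _ (hle.trans inf_le_left) (OmegaNotTop.not_le_subalgebraNormalizer h2 hQ hn hr.two_le hK)⟩))))
  · have h := Fintype.card_congr e
    rw [hcard, Fintype.card_prod, Fintype.card_fin, Fintype.card_fin] at h
    exact absurd h.symm (hnotensor n₁ n₂ ha hab)
  · refine Or.inr (Or.inr (Or.inr (Or.inr (Or.inr (Or.inl ⟨F₀, r, P, hr, hq, hstr,
      heq _ (hle.trans inf_le_left) (OmegaNotTop.not_le_subfieldSubgroup h2 hQ hn ?_ P)⟩)))))
    rintro rfl
    have htop : Nat.card (⊤ : Subfield F) = Fintype.card F := by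
      rw [← Nat.card_eq_fintype_card]
      exact Nat.card_congr Subfield.topEquiv.toEquiv
    rw [htop] at hq
    have hlt := Nat.pow_lt_pow_right (Fintype.one_lt_card (α := F)) hr.one_lt
    rw [pow_one] at hlt
    exact hlt.ne hq
  · have hkt : k ^ t = 2 * m + 1 := by
      have h := Fintype.card_congr e
      rw [hcard, Fintype.card_fun, Fintype.card_fin, Fintype.card_fin] at h
      exact h.symm
    obtain rfl := hsquare k t hk ht hkt
    exact Or.inr (Or.inr (Or.inr (Or.inr (Or.inr (Or.inr (Or.inl ⟨k, e, P, f₁, hk, hkt,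
      fun h => hqne fun h' => hex ⟨h', h⟩, hf₁, hstr,
      heq _ (hle.trans inf_le_left) (OmegaNotTop.not_le_tensorWreathSubgroup_two h2 hQ hn hk e P)⟩))))))

end Cfsg.Agent.Lib.MaxClass
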