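import Mathlib
import Cfsg.Prelude.Def_GeometricClasses
import Cfsg.Agent.Lib.Aschbacher.Tensor
import Cfsg.Agent.Lib.Aschbacher.TensorForm

/-!
The 2-groups of symplectic type generated by tensor products of the quaternion or dihedral groups of
order eight, in characteristic three.
-/

set_option autoImplicit false
set_option linter.style.haveILetI false
set_option linter.unusedSectionVars false

namespace Cfsg.Agent.Lib.MaxClass.PauliTensor

open Cfsg Cfsg.Geo Matrix
open Cfsg.Agent.Lib.Aschbacher

/-- Addition in `(ℤ/2)²`, written on `Fin 4`. -/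
def xr : Fin 4 → Fin 4 → Fin 4 := ![![0, 1, 2, 3], ![1, 0, 3, 2], ![2, 3, 0, 1], ![3, 2, 1, 0]]

/-- The eight-element group matrices up to sign: quaternion (`true`) or dihedral (`false`). -/
def pm : Bool → Fin 4 → Matrix (Fin 2) (Fin 2) (ZMod 3)
  | true => ![1, !![0, -1; 1, 0], !![1, 1; 1, -1], !![-1, 1; 1, 1]]
  | false => ![1, !![1, 0; 0, -1], !![0, 1; 1, 0], !![0, 1; -1, 0]]

/-- The form preserved up to sign by `pm b`. -/
def pg : Bool → Matrix (Fin 2) (Fin 2) (ZMod 3)
  | true => !![0, 1; -1, 0]
  | false => 1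

/-- The sign of a product. -/
def psgn (b : Bool) (x y : Fin 4) : ZMod 3 := if pm b x * pm b y = pm b (xr x y) then 1 else -1

/-- The sign of a commutator. -/
def pcom (x y : Fin 4) : ZMod 3 := if x = 0 ∨ y = 0 ∨ x = y then 1 else -1

/-- A change of basis permuting the non-trivial elements of `pm b`. -/
def pauto : Bool → Matrix (Fin 2) (Fin 2) (ZMod 3)
  | true => !![1, 1; 0, 1]
  | false => !![1, 1; 1, -1]

/-- The inverse of `pauto b`. -/
def pautoInv : Bool → Matrix (Fin 2) (Fin 2) (ZMod 3)
  | true => !![1, -1; 0, 1]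
  | false => !![-1, -1; -1, 1]

lemma pm_zero : ∀ b, pm b 0 = 1 := by decide +kernel
lemma pm_mul : ∀ b x y, pm b x * pm b y = psgn b x y • pm b (xr x y) := by decide +kernel
lemma psgn_cases : ∀ b x y, psgn b x y = 1 ∨ psgn b x y = -1 := by decide +kernel
lemma pcom_cases : ∀ x y, pcom x y = 1 ∨ pcom x y = -1 := by decide +kernel
lemma pm_comm : ∀ b x y, pm b x * pm b y = pcom x y • (pm b y * pm b x) := by decide +kernel
lemma xr_self : ∀ x, xr x x = 0 := by decide +kernel
lemma xr_eq_zero : ∀ x y, xr x y = 0 ↔ x = y := by decide +kernel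
lemma pm_form : ∀ b x, (pm b x)ᵀ * pg b * pm b x = pg b ∨ (pm b x)ᵀ * pg b * pm b x = -pg b := by decide +kernel
lemma pauto_inv : ∀ b, pauto b * pautoInv b = 1 ∧ pautoInv b * pauto b = 1 := by decide +kernel
lemma pauto_conj : ∀ b x, ∃ y, pauto b * pm b x = pm b y * pauto b ∨ pauto b * pm b x = -(pm b y * pauto b) := by
  decide +kernel
lemma pauto_moves : ∀ b x, ¬ (x = 0 ∨ (b = false ∧ x = 3)) → ∀ y,
    (pauto b * pm b x = pm b y * pauto b ∨ pauto b * pm b x = -(pm b y * pauto b)) → pcom x y = -1 := by
  decide +kernel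
lemma exists_pcom_neg : ∀ x : Fin 4, x ≠ 0 → ∃ y, pcom x y = -1 := by decide +kernel
lemma pm_three_sq : ∀ b, psgn b 3 3 = -1 := by decide +kernel
lemma pm_span : ∀ (b : Bool) (p q : Fin 2), ∃ c : Fin 4 → ZMod 3, ∀ i j : Fin 2,
    (∑ a, c a * pm b a i j) = if i = p ∧ j = q then 1 else 0 := by
  decide +kernel

/-- Invertible matrices normalise the quaternion group up to sign. -/
lemma pm_true_normal_entries : ∀ a₀ a₁ a₂ a₃ : ZMod 3, a₀ * a₃ - a₁ * a₂ = 0 ∨ ∀ x, ∃ y,
    !![a₀, a₁; a₂, a₃] * pm true x = pm true y * !![a₀, a₁; a₂, a₃] ∨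
      !![a₀, a₁; a₂, a₃] * pm true x = -(pm true y * !![a₀, a₁; a₂, a₃]) := by
  decide +kernel

variable {F : Type*} [Field F]

/-- Three-element fields have characteristic three. -/
theorem charP_three [Fintype F] (hq : Fintype.card F = 3) : CharP F 3 := by
  have h := FiniteField.cast_card_eq_zero F
  rw [hq] at h
  exact CharP.charP_iff_prime_eq_zero Nat.prime_three |>.mpr (by exact_mod_cast h)

section

variable [CharP F 3]

/-- The embedding of the prime field. -/
noncomputable def toF : ZMod 3 →+* F := ZMod.castHom dvd_rfl F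

lemma toF_injective : Function.Injective (toF (F := F)) := RingHom.injective _

lemma two_ne_zero' : (2 : F) ≠ 0 := by
  intro h
  have h' : ((2 : ℕ) : F) = 0 := by exact_mod_cast h
  rw [CharP.cast_eq_zero_iff F 3] at h'
  omega

variable {t : ℕ}

/-- The tensor product of the factors indexed by `x`. -/
noncomputable def pT (ty : Fin t → Bool) (x : Fin t → Fin 4) : Matrix (Fin t → Fin 2) (Fin t → Fin 2) F :=
  pureTensor fun i => (pm (ty i) (x i)).map toF

/-- The sign of a product of tensors. -/
noncomputable def tsgn (ty : Fin t → Bool) (x y : Fin t → Fin 4) : F := ∏ i, toF (psgn (ty i) (x i) (y i))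

/-- The sign of a commutator of tensors. -/
noncomputable def tcom (x y : Fin t → Fin 4) : F := ∏ i, toF (pcom (x i) (y i))

lemma map_smul_toF (c : ZMod 3) (A : Matrix (Fin 2) (Fin 2) (ZMod 3)) :
    (c • A).map (toF (F := F)) = toF (F := F) c • A.map (toF (F := F)) := by
  ext i j
  simp [Matrix.map_apply]

lemma pureTensor_smul_pi (c : Fin t → F) (A : Fin t → Matrix (Fin 2) (Fin 2) F) :
    pureTensor (fun i => c i • A i) = (∏ i, c i) • pureTensor A := by
  ext x y
  simp [pureTensor, Finset.prod_mul_distrib]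

lemma pT_zero (ty : Fin t → Bool) : pT (F := F) ty 0 = 1 := by
  rw [pT, ← pureTensor_one]
  congr 1
  funext i
  simp [pm_zero]

lemma pT_mul (ty : Fin t → Bool) (x y : Fin t → Fin 4) :
    pT (F := F) ty x * pT ty y = tsgn (F := F) ty x y • pT ty (fun i => xr (x i) (y i)) := by
  rw [pT, pT, pT, tsgn, pureTensor_mul, ← pureTensor_smul_pi]
  congr 1
  funext i
  rw [Pi.mul_apply, ← Matrix.map_mul, pm_mul, map_smul_toF]

lemma pT_comm (ty : Fin t → Bool) (x y : Fin t → Fin 4) :
    pT (F := F) ty x * pT ty y = tcom (F := F) x y • (pT ty y * pT ty x) := by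
  rw [pT, pT, tcom, pureTensor_mul, pureTensor_mul, ← pureTensor_smul_pi]
  congr 1
  funext i
  rw [Pi.mul_apply, Pi.mul_apply, ← Matrix.map_mul, ← Matrix.map_mul, pm_comm, map_smul_toF]

lemma prod_sign {κ : Type*} (s : Finset κ) (f : κ → ZMod 3) (h : ∀ i, f i = 1 ∨ f i = -1) :
    (∏ i ∈ s, toF (F := F) (f i)) = 1 ∨ (∏ i ∈ s, toF (F := F) (f i)) = -1 := by
  classical
  induction s using Finset.induction with
  | empty => simp
  | insert a s ha ih =>
    rw [Finset.prod_insert ha]
    rcases h a with h' | h' <;> rcases ih with h'' | h'' <;> simp [h', h'']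

lemma tsgn_cases (ty : Fin t → Bool) (x y : Fin t → Fin 4) : tsgn (F := F) ty x y = 1 ∨ tsgn (F := F) ty x y = -1 :=
  prod_sign _ _ fun _ => psgn_cases _ _ _

variable {ι : Type} [Fintype ι] [DecidableEq ι]

/-- The framed tensor. -/
noncomputable def pB (ty : Fin t → Bool) (e : ι ≃ (Fin t → Fin 2)) (P : GL ι F) (x : Fin t → Fin 4) :
    Matrix ι ι F := framed e P (pT ty x)

variable (ty : Fin t → Bool) (e : ι ≃ (Fin t → Fin 2)) (P : GL ι F)

lemma pB_zero : pB ty e P 0 = 1 := by rw [pB, pT_zero, map_one]

lemma pB_mul (x y : Fin t → Fin 4) :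
    pB ty e P x * pB ty e P y = tsgn (F := F) ty x y • pB ty e P (fun i => xr (x i) (y i)) := by
  rw [pB, pB, pB, ← map_mul, pT_mul, map_smul]

lemma pB_comm (x y : Fin t → Fin 4) :
    pB ty e P x * pB ty e P y = tcom (F := F) x y • (pB ty e P y * pB ty e P x) := by
  rw [pB, pB, ← map_mul, ← map_mul, pT_comm, map_smul]

lemma pB_sq (x : Fin t → Fin 4) : pB ty e P x * pB ty e P x = tsgn (F := F) ty x x • 1 := by
  rw [pB_mul, show (fun i => xr (x i) (x i)) = (0 : Fin t → Fin 4) from funext fun i => xr_self _, pB_zero]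

/-- The Pauli group. -/
noncomputable def pauliGroup : Subgroup (GL ι F) where
  carrier := {g | ∃ (s : F) (x : Fin t → Fin 4), (s = 1 ∨ s = -1) ∧ (g : Matrix ι ι F) = s • pB ty e P x}
  one_mem' := ⟨1, 0, Or.inl rfl, by rw [pB_zero, one_smul, Units.val_one]⟩
  mul_mem' := by
    rintro g h ⟨s, x, hs, hg⟩ ⟨s', y, hs', hh⟩
    refine ⟨s * s' * tsgn ty x y, fun i => xr (x i) (y i), ?_, ?_⟩
    · rcases hs with rfl | rfl <;> rcases hs' with rfl | rfl <;> rcases tsgn_cases (F := F) ty x y with h' | h' <;>
        simp [h']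
    · rw [Units.val_mul, hg, hh, Matrix.smul_mul, Matrix.mul_smul, smul_smul, pB_mul, smul_smul]
  inv_mem' := by
    rintro g ⟨s, x, hs, hg⟩
    refine ⟨s * tsgn ty x x, x, ?_, ?_⟩
    · rcases hs with rfl | rfl <;> rcases tsgn_cases (F := F) ty x x with h' | h' <;> simp [h']
    · refine Units.inv_eq_of_mul_eq_one_right ?_
      rw [hg, Matrix.smul_mul, Matrix.mul_smul, smul_smul, pB_sq, smul_smul]
      rcases hs with rfl | rfl <;> rcases tsgn_cases (F := F) ty x x with h' | h' <;> simp [h']

/-- The element with a given sign and index. -/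
noncomputable def pU (s : Bool) (x : Fin t → Fin 4) : GL ι F :=
  ⟨(if s then (1 : F) else -1) • pB ty e P x, ((if s then (1 : F) else -1) * tsgn ty x x) • pB ty e P x,
    by rw [Matrix.smul_mul, Matrix.mul_smul, smul_smul, pB_sq, smul_smul]
       rcases tsgn_cases (F := F) ty x x with h' | h' <;> cases s <;> simp [h'],
    by rw [Matrix.smul_mul, Matrix.mul_smul, smul_smul, pB_sq, smul_smul]
       rcases tsgn_cases (F := F) ty x x with h' | h' <;> cases s <;> simp [h']⟩

lemma pU_mem (s : Bool) (x : Fin t → Fin 4) : pU ty e P s x ∈ pauliGroup ty e P :=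
  ⟨_, x, by cases s <;> simp, rfl⟩

lemma eq_zero_of_scalar {z : Fin t → Fin 4} {c : F} (h : pB ty e P z = c • 1) : z = 0 := by
  by_contra hne
  obtain ⟨i, hi⟩ := Function.ne_iff.mp hne
  obtain ⟨y, hy⟩ := exists_pcom_neg (z i) hi
  set w := Function.update (0 : Fin t → Fin 4) i y with hw
  have hcom : tcom (F := F) z w = -1 := by
    rw [tcom, Finset.prod_eq_single i]
    · rw [hw, Function.update_self, hy, map_neg, map_one]
    · intro j _ hj
      rw [hw, Function.update_of_ne hj]
      simp [pcom]
    · simp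
  have h1 := pB_comm ty e P z w
  rw [hcom, h, Matrix.smul_mul, one_mul, Matrix.mul_smul, mul_one, neg_one_smul] at h1
  have h2 : (2 * c) • pB ty e P w = 0 := by
    rw [mul_smul, two_smul]
    exact eq_neg_iff_add_eq_zero.mp h1
  have hwu : pB ty e P w ≠ 0 := fun h0 => by
    have h3 := pB_sq ty e P w
    rw [h0, zero_mul] at h3
    haveI : Nonempty ι := ⟨e.symm 0⟩
    rcases tsgn_cases (F := F) ty w w with h' | h' <;> simp [h'] at h3
  have hc0 : c = 0 :=
    (mul_eq_zero.mp ((smul_eq_zero.mp h2).resolve_right hwu)).resolve_left two_ne_zero'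
  rw [hc0, zero_smul] at h
  have h3 := pB_sq ty e P z
  rw [h, zero_mul] at h3
  haveI : Nonempty ι := ⟨e.symm 0⟩
  rcases tsgn_cases (F := F) ty z z with h' | h' <;> simp [h'] at h3

lemma index_unique {x y : Fin t → Fin 4} {s s' : F} (hs : s = 1 ∨ s = -1) (hs' : s' = 1 ∨ s' = -1)
    (h : s • pB ty e P x = s' • pB ty e P y) : x = y ∧ s = s' := by
  have hxy : x = y := by
    have h1 := congrArg (fun A => pB ty e P x * A) h
    simp only [Matrix.mul_smul, pB_sq, pB_mul, smul_smul] at h1
    have h0 : s' * tsgn ty x y ≠ 0 := by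
      refine mul_ne_zero (by rcases hs' with rfl | rfl <;> simp) ?_
      rcases tsgn_cases (F := F) ty x y with h' | h' <;> simp [h']
    have h2 := congrArg (fun A : Matrix ι ι F => (s' * tsgn ty x y)⁻¹ • A) h1
    simp only [smul_smul, inv_mul_cancel₀ h0, one_smul] at h2
    have := eq_zero_of_scalar ty e P h2.symm
    funext i
    exact (xr_eq_zero _ _).mp (congrFun this i)
  subst hxy
  refine ⟨rfl, ?_⟩
  by_contra hne
  have h1 : (s - s') • pB ty e P x = 0 := by rw [sub_smul, h, sub_self]
  have h2 := (smul_eq_zero.mp h1).resolve_left (sub_ne_zero.mpr hne)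
  have h3 := pB_sq ty e P x
  rw [h2, zero_mul] at h3
  haveI : Nonempty ι := ⟨e.symm 0⟩
  rcases tsgn_cases (F := F) ty x x with h' | h' <;> simp [h'] at h3

theorem card_pauliGroup : Nat.card (pauliGroup ty e P) = 2 ^ (1 + 2 * t) := by
  let φ : Bool × (Fin t → Fin 4) → pauliGroup ty e P := fun p => ⟨pU ty e P p.1 p.2, pU_mem ty e P p.1 p.2⟩
  have hinj : Function.Injective φ := by
    rintro ⟨s, x⟩ ⟨s', y⟩ h
    have h' : (if s then (1 : F) else -1) • pB ty e P x = (if s' then (1 : F) else -1) • pB ty e P y :=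
      congrArg (fun g : pauliGroup ty e P => ((g : GL ι F) : Matrix ι ι F)) h
    obtain ⟨rfl, hs⟩ := index_unique ty e P (by cases s <;> simp) (by cases s' <;> simp) h'
    cases s <;> cases s' <;> simp at hs ⊢
    · exact two_ne_zero' (F := F) (by linear_combination -hs)
    · exact two_ne_zero' (F := F) (by linear_combination hs)
  have hsurj : Function.Surjective φ := by
    classical
    rintro ⟨g, s, x, hs, hg⟩
    refine ⟨(decide (s = 1), x), Subtype.ext (Units.ext ?_)⟩
    show (if decide (s = 1) then (1 : F) else -1) • pB ty e P x = _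
    rw [hg]
    congr 1
    rcases hs with rfl | rfl
    · simp
    · have : (-1 : F) ≠ 1 := fun h => two_ne_zero' (F := F) (by linear_combination -h)
      simp [this]
  rw [← Nat.card_congr (Equiv.ofBijective φ ⟨hinj, hsurj⟩), Nat.card_prod, Nat.card_fun]
  simp only [Nat.card_eq_fintype_card, Fintype.card_bool, Fintype.card_fin]
  rw [pow_add, pow_one, pow_mul]
  norm_num

theorem card_center : Nat.card (Subgroup.center (pauliGroup ty e P)) = 2 := by
  have hmem : ∀ g : pauliGroup ty e P, g ∈ Subgroup.center (pauliGroup ty e P) ↔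
      ((g : GL ι F) : Matrix ι ι F) = 1 ∨ ((g : GL ι F) : Matrix ι ι F) = -1 := by
    intro g
    obtain ⟨s, x, hs, hg⟩ := g.2
    constructor
    · intro h
      rw [Subgroup.mem_center_iff] at h
      have hx : x = 0 := by
        by_contra hne
        obtain ⟨i, hi⟩ := Function.ne_iff.mp hne
        obtain ⟨y, hy⟩ := exists_pcom_neg (x i) hi
        set w := Function.update (0 : Fin t → Fin 4) i y with hw
        have hcom : tcom (F := F) x w = -1 := by
          rw [tcom, Finset.prod_eq_single i]
          · rw [hw, Function.update_self, hy, map_neg, map_one]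
          · intro j _ hj
            rw [hw, Function.update_of_ne hj]
            simp [pcom]
          · simp
        have h1 : pB ty e P w * (s • pB ty e P x) = (s • pB ty e P x) * pB ty e P w := by
          have h' := congrArg (fun k : pauliGroup ty e P => ((k : GL ι F) : Matrix ι ι F))
            (h ⟨pU ty e P true w, pU_mem ty e P true w⟩)
          simp only [Subgroup.coe_mul, Units.val_mul, hg] at h'
          have e1 : ((pU ty e P true w : GL ι F) : Matrix ι ι F) = pB ty e P w := one_smul _ _
          rwa [e1] at h'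
        rw [Matrix.mul_smul, Matrix.smul_mul] at h1
        have h3 := smul_right_injective (Matrix ι ι F) (show s ≠ 0 by rcases hs with rfl | rfl <;> simp) h1
        rw [pB_comm ty e P x w, hcom, neg_one_smul] at h3
        have h4 : (2 : F) • (pB ty e P w * pB ty e P x) = 0 := by
          rw [two_smul]
          exact eq_neg_iff_add_eq_zero.mp h3
        have h5 := (smul_eq_zero.mp h4).resolve_left two_ne_zero'
        haveI : Nonempty ι := ⟨e.symm 0⟩
        have h6 := congrArg (fun A => pB ty e P w * A * pB ty e P x) h5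
        simp only [mul_zero, zero_mul, ← mul_assoc, pB_sq, Matrix.smul_mul, one_mul] at h6
        rw [smul_smul] at h6
        rcases tsgn_cases (F := F) ty w w with h' | h' <;> rcases tsgn_cases (F := F) ty x x with h'' | h'' <;>
          simp [h', h''] at h6
      subst hx
      rw [hg, pB_zero]
      rcases hs with rfl | rfl <;> simp
    · intro h
      rw [Subgroup.mem_center_iff]
      intro k
      apply Subtype.ext
      apply Units.ext
      simp only [Subgroup.coe_mul, Units.val_mul]
      rcases h with h | h <;> simp [h]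
  have h2 : (1 : Matrix ι ι F) ≠ -1 := by
    haveI : Nonempty ι := ⟨e.symm 0⟩
    intro h
    have := congrFun (congrFun h (Classical.arbitrary ι)) (Classical.arbitrary ι)
    simp only [Matrix.one_apply_eq, Matrix.neg_apply] at this
    exact two_ne_zero' (F := F) (by linear_combination this)
  let a : pauliGroup ty e P := ⟨pU ty e P false 0, pU_mem ty e P false 0⟩
  have ha : ((a : GL ι F) : Matrix ι ι F) = -1 := by
    show (-1 : F) • pB ty e P 0 = -1
    rw [pB_zero, neg_one_smul]
  let φ : Bool → Subgroup.center (pauliGroup ty e P) := fun b =>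
    if b then ⟨1, one_mem _⟩ else ⟨a, (hmem a).mpr (Or.inr ha)⟩
  rw [show 2 = Nat.card Bool by simp]
  refine (Nat.card_congr (Equiv.ofBijective φ ⟨?_, ?_⟩)).symm
  · intro b b' h
    cases b <;> cases b' <;> simp [φ] at h ⊢ <;>
      · have := congrArg (fun g : pauliGroup ty e P => ((g : GL ι F) : Matrix ι ι F)) h
        simp [ha] at this
        first | exact h2 this | exact h2 this.symm
  · rintro ⟨g, hg⟩
    rcases (hmem g).mp hg with h | h
    · exact ⟨true, Subtype.ext (Subtype.ext (Units.ext h.symm))⟩
    · exact ⟨false, Subtype.ext (Subtype.ext (Units.ext (ha.trans h.symm)))⟩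

theorem absIrred : ActsAbsolutelyIrreducibly (matrixSet (pauliGroup ty e P)) := by
  classical
  set R := pauliGroup ty e P
  have htop : spanAlg R = ⊤ := by
    rw [eq_top_iff]
    intro A _
    obtain ⟨B, rfl⟩ := (framed e P).surjective A
    have hmem : ∀ x, pB ty e P x ∈ spanAlg R := fun x => by
      have h := coe_mem_spanAlg (pU_mem ty e P true x)
      have e1 : ((pU ty e P true x : GL ι F) : Matrix ι ι F) = pB ty e P x := one_smul _ _
      rwa [e1] at h
    rw [Matrix.matrix_eq_sum_single B, map_sum]
    refine Subalgebra.sum_mem _ fun u _ => ?_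
    rw [map_sum]
    refine Subalgebra.sum_mem _ fun v _ => ?_
    rw [show Matrix.single u v (B u v) = B u v • Matrix.single u v (1 : F) by simp, map_smul]
    refine Subalgebra.smul_mem _ ?_ _
    choose c hc using fun i => pm_span (ty i) (u i) (v i)
    have hexp : Matrix.single u v (1 : F) = ∑ x : Fin t → Fin 4, (∏ i, toF (F := F) (c i (x i))) • pT (F := F) ty x := by
      ext a b
      simp only [Matrix.sum_apply, Matrix.smul_apply, pT, pureTensor, Matrix.of_apply, Matrix.map_apply, smul_eq_mul,
        ← Finset.prod_mul_distrib, ← map_mul]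
      rw [← Fintype.prod_sum (f := fun i k => toF (F := F) (c i k * pm (ty i) k (a i) (b i)))]
      simp only [← map_sum, hc]
      rw [Matrix.single_apply]
      by_cases hab : u = a ∧ v = b
      · obtain ⟨rfl, rfl⟩ := hab
        simp
      · rw [if_neg hab]
        have : ∃ i, ¬ (a i = u i ∧ b i = v i) := by
          by_contra hh
          push Not at hh
          exact hab ⟨funext fun i => (hh i).1.symm, funext fun i => (hh i).2.symm⟩
        obtain ⟨i, hi⟩ := this
        exact (Finset.prod_eq_zero (Finset.mem_univ i) (by rw [if_neg hi, map_zero])).symm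
    rw [hexp, map_sum]
    refine Subalgebra.sum_mem _ fun x _ => ?_
    rw [map_smul]
    exact Subalgebra.smul_mem _ (hmem x) _
  haveI : Nonempty ι := ⟨e.symm 0⟩
  have hcomm : ∀ M : Matrix ι ι F, (∀ s ∈ matrixSet R, M * s = s * M) → ∀ A, M * A = A * M := by
    intro M hM A
    have hA : A ∈ spanAlg R := by rw [htop]; trivial
    exact commute_spanAlg (fun y hy => hM _ (coe_mem_matrixSet hy)) hA
  refine ⟨fun W hW => ?_, fun M hM => ?_⟩
  · have hall : ∀ A : Matrix ι ι F, ∀ w ∈ W, A *ᵥ w ∈ W := by
      intro A w hw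
      have hA : A ∈ Submodule.span F (matrixSet R) := by
        rw [← spanAlg_toSubmodule, htop]
        trivial
      induction hA using Submodule.span_induction with
      | mem s hs =>
        have := hW s hs (Submodule.mem_map_of_mem hw)
        rwa [Matrix.toLin'_apply] at this
      | zero => rw [Matrix.zero_mulVec]; exact W.zero_mem
      | add a b _ _ ha hb => rw [Matrix.add_mulVec]; exact W.add_mem ha hb
      | smul c a _ ha => rw [Matrix.smul_mulVec]; exact W.smul_mem c ha
    by_cases h0 : W = ⊥
    · exact Or.inl h0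
    right
    obtain ⟨w, hw, hw0⟩ := W.ne_bot_iff.mp h0
    obtain ⟨i, hi⟩ := Function.ne_iff.mp hw0
    refine top_unique fun y _ => ?_
    have h := hall (Matrix.vecMulVec ((w i)⁻¹ • y) (Pi.single i 1)) w hw
    rw [Matrix.vecMulVec_mulVec] at h
    simp only [single_dotProduct, one_mul, op_smul_eq_smul, smul_smul, mul_inv_cancel₀ hi, one_smul] at h
    exact h
  · obtain ⟨c, hc⟩ := Matrix.mem_range_scalar_of_commute_single (fun i j _ => (hcomm M hM _).symm)
    exact ⟨c, by rw [← hc, Matrix.smul_one_eq_diagonal]; rfl⟩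

theorem pow_four (g : pauliGroup ty e P) : g ^ 4 = 1 := by
  obtain ⟨s, x, hs, hg⟩ := g.2
  apply Subtype.ext
  apply Units.ext
  rw [SubgroupClass.coe_pow, Units.val_pow_eq_pow_val, hg, Subgroup.coe_one, Units.val_one,
    show (4 : ℕ) = 2 * 2 from rfl, pow_mul, pow_two (s • pB ty e P x), Matrix.smul_mul, Matrix.mul_smul, smul_smul,
    pB_sq, smul_smul, smul_pow, one_pow]
  rcases hs with rfl | rfl <;> rcases tsgn_cases (F := F) ty x x with h | h <;> simp [h]

theorem isPGroup : IsPGroup 2 (pauliGroup ty e P) := fun g => ⟨2, pow_four ty e P g⟩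

theorem exponent_eq (i₀ : Fin t) : Monoid.exponent (pauliGroup ty e P) = 4 := by
  have h4 : Monoid.exponent (pauliGroup ty e P) ∣ 2 ^ 2 := Monoid.exponent_dvd_of_forall_pow_eq_one (pow_four ty e P)
  obtain ⟨k, hk, hk'⟩ := (Nat.dvd_prime_pow Nat.prime_two).mp h4
  have hne : ¬ Monoid.exponent (pauliGroup ty e P) ∣ 2 := by
    intro h
    set w := Function.update (0 : Fin t → Fin 4) i₀ 3 with hw
    have h1 := congrArg (fun g : pauliGroup ty e P => ((g : GL ι F) : Matrix ι ι F))
      (Monoid.exponent_dvd_iff_forall_pow_eq_one.mp h ⟨pU ty e P true w, pU_mem ty e P true w⟩)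
    have e1 : ((pU ty e P true w : GL ι F) : Matrix ι ι F) = pB ty e P w := one_smul _ _
    simp only [SubgroupClass.coe_pow, Units.val_pow_eq_pow_val, e1, pow_two, Subgroup.coe_mul, Units.val_mul, pB_sq, Subgroup.coe_one,
      Units.val_one] at h1
    have hs : tsgn (F := F) ty w w = -1 := by
      rw [tsgn, Finset.prod_eq_single i₀]
      · rw [hw, Function.update_self, pm_three_sq, map_neg, map_one]
      · intro j _ hj
        rw [hw, Function.update_of_ne hj, Pi.zero_apply]
        rcases (show psgn (ty j) 0 0 = 1 by cases ty j <;> decide +kernel) with h'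
        rw [h', map_one]
      · simp
    rw [hs, neg_one_smul] at h1
    haveI : Nonempty ι := ⟨e.symm 0⟩
    have := congrFun (congrFun h1 (Classical.arbitrary ι)) (Classical.arbitrary ι)
    simp only [Matrix.neg_apply, Matrix.one_apply_eq] at this
    exact two_ne_zero' (F := F) (by linear_combination -this)
  rw [hk']
  interval_cases k <;> simp_all

/-- An element of the normaliser from a map permuting the tensors up to sign. -/
theorem mem_normalizer_of_conj {g : GL ι F}
    (h : ∀ x, ∃ (s : F) (y : Fin t → Fin 4), (s = 1 ∨ s = -1) ∧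
      (g : Matrix ι ι F) * pB ty e P x = (s • pB ty e P y) * (g : Matrix ι ι F)) :
    g ∈ subgroupNormalizer (pauliGroup ty e P) := by
  have hmap : ∀ r ∈ pauliGroup ty e P, g * r * g⁻¹ ∈ pauliGroup ty e P := by
    rintro r ⟨s, x, hs, hr⟩
    obtain ⟨s', y, hs', hy⟩ := h x
    refine ⟨s * s', y, by rcases hs with rfl | rfl <;> rcases hs' with rfl | rfl <;> simp, ?_⟩
    rw [Units.val_mul, Units.val_mul, hr, Matrix.mul_smul, Matrix.smul_mul, hy, mul_assoc, Units.mul_inv, mul_one,
      smul_smul]
  haveI : Finite (pauliGroup ty e P) := Nat.finite_of_card_ne_zero (by rw [card_pauliGroup]; positivity)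
  have hle : (pauliGroup ty e P).map (MulAut.conj g).toMonoidHom ≤ pauliGroup ty e P := by
    rintro _ ⟨r, hr, rfl⟩
    exact hmap r hr
  have heq : (pauliGroup ty e P).map (MulAut.conj g).toMonoidHom = pauliGroup ty e P :=
    Subgroup.eq_of_le_of_card_ge hle (by
      rw [Nat.card_congr ((pauliGroup ty e P).equivMapOfInjective (MulAut.conj g).toMonoidHom
        (MulAut.conj g).injective).toEquiv])
  show g ∈ Subgroup.normalizer ((pauliGroup ty e P : Subgroup (GL ι F)) : Set (GL ι F))
  rw [Subgroup.mem_normalizer_iff]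
  intro r
  refine ⟨hmap r, fun hr => ?_⟩
  rw [← heq] at hr
  obtain ⟨r', hr', hrr⟩ := hr
  have : r' = r := by
    have h1 : g * r' * g⁻¹ = g * r * g⁻¹ := hrr
    simpa using h1
  rwa [← this]

/-- The group is of symplectic type when at most one factor is dihedral. -/
theorem isSymplecticType (i₀ : Fin t) (hone : ∀ i, ty i = false → i = i₀) :
    IsSymplecticTypeGroup 2 (pauliGroup ty e P) := by
  classical
  refine ⟨Nat.prime_two, isPGroup ty e P, fun A hA hcomm => ?_, by rw [exponent_eq ty e P i₀]; rfl⟩
  let R : Subgroup (GL ι F) := pauliGroup ty e P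
  let w₀ : Fin t → Fin 4 := Function.update 0 i₀ 3
  let g₀ : R := ⟨pU ty e P true w₀, pU_mem ty e P true w₀⟩
  have he1 : ∀ x, ((pU ty e P true x : GL ι F) : Matrix ι ι F) = pB ty e P x := fun x => one_smul _ _
  -- every element of `A` lies in the cyclic group of `g₀`
  have hle : A ≤ Subgroup.zpowers g₀ := by
    intro a ha
    obtain ⟨s, x, hs, hax⟩ := a.2
    have hcases : ∀ i, x i = 0 ∨ (ty i = false ∧ x i = 3) := by
      intro i
      by_contra hc
      -- the automorphism of the `i`-th factor
      let C : Fin t → Matrix (Fin 2) (Fin 2) F := Function.update 1 i ((pauto (ty i)).map toF)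
      let C' : Fin t → Matrix (Fin 2) (Fin 2) F := Function.update 1 i ((pautoInv (ty i)).map toF)
      have hCC : pureTensor C * pureTensor C' = 1 ∧ pureTensor C' * pureTensor C = 1 := by
        constructor <;>
        · rw [pureTensor_mul, ← pureTensor_one]
          congr 1
          funext l
          by_cases hl : l = i
          · subst hl
            simp [C, C', ← Matrix.map_mul, (pauto_inv (ty l)).1, (pauto_inv (ty l)).2]
          · simp [C, C', Function.update_of_ne hl]
      let gC : GL ι F := ⟨framed e P (pureTensor C), framed e P (pureTensor C'),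
        by rw [← map_mul, hCC.1, map_one], by rw [← map_mul, hCC.2, map_one]⟩
      have hstep : ∀ z : Fin t → Fin 4, ∃ (s' : F) (y : Fin 4), (s' = 1 ∨ s' = -1) ∧
          (pauto (ty i) * pm (ty i) (z i) = pm (ty i) y * pauto (ty i) ∨
            pauto (ty i) * pm (ty i) (z i) = -(pm (ty i) y * pauto (ty i))) ∧
          (gC : Matrix ι ι F) * pB ty e P z = (s' • pB ty e P (Function.update z i y)) * (gC : Matrix ι ι F) := by
        intro z
        obtain ⟨y, hy⟩ := pauto_conj (ty i) (z i)
        obtain ⟨ε, hε, hεy⟩ : ∃ ε : ZMod 3, (ε = 1 ∨ ε = -1) ∧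
            pauto (ty i) * pm (ty i) (z i) = ε • (pm (ty i) y * pauto (ty i)) := by
          rcases hy with h | h
          · exact ⟨1, Or.inl rfl, by rw [one_smul, h]⟩
          · exact ⟨-1, Or.inr rfl, by rw [neg_one_smul, h]⟩
        refine ⟨toF ε, y, by rcases hε with rfl | rfl <;> simp, hy, ?_⟩
        show framed e P (pureTensor C) * _ = _
        rw [pB, pB, ← map_smul, ← map_mul, ← map_mul]
        congr 1
        rw [pT, pT, Matrix.smul_mul, pureTensor_mul, pureTensor_mul,
          show toF (F := F) ε = ∏ l, Function.update (1 : Fin t → F) i (toF ε) l by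
            rw [Finset.prod_update_of_mem (Finset.mem_univ i)]; simp,
          ← pureTensor_smul_pi]
        congr 1
        funext l
        by_cases hl : l = i
        · subst hl
          simp only [Pi.mul_apply, C, Function.update_self, ← Matrix.map_mul, hεy, map_smul_toF]
        · simp [C, Function.update_of_ne hl]
      have hgN : gC ∈ subgroupNormalizer R := mem_normalizer_of_conj ty e P fun z => by
        obtain ⟨s', y, hs', -, h⟩ := hstep z
        exact ⟨s', _, hs', h⟩
      obtain ⟨s', y, hs', hy, hgy⟩ := hstep x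
      have hgN' : ∀ r, r ∈ R ↔ gC * r * gC⁻¹ ∈ R := Subgroup.mem_normalizer_iff.mp hgN
      let φ : R ≃* R :=
        { toFun := fun r => ⟨gC * r * gC⁻¹, (hgN' r).mp r.2⟩
          invFun := fun r => ⟨gC⁻¹ * r * gC, (hgN' _).mpr (by
            rw [show gC * (gC⁻¹ * (r : GL ι F) * gC) * gC⁻¹ = r by group]; exact r.2)⟩
          left_inv := fun r => by ext1; simp [mul_assoc]
          right_inv := fun r => by ext1; simp [mul_assoc]
          map_mul' := fun r r' => by ext1; simp [mul_assoc] }
      have hφA : φ a ∈ A := by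
        have := Subgroup.characteristic_iff_map_le.mp hA φ
        exact this ⟨a, ha, rfl⟩
      have hcm : a * φ a = φ a * a := congrArg Subtype.val (hcomm.is_comm.comm ⟨a, ha⟩ ⟨φ a, hφA⟩)
      have hφval : ((φ a : GL ι F) : Matrix ι ι F) = (s * s') • pB ty e P (Function.update x i y) := by
        show ((gC * (a : GL ι F) * gC⁻¹ : GL ι F) : Matrix ι ι F) = _
        rw [Units.val_mul, Units.val_mul, hax, Matrix.mul_smul, Matrix.smul_mul, hgy, mul_assoc, Units.mul_inv, mul_one,
          smul_smul]
      have h1 := congrArg (fun r : R => ((r : GL ι F) : Matrix ι ι F)) hcm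
      simp only [Subgroup.coe_mul, Units.val_mul, hax, hφval, Matrix.smul_mul, Matrix.mul_smul, smul_smul] at h1
      have hcom : tcom (F := F) x (Function.update x i y) = -1 := by
        rw [tcom, Finset.prod_eq_single i]
        · rw [Function.update_self, pauto_moves _ _ hc y hy, map_neg, map_one]
        · intro j _ hj
          rw [Function.update_of_ne hj]
          simp [pcom]
        · simp
      rw [pB_comm ty e P x, hcom, neg_one_smul, smul_neg, mul_comm (s * s') s] at h1
      set c := s * (s * s') with hc'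
      have hc0 : c ≠ 0 := by rcases hs with rfl | rfl <;> rcases hs' with rfl | rfl <;> simp [c]
      set B := pB ty e P (Function.update x i y) * pB ty e P x
      have h4 : (2 * c) • B = 0 := by
        rw [mul_smul, two_smul]
        exact neg_eq_iff_add_eq_zero.mp h1
      have h5 := (smul_eq_zero.mp h4).resolve_left (mul_ne_zero two_ne_zero' hc0)
      haveI : Nonempty ι := ⟨e.symm 0⟩
      have h6 := congrArg (fun A => pB ty e P (Function.update x i y) * A * pB ty e P x) h5
      simp only [B, mul_zero, zero_mul, ← mul_assoc, pB_sq, Matrix.smul_mul, one_mul] at h6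
      rw [smul_smul] at h6
      rcases tsgn_cases (F := F) ty (Function.update x i y) (Function.update x i y) with h' | h' <;>
        rcases tsgn_cases (F := F) ty x x with h'' | h'' <;> simp [h', h''] at h6
    have hx : x = 0 ∨ x = w₀ := by
      by_cases h : x i₀ = 0
      · left
        funext i
        rcases hcases i with h' | ⟨h', h''⟩
        · exact h'
        · rw [hone i h'] at h'' ⊢; rw [h] at h''; exact absurd h'' (by decide)
      · right
        funext i
        by_cases hi : i = i₀
        · subst hi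
          rw [show w₀ i = 3 from Function.update_self _ _ _]
          exact ((hcases i).resolve_left h).2
        · rw [show w₀ i = 0 from Function.update_of_ne hi _ _]
          exact (hcases i).resolve_right fun h' => hi (hone i h'.1)
    have hsq : ((g₀ * g₀ : R) : GL ι F).val = -1 := by
      rw [Subgroup.coe_mul, Units.val_mul, he1, pB_sq]
      have hs : tsgn (F := F) ty w₀ w₀ = -1 := by
        rw [tsgn, Finset.prod_eq_single i₀]
        · rw [show w₀ i₀ = 3 from Function.update_self _ _ _, pm_three_sq, map_neg, map_one]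
        · intro j _ hj
          rw [show w₀ j = 0 from Function.update_of_ne hj _ _]
          rw [show psgn (ty j) 0 0 = 1 by cases ty j <;> decide +kernel, map_one]
        · simp
      rw [hs, neg_one_smul]
    have hg2 : g₀ * g₀ ∈ Subgroup.zpowers g₀ := mul_mem (Subgroup.mem_zpowers g₀) (Subgroup.mem_zpowers g₀)
    rcases hx with rfl | rfl <;> rcases hs with rfl | rfl
    · rw [pB_zero, one_smul] at hax
      rw [show a = 1 from Subtype.ext (Units.ext hax)]
      exact one_mem _
    · rw [pB_zero, neg_one_smul] at hax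
      rwa [show a = g₀ * g₀ from Subtype.ext (Units.ext (hax.trans hsq.symm))]
    · rw [one_smul] at hax
      rw [show a = g₀ from Subtype.ext (Units.ext (hax.trans (he1 _).symm))]
      exact Subgroup.mem_zpowers g₀
    · rw [show a = g₀ * g₀ * g₀ from Subtype.ext (Units.ext (hax.trans (by
        rw [Subgroup.coe_mul, Units.val_mul, hsq, he1]; simp)))]
      exact mul_mem hg2 (Subgroup.mem_zpowers g₀)
  exact isCyclic_of_injective (Subgroup.inclusion hle) (Subgroup.inclusion_injective hle)

/-- Minus type, from the absence of large totally singular sets of indices. -/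
theorem isOfMinusType
    (hsmall : ∀ S : Finset (Fin t → Fin 4), (∀ x ∈ S, tsgn (F := F) ty x x = 1) →
      (∀ x ∈ S, ∀ y ∈ S, tcom (F := F) x y = 1) → S.card < 2 ^ t) :
    IsOfMinusType t (pauliGroup ty e P) := by
  classical
  intro A hcomm hsq
  let R : Subgroup (GL ι F) := pauliGroup ty e P
  haveI : Nonempty ι := ⟨e.symm 0⟩
  choose s x hs hax using fun a : A => (a : R).2
  haveI : Finite R := Nat.finite_of_card_ne_zero (by rw [card_pauliGroup]; positivity)
  haveI : Fintype A := Fintype.ofFinite A
  set S : Finset (Fin t → Fin 4) := Finset.univ.image x with hS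
  have h1 : ∀ z ∈ S, tsgn (F := F) ty z z = 1 := by
    simp only [hS, Finset.mem_image, Finset.mem_univ, true_and, forall_exists_index, forall_apply_eq_imp_iff]
    intro a
    have h := congrArg (fun r : R => ((r : GL ι F) : Matrix ι ι F)) (hsq a a.2)
    simp only [Subgroup.coe_mul, Units.val_mul, Subgroup.coe_one, Units.val_one, hax, Matrix.smul_mul,
      Matrix.mul_smul, smul_smul, pB_sq] at h
    have hss : s a * s a = 1 := by rcases hs a with h' | h' <;> simp [h']
    rw [← mul_assoc, hss, one_mul] at h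
    have := congrFun (congrFun h (Classical.arbitrary ι)) (Classical.arbitrary ι)
    simpa using this
  have h3 : ∀ z ∈ S, ∀ z' ∈ S, tcom (F := F) z z' = 1 := by
    simp only [hS, Finset.mem_image, Finset.mem_univ, true_and, forall_exists_index, forall_apply_eq_imp_iff]
    intro a b
    have h := congrArg (fun r : R => ((r : GL ι F) : Matrix ι ι F)) (congrArg Subtype.val (hcomm.is_comm.comm a b))
    simp only [Subgroup.coe_mul, Units.val_mul, hax, Matrix.smul_mul, Matrix.mul_smul, smul_smul] at h
    rw [pB_comm ty e P (x a) (x b), smul_smul, mul_comm (s a) (s b)] at h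
    rcases prod_sign (F := F) Finset.univ (fun i => pcom (x a i) (x b i)) (fun i => pcom_cases _ _) with h' | h'
    · exact h'
    exfalso
    rw [show tcom (F := F) (x a) (x b) = -1 from h'] at h
    set c := s b * s a
    have hc0 : c ≠ 0 := by rcases hs a with h'' | h'' <;> rcases hs b with h''' | h''' <;> simp [c, h'', h''']
    have h4 : (2 * c) • (pB ty e P (x b) * pB ty e P (x a)) = 0 := by
      rw [mul_neg_one, neg_smul] at h
      rw [mul_smul, two_smul]
      exact neg_eq_iff_add_eq_zero.mp h
    have h5 := (smul_eq_zero.mp h4).resolve_left (mul_ne_zero two_ne_zero' hc0)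
    have h6 := congrArg (fun A => pB ty e P (x b) * A * pB ty e P (x a)) h5
    simp only [mul_zero, zero_mul, ← mul_assoc, pB_sq, Matrix.smul_mul, one_mul] at h6
    rw [smul_smul] at h6
    rcases tsgn_cases (F := F) ty (x b) (x b) with h' | h' <;>
      rcases tsgn_cases (F := F) ty (x a) (x a) with h'' | h'' <;> simp [h', h''] at h6
  have hS' := hsmall S h1 h3
  let φ : A → Bool × S := fun a => (decide (s a = 1), ⟨x a, Finset.mem_image_of_mem _ (Finset.mem_univ a)⟩)
  have hinj : Function.Injective φ := by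
    intro a b h
    simp only [φ, Prod.mk.injEq, decide_eq_decide, Subtype.mk.injEq] at h
    apply Subtype.ext; apply Subtype.ext; apply Units.ext
    rw [hax, hax, h.2]
    rcases hs a with h' | h'
    · rw [h', h.1.mp h']
    · rcases hs b with h'' | h''
      · rw [h.1.mpr h'', h'']
      · rw [h', h'']
  calc Nat.card A ≤ Nat.card (Bool × S) := Nat.card_le_card_of_injective φ hinj
    _ = 2 * S.card := by simp
    _ < 2 ^ (t + 1) := by rw [pow_succ]; omega

/-- The group consists of similitudes of a form with the tensor Gram matrix. -/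
theorem le_similarityGroup {f : (ι → F) → (ι → F) → F} {c : F}
    (hform : ∀ u v : (Fin t → Fin 2) → F, f ((P : Matrix ι ι F) *ᵥ (u ∘ e)) ((P : Matrix ι ι F) *ᵥ (v ∘ e)) =
      c * (u ⬝ᵥ (pureTensor (fun i => (pg (ty i)).map (toF (F := F))) *ᵥ v))) :
    pauliGroup ty e P ≤ similarityGroup f := by
  rintro g ⟨s, x, hs, hg⟩
  set G : Matrix (Fin t → Fin 2) (Fin t → Fin 2) F := pureTensor (fun i => (pg (ty i)).map (toF (F := F)))
  obtain ⟨ε, hε, hG⟩ : ∃ ε : F, (ε = 1 ∨ ε = -1) ∧ (pT ty x)ᵀ * G * pT ty x = ε • G := by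
    choose δ hδ hδ' using fun i => show ∃ δ : ZMod 3, (δ = 1 ∨ δ = -1) ∧
        (pm (ty i) (x i))ᵀ * pg (ty i) * pm (ty i) (x i) = δ • pg (ty i) from (by
      rcases pm_form (ty i) (x i) with h | h
      · exact ⟨1, Or.inl rfl, by rw [one_smul, h]⟩
      · exact ⟨-1, Or.inr rfl, by rw [neg_one_smul, h]⟩)
    refine ⟨∏ i, toF (δ i), prod_sign _ _ hδ, ?_⟩
    rw [show (pT (F := F) ty x)ᵀ = pureTensor (fun i => ((pm (ty i) (x i)).map toF)ᵀ) by
      ext a b; simp [pT, pureTensor], pT, pureTensor_mul, pureTensor_mul, ← pureTensor_smul_pi]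
    congr 1
    funext i
    rw [Pi.mul_apply, Pi.mul_apply, ← Matrix.transpose_map, ← Matrix.map_mul, ← Matrix.map_mul, hδ', map_smul_toF]
  have hε0 : ε ≠ 0 := by rcases hε with rfl | rfl <;> simp
  refine ⟨Units.mk0 ε hε0, fun a b => ?_⟩
  set a' : (Fin t → Fin 2) → F := (((P⁻¹ : GL ι F) : Matrix ι ι F) *ᵥ a) ∘ e.symm with ha'
  set b' : (Fin t → Fin 2) → F := (((P⁻¹ : GL ι F) : Matrix ι ι F) *ᵥ b) ∘ e.symm with hb'
  have hback : ∀ w : ι → F, (P : Matrix ι ι F) *ᵥ (((((P⁻¹ : GL ι F) : Matrix ι ι F) *ᵥ w) ∘ e.symm) ∘ e) = w := by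
    intro w
    rw [Function.comp_assoc, Equiv.symm_comp_self, Function.comp_id, Matrix.mulVec_mulVec, Units.mul_inv,
      Matrix.one_mulVec]
  have hact : ∀ w, (g : Matrix ι ι F) *ᵥ ((P : Matrix ι ι F) *ᵥ (w ∘ e)) =
      s • ((P : Matrix ι ι F) *ᵥ ((pT ty x *ᵥ w) ∘ e)) := by
    intro w
    rw [hg, pB, framed_apply, Matrix.smul_mulVec, Matrix.mulVec_mulVec, mul_assoc, Units.inv_mul, mul_one,
      ← Matrix.mulVec_mulVec, Matrix.submatrix_mulVec_equiv, Function.comp_assoc, Equiv.self_comp_symm,
      Function.comp_id]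
  have hfin : ∀ w, s • ((P : Matrix ι ι F) *ᵥ ((pT ty x *ᵥ w) ∘ e)) =
      (P : Matrix ι ι F) *ᵥ ((s • (pT ty x *ᵥ w)) ∘ e) := fun w => by
    rw [← Matrix.mulVec_smul]; rfl
  rw [← hback a, ← hback b, ← ha', ← hb', hact, hact, hfin, hfin, hform, hform]
  have hss : s * s = 1 := by rcases hs with rfl | rfl <;> simp
  simp only [Matrix.mulVec_smul, dotProduct_smul, smul_dotProduct, smul_eq_mul, Units.val_mk0]
  rw [Matrix.mulVec_mulVec, Matrix.dotProduct_mulVec, ← Matrix.vecMul_transpose, Matrix.vecMul_vecMul,
    ← mul_assoc ((pT ty x)ᵀ), hG, Matrix.vecMul_smul, smul_dotProduct, smul_eq_mul, ← Matrix.dotProduct_mulVec]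
  linear_combination (c * ε * (a' ⬝ᵥ G *ᵥ b')) * hss

end

end Cfsg.Agent.Lib.MaxClass.PauliTensor
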