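import Mathlib
import Cfsg.Prelude.Def_GeometricClasses
import Cfsg.Agent.Lib.MaxClass.NotTopSymp

/-!
Small-field reductions between symplectic classes, and the degree of a self-adjoint field.
-/

set_option autoImplicit false
set_option linter.style.haveILetI false
set_option linter.unusedSectionVars false

namespace Cfsg.Agent.Lib.MaxClass

open Cfsg Cfsg.Geo Matrix
open Cfsg.Agent.Lib.Aschbacher
open scoped Kronecker

variable {F : Type*} [Field F] {m : ℕ}

local notation "ιS" => (Fin m ⊕ Fin m)

lemma sympForm_zero_right (x : ιS → F) : sympForm m F x 0 = 0 := by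
  rw [show (0 : ιS → F) = (0 : F) • x from (zero_smul F x).symm, sympForm_smul_right, zero_mul]

lemma sympForm_zero_left (x : ιS → F) : sympForm m F 0 x = 0 := by
  rw [sympForm_skew, sympForm_zero_right, neg_zero]

lemma sympForm_sum_left {κ : Type*} (s : Finset κ) (a : κ → ιS → F) (v : ιS → F) :
    sympForm m F (∑ i ∈ s, a i) v = ∑ i ∈ s, sympForm m F (a i) v :=
  sum_dotProduct ..

lemma sympForm_sum_right {κ : Type*} (s : Finset κ) (a : κ → ιS → F) (v : ιS → F) :
    sympForm m F v (∑ i ∈ s, a i) = ∑ i ∈ s, sympForm m F v (a i) := by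
  simp only [sympForm, Matrix.mulVec_sum, dotProduct_sum]

/-! ### A self-adjoint field of degree `r` forces `r ∣ m` -/

theorem degree_dvd_of_selfAdjoint [Fintype F] {r : ℕ} {K : Subalgebra F (Matrix ιS ιS F)}
    (hK : IsFieldSubalgebra r K) (hsa : IsSelfAdjointFor (sympForm m F) K)
    (halt : ∀ k ∈ K, ∀ v : ιS → F, sympForm m F (k *ᵥ v) v = 0) : r ∣ m := by
  classical
  rcases Nat.eq_zero_or_pos m with rfl | hm
  · exact dvd_zero r
  haveI : Nonempty ιS := ⟨Sum.inl ⟨0, hm⟩⟩
  let good : Submodule F (ιS → F) → Prop := fun W =>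
    (∀ k ∈ K, ∀ w ∈ W, k *ᵥ w ∈ W) ∧ ∀ u ∈ W, ∀ w ∈ W, sympForm m F u w = 0
  have hfin : Set.Finite {W | good W} := Set.toFinite _
  have hbot : good ⊥ := ⟨fun k _ w hw => by
      rw [Submodule.mem_bot] at hw; rw [hw, Matrix.mulVec_zero]; exact zero_mem _,
    fun u hu w _ => by rw [Submodule.mem_bot] at hu; rw [hu, sympForm_zero_left]⟩
  obtain ⟨L, hL, hmax⟩ := hfin.exists_maximal ⟨⊥, hbot⟩
  obtain ⟨hinv, hts⟩ : good L := hL
  let φ : (ιS → F) →ₗ[F] Module.Dual F L :=
    { toFun := fun x =>
        { toFun := fun l => sympForm m F x (l : ιS → F)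
          map_add' := fun a b => sympForm_add_right _ _ _
          map_smul' := fun c a => sympForm_smul_right _ _ _ }
      map_add' := fun a b => by ext l; exact sympForm_add_left _ _ _
      map_smul' := fun c a => by ext l; exact sympForm_smul_left _ _ _ }
  have hker : LinearMap.ker φ = L := by
    refine le_antisymm (fun x hx => ?_) (fun x hx => ?_)
    swap
    · rw [LinearMap.mem_ker]; ext l; exact hts x hx l l.2
    by_contra hxL
    have hx' : ∀ l ∈ L, sympForm m F x l = 0 := fun l hl => LinearMap.congr_fun (LinearMap.mem_ker.mp hx) ⟨l, hl⟩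
    let ev : K →ₗ[F] (ιS → F) :=
      { toFun := fun k => (k : Matrix ιS ιS F) *ᵥ x
        map_add' := fun a b => Matrix.add_mulVec _ _ _
        map_smul' := fun c a => Matrix.smul_mulVec c _ _ }
    have hgood : good (L ⊔ LinearMap.range ev) := by
      refine ⟨fun k hk w hw => ?_, fun u hu w hw => ?_⟩
      · obtain ⟨l, hl, _, ⟨k', rfl⟩, rfl⟩ := Submodule.mem_sup.mp hw
        rw [Matrix.mulVec_add]
        refine Submodule.add_mem_sup (hinv k hk l hl) ⟨(⟨k * (k' : Matrix ιS ιS F), K.mul_mem hk k'.2⟩ : K), ?_⟩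
        show (k * (k' : Matrix ιS ιS F)) *ᵥ x = k *ᵥ ((k' : Matrix ιS ιS F) *ᵥ x)
        exact (Matrix.mulVec_mulVec x k (k' : Matrix ιS ιS F)).symm
      · obtain ⟨l, hl, _, ⟨k, rfl⟩, rfl⟩ := Submodule.mem_sup.mp hu
        obtain ⟨l', hl', _, ⟨k', rfl⟩, rfl⟩ := Submodule.mem_sup.mp hw
        show sympForm m F (l + (k : Matrix ιS ιS F) *ᵥ x) (l' + (k' : Matrix ιS ιS F) *ᵥ x) = 0
        rw [sympForm_add_left, sympForm_add_right, sympForm_add_right, hts l hl l' hl', ← hsa k' k'.2,
          sympForm_skew _ x, hx' _ (hinv k' k'.2 l hl), hsa k k.2 x l', hx' _ (hinv k k.2 l' hl'), ← hsa k' k'.2,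
          Matrix.mulVec_mulVec, halt _ (K.mul_mem k'.2 k.2)]
        simp
    have hle := hmax (show L ⊔ LinearMap.range ev ∈ {W | good W} from hgood) le_sup_left
    refine hxL (hle (Submodule.mem_sup_right ⟨1, ?_⟩))
    show ((1 : K) : Matrix ιS ιS F) *ᵥ x = x
    rw [OneMemClass.coe_one, Matrix.one_mulVec]
  have hrange : LinearMap.range φ = ⊤ := by
    rw [LinearMap.range_eq_top]
    intro θ
    obtain ⟨ψ, hψ⟩ := Subspace.dualRestrict_surjective (W := L) θ
    let Φ : (ιS → F) →ₗ[F] Module.Dual F (ιS → F) :=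
      { toFun := fun x =>
          { toFun := fun l => sympForm m F x l
            map_add' := fun a b => sympForm_add_right _ _ _
            map_smul' := fun c a => sympForm_smul_right _ _ _ }
        map_add' := fun a b => by ext l; exact sympForm_add_left _ _ _
        map_smul' := fun c a => by ext l; exact sympForm_smul_left _ _ _ }
    have hΦ : Function.Surjective Φ := by
      refine (LinearMap.injective_iff_surjective_of_finrank_eq_finrank Subspace.dual_finrank_eq.symm).mp ?_
      rw [← LinearMap.ker_eq_bot, LinearMap.ker_eq_bot']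
      intro x hx
      by_contra hx0
      obtain ⟨w, hw⟩ := sympForm_nondeg' hx0
      exact hw (LinearMap.congr_fun hx w)
    obtain ⟨x, rfl⟩ := hΦ ψ
    exact ⟨x, by rw [← hψ]; rfl⟩
  have hdim : Module.finrank F L = m := by
    have h := LinearMap.finrank_range_add_finrank_ker φ
    rw [hrange, hker, finrank_top, Subspace.dual_finrank_eq, Module.finrank_fintype_fun_eq_card, Fintype.card_sum,
      Fintype.card_fin] at h
    omega
  haveI : Nontrivial K := ⟨⟨1, 0, fun h => by
    have := congrArg (fun a : K => (a : Matrix ιS ιS F) (Sum.inl ⟨0, hm⟩) (Sum.inl ⟨0, hm⟩)) h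
    simp at this⟩⟩
  letI fK : Field K :=
    IsField.toField
      { exists_pair_ne := exists_pair_ne K
        mul_comm := fun x y => Subtype.ext (hK.comm x x.2 y y.2)
        mul_inv_cancel := fun {x} hx => by
          obtain ⟨y, hy, hxy⟩ := hK.inv x x.2 (fun h => hx (Subtype.ext h))
          exact ⟨⟨y, hy⟩, Subtype.ext hxy⟩ }
  letI mK : Module K L :=
    { smul := fun a v => ⟨(a : Matrix ιS ιS F) *ᵥ (v : ιS → F), hinv a a.2 v v.2⟩
      one_smul := fun v => Subtype.ext (by
        show ((1 : K) : Matrix ιS ιS F) *ᵥ (v : ιS → F) = v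
        exact Matrix.one_mulVec _)
      mul_smul := fun a b v => Subtype.ext (by
        show ((a * b : K) : Matrix ιS ιS F) *ᵥ (v : ιS → F) =
          (a : Matrix ιS ιS F) *ᵥ ((b : Matrix ιS ιS F) *ᵥ (v : ιS → F))
        exact (Matrix.mulVec_mulVec _ _ _).symm)
      smul_zero := fun a => Subtype.ext (by
        show (a : Matrix ιS ιS F) *ᵥ (0 : ιS → F) = 0
        exact Matrix.mulVec_zero _)
      zero_smul := fun v => Subtype.ext (by
        show ((0 : K) : Matrix ιS ιS F) *ᵥ (v : ιS → F) = 0
        simp)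
      smul_add := fun a v w => Subtype.ext (by
        show (a : Matrix ιS ιS F) *ᵥ ((v : ιS → F) + (w : ιS → F)) =
          (a : Matrix ιS ιS F) *ᵥ (v : ιS → F) + (a : Matrix ιS ιS F) *ᵥ (w : ιS → F)
        exact Matrix.mulVec_add _ _ _)
      add_smul := fun a b v => Subtype.ext (by
        show ((a + b : K) : Matrix ιS ιS F) *ᵥ (v : ιS → F) =
          (a : Matrix ιS ιS F) *ᵥ (v : ιS → F) + (b : Matrix ιS ιS F) *ᵥ (v : ιS → F)
        exact Matrix.add_mulVec _ _ _) }
  haveI hT : IsScalarTower F K L := ⟨fun c a v => Subtype.ext (by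
      show ((c • a : K) : Matrix ιS ιS F) *ᵥ (v : ιS → F) = c • ((a : Matrix ιS ιS F) *ᵥ (v : ιS → F))
      exact Matrix.smul_mulVec c _ _)⟩
  have h := Module.finrank_mul_finrank F K L
  rw [hK.finrank_eq, hdim] at h
  exact Dvd.intro _ h

/-! ### Two elements: planes carry a quadratic form -/

theorem sp_planes_card_two [Fintype F] (hq : Fintype.card F = 2) {t : ℕ} {D : Fin t → Submodule F (ιS → F)}
    (hD : IsNondegenerateMDecomposition (sympForm m F) 2 D) :
    ∃ Q : (ιS → F) → F, IsNondegenerateQuadraticForm Q ∧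
      (∀ u v, QuadraticMap.polar Q u v = sympForm m F u v) ∧
      decompositionStabilizer D ⊓ spGL m F ≤ quadSimilarityGroup Q := by
  classical
  have h01 : ∀ x : F, x = 0 ∨ x = 1 := fun x => by
    by_cases hx : x = 0
    · exact Or.inl hx
    · refine Or.inr ?_
      have := FiniteField.pow_card_sub_one_eq_one x hx
      rwa [hq, pow_one] at this
  have h2 : (2 : F) = 0 := by
    have := FiniteField.cast_card_eq_zero F
    rw [hq] at this
    exact_mod_cast this
  let Φ : (Π i, D i) →ₗ[F] (ιS → F) :=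
    { toFun := fun x => ∑ i, (x i : ιS → F)
      map_add' := fun x y => by simp [Finset.sum_add_distrib]
      map_smul' := fun c x => by simp [Finset.smul_sum] }
  have hsurj : Function.Surjective Φ := by
    rw [← LinearMap.range_eq_top, eq_top_iff, ← hD.decomp.iSup_eq_top, iSup_le_iff]
    intro i w hw
    refine ⟨Pi.single i ⟨w, hw⟩, ?_⟩
    show ∑ j, ((Pi.single i (⟨w, hw⟩ : D i) : Π j, D j) j : ιS → F) = w
    rw [Finset.sum_eq_single i]
    · rw [Pi.single_eq_same]
    · intro j _ hj; rw [Pi.single_eq_of_ne hj]; rfl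
    · simp
  have hdim : Module.finrank F (Π i, D i) = Module.finrank F (ιS → F) := by
    rw [Module.finrank_pi_fintype, Module.finrank_fintype_fun_eq_card, ← isMDecomposition_card hD.decomp]
    simp [hD.decomp.finrank_eq]
  let E : (Π i, D i) ≃ₗ[F] (ιS → F) :=
    LinearEquiv.ofBijective Φ ⟨(LinearMap.injective_iff_surjective_of_finrank_eq_finrank hdim).mpr hsurj, hsurj⟩
  have hE : ∀ x, E x = ∑ i, (x i : ιS → F) := fun x => rfl
  let q : ∀ i, D i → F := fun i w => if w = 0 then 0 else 1
  have hpair : ∀ x y : Π i, D i, sympForm m F (E x) (E y) = ∑ i, sympForm m F (x i : ιS → F) (y i : ιS → F) := by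
    intro x y
    rw [hE, hE, sympForm_sum_left]
    refine Finset.sum_congr rfl fun i _ => ?_
    rw [sympForm_sum_right, Finset.sum_eq_single i]
    · intro j _ hj; exact hD.orthogonal i j (Ne.symm hj) _ (x i).2 _ (y j).2
    · simp
  have hqadd : ∀ i (a b : D i), q i (a + b) = q i a + q i b + sympForm m F (a : ιS → F) (b : ιS → F) := by
    intro i a b
    by_cases ha : a = 0
    · subst ha
      simp only [q, zero_add, if_pos, Submodule.coe_zero, sympForm_zero_left, add_zero]
    by_cases hb : b = 0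
    · subst hb
      simp only [q, add_zero, if_pos, Submodule.coe_zero, sympForm_zero_right]
    by_cases hab : a = b
    · subst hab
      have : a + a = 0 := by rw [← two_smul F a, h2, zero_smul]
      simp only [q, this, if_pos, if_neg ha, sympForm_self, add_zero]
      linear_combination -h2
    have hne : a + b ≠ 0 := fun h => hab (by
      have h' : a = -b := eq_neg_of_add_eq_zero_left h
      rw [h', ← neg_one_smul F b, show (-1 : F) = 1 by linear_combination -h2, one_smul])
    simp only [q, if_neg ha, if_neg hb, if_neg hne]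
    rcases h01 (sympForm m F (a : ιS → F) (b : ιS → F)) with h | h
    swap
    · rw [h]; linear_combination -h2
    exfalso
    obtain ⟨⟨w, hw, hwa⟩, -⟩ := hD.nondegenerate i (a : ιS → F) a.2 (fun h => ha (Subtype.ext h))
    apply hwa
    -- `a, b` span the plane
    have hspan : Submodule.span F (Set.range ![a, b]) = ⊤ := by
      refine LinearIndependent.span_eq_top_of_card_eq_finrank ?_ (by rw [Fintype.card_fin, hD.decomp.finrank_eq])
      rw [LinearIndependent.pair_iff]
      intro s u hsu
      rcases h01 s with rfl | rfl <;> rcases h01 u with rfl | rfl <;> simp at hsu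
      · exact ⟨rfl, rfl⟩
      · exact absurd hsu hb
      · exact absurd hsu ha
      · exact absurd hsu hne
    have hwmem : (⟨w, hw⟩ : D i) ∈ Submodule.span F (Set.range ![a, b]) := by rw [hspan]; trivial
    rw [Matrix.range_cons, Matrix.range_cons, Matrix.range_empty, Set.union_empty, Set.singleton_union,
      Submodule.mem_span_pair] at hwmem
    obtain ⟨s, u, hsu⟩ := hwmem
    have hw' : w = s • (a : ιS → F) + u • (b : ιS → F) := congrArg Subtype.val hsu.symm
    rw [hw', sympForm_add_left, sympForm_smul_left, sympForm_smul_left, sympForm_self, sympForm_skew, h]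
    simp
  let Q : (ιS → F) → F := fun v => ∑ i, q i ((E.symm v) i)
  have hQadd : ∀ u v, Q (u + v) = Q u + Q v + sympForm m F u v := by
    intro u v
    conv_rhs => rw [← E.apply_symm_apply u, ← E.apply_symm_apply v, hpair]
    simp only [Q, E.symm_apply_apply, map_add, Pi.add_apply, hqadd, Finset.sum_add_distrib]
  have hQ0 : Q 0 = 0 := by simp [Q, q]
  have hpol : ∀ u v, QuadraticMap.polar Q u v = sympForm m F u v := fun u v => by
    rw [QuadraticMap.polar, hQadd]; ring
  have hfun : QuadraticMap.polar Q = formM (RingEquiv.refl F) (sympGram m F : Matrix ιS ιS F) :=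
    funext fun u => funext fun v => by rw [hpol, sympForm_eq]
  refine ⟨Q, ⟨fun c v => ?_, by rw [hfun]; exact isBilinearForm_formM _, by rw [hfun]; exact nondegenerate_formM _ _⟩,
    hpol, ?_⟩
  · rcases h01 c with rfl | rfl
    · rw [zero_smul, hQ0]; ring
    · rw [one_smul]; ring
  rintro g ⟨⟨σ, hσ⟩, hg⟩
  refine ⟨1, fun v => ?_⟩
  rw [Units.val_one, one_mul]
  obtain ⟨x, rfl⟩ := E.surjective v
  have hmem : ∀ i, (g : Matrix ιS ιS F) *ᵥ (x i : ιS → F) ∈ D (σ i) := fun i => by
    rw [← hσ i, ← Matrix.toLin'_apply]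
    exact Submodule.mem_map_of_mem (x i).2
  let y : Π j, D j := fun j => ⟨(g : Matrix ιS ιS F) *ᵥ (x (σ.symm j) : ιS → F), by
    have := hmem (σ.symm j); rwa [σ.apply_symm_apply] at this⟩
  have hgE : (g : Matrix ιS ιS F) *ᵥ E x = E y := by
    rw [hE, hE, Matrix.mulVec_sum]
    exact (Equiv.sum_comp σ.symm fun i => (g : Matrix ιS ιS F) *ᵥ (x i : ιS → F)).symm
  simp only [Q, hgE, E.symm_apply_apply]
  rw [← Equiv.sum_comp σ fun j => q j (y j)]
  refine Finset.sum_congr rfl fun i _ => ?_
  have hiff : y (σ i) = 0 ↔ x i = 0 := by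
    constructor
    · intro h
      have h' : (g : Matrix ιS ιS F) *ᵥ (x (σ.symm (σ i)) : ιS → F) = 0 := congrArg Subtype.val h
      rw [σ.symm_apply_apply] at h'
      have h'' := congrArg (fun u => ((g⁻¹ : GL ιS F) : Matrix ιS ιS F) *ᵥ u) h'
      simp only [Matrix.mulVec_mulVec, Units.inv_mul, Matrix.one_mulVec, Matrix.mulVec_zero] at h''
      exact Subtype.ext h''
    · intro h
      apply Subtype.ext
      show (g : Matrix ιS ιS F) *ᵥ (x (σ.symm (σ i)) : ιS → F) = 0
      rw [σ.symm_apply_apply, h, Submodule.coe_zero, Matrix.mulVec_zero]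
  simp only [q, hiff]

/-! ### Three elements: a three-dimensional symmetric factor gives a decomposition -/

lemma bilinear_eq_sum {ι : Type} [Fintype ι] [DecidableEq ι] {f : (ι → F) → (ι → F) → F} (hf : IsBilinearForm f)
    (u w : ι → F) : f u w = ∑ a, ∑ b, u a * gramMatrix f a b * w b := by
  let B : (ι → F) →ₗ[F] (ι → F) →ₗ[F] F :=
    LinearMap.mk₂ F f hf.add_left hf.smul_left hf.add_right hf.smul_right
  show B u w = _
  conv_lhs => rw [pi_eq_sum_univ' u]
  rw [map_sum, LinearMap.sum_apply]
  refine Finset.sum_congr rfl fun a _ => ?_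
  rw [map_smul, LinearMap.smul_apply]
  conv_lhs => rw [pi_eq_sum_univ' w]
  rw [map_sum, Finset.smul_sum]
  refine Finset.sum_congr rfl fun b _ => ?_
  rw [map_smul]
  show u a • (w b • f (Pi.single a 1) (Pi.single b 1)) = _
  simp only [smul_eq_mul, gramMatrix]
  ring

/-- Over three elements a non-degenerate symmetric form in three variables is a multiple of the sum of squares. -/
lemma exists_scaled_orthonormal [Fintype F] (hq : Fintype.card F = 3) {f : (Fin 3 → F) → (Fin 3 → F) → F}
    (hf : IsSymmetricForm f) :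
    ∃ (c : F) (w : Fin 3 → (Fin 3 → F)), c ≠ 0 ∧ ∀ i j, f (w i) (w j) = if i = j then c else 0 := by
  classical
  have h3 : (3 : F) = 0 := by
    have := FiniteField.cast_card_eq_zero F
    rw [hq] at this
    exact_mod_cast this
  have h2 : (2 : F) ≠ 0 := fun h => one_ne_zero (α := F) (by linear_combination h3 - h)
  haveI : Invertible (2 : F) := invertibleOfNonzero h2
  let B : LinearMap.BilinForm F (Fin 3 → F) :=
    LinearMap.mk₂ F f hf.bilinear.add_left hf.bilinear.smul_left hf.bilinear.add_right hf.bilinear.smul_right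
  have hBs : LinearMap.IsSymm B := ⟨fun x y => hf.symm x y⟩
  obtain ⟨v, hv⟩ := LinearMap.BilinForm.exists_orthogonal_basis hBs
  have hn : Module.finrank F (Fin 3 → F) = 3 := by simp
  let v' : Module.Basis (Fin 3) F (Fin 3 → F) := v.reindex (finCongr hn)
  have hv' : ∀ i j, i ≠ j → f (v' i) (v' j) = 0 := fun i j hij => by
    simp only [v', Module.Basis.reindex_apply]
    exact hv (fun h => hij ((finCongr hn).symm.injective h))
  have hd : ∀ i, f (v' i) (v' i) = 1 ∨ f (v' i) (v' i) = -1 := by
    intro i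
    refine mul_self_eq_one_iff.mp ?_
    have hne : f (v' i) (v' i) ≠ 0 := by
      intro h0
      obtain ⟨-, x, hx⟩ := hf.nondegenerate (v' i) (v'.ne_zero i)
      apply hx
      have : B (v' i) x = 0 := by
        rw [← v'.sum_repr x, map_sum]
        refine Finset.sum_eq_zero fun j _ => ?_
        rw [map_smul]
        by_cases hij : i = j
        · subst hij; show _ • f _ _ = 0; rw [h0, smul_zero]
        · show _ • f _ _ = 0; rw [hv' i j hij, smul_zero]
      exact this
    have := FiniteField.pow_card_sub_one_eq_one _ hne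
    rw [hq, pow_two] at this
    exact this
  -- two equal and one different
  have hmix : ∀ i j k : Fin 3, i ≠ j → i ≠ k → j ≠ k → f (v' i) (v' i) = f (v' j) (v' j) →
      f (v' k) (v' k) = -f (v' i) (v' i) →
      ∃ (c : F) (w : Fin 3 → (Fin 3 → F)), c ≠ 0 ∧ ∀ a b, f (w a) (w b) = if a = b then c else 0 := by
    intro i j k hij hik hjk e1 e2
    set s := f (v' i) (v' i) with hs
    refine ⟨-s, ![v' i + v' j, v' i + (-1 : F) • v' j, v' k], ?_, ?_⟩
    · rcases hd i with h | h <;> simp [hs, h]
    intro a b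
    have hnl : ∀ x y, f (-x) y = -f x y := fun x y => by
      rw [← neg_one_smul F x, hf.bilinear.smul_left, neg_one_mul]
    have hnr : ∀ x y, f x (-y) = -f x y := fun x y => by
      rw [← neg_one_smul F y, hf.bilinear.smul_right, neg_one_mul]
    fin_cases a <;> fin_cases b <;>
      simp [hnl, hnr, hf.bilinear.add_left, hf.bilinear.add_right, hf.bilinear.smul_left, hf.bilinear.smul_right,
        hv' i j hij, hv' j i (Ne.symm hij), hv' i k hik, hv' k i (Ne.symm hik), hv' j k hjk, hv' k j (Ne.symm hjk),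
        ← e1, e2, ← hs] <;>
      first
        | linear_combination s * h3
        | ring
  rcases hd 0 with h0 | h0 <;> rcases hd 1 with h1 | h1 <;> rcases hd 2 with h2' | h2'
  · exact ⟨1, v', one_ne_zero, fun a b => by
      by_cases h : a = b
      · subst h; rw [if_pos rfl]; fin_cases a <;> assumption
      · rw [if_neg h]; exact hv' a b h⟩
  · exact hmix 0 1 2 (by decide) (by decide) (by decide) (by rw [h0, h1]) (by rw [h0, h2'])
  · exact hmix 0 2 1 (by decide) (by decide) (by decide) (by rw [h0, h2']) (by rw [h0, h1])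
  · exact hmix 1 2 0 (by decide) (by decide) (by decide) (by rw [h1, h2']) (by rw [h1, h0, neg_neg])
  · exact hmix 1 2 0 (by decide) (by decide) (by decide) (by rw [h1, h2']) (by rw [h1, h0])
  · exact hmix 0 2 1 (by decide) (by decide) (by decide) (by rw [h0, h2']) (by rw [h0, h1, neg_neg])
  · exact hmix 0 1 2 (by decide) (by decide) (by decide) (by rw [h0, h1]) (by rw [h0, h2', neg_neg])
  · exact ⟨-1, v', neg_ne_zero.mpr one_ne_zero, fun a b => by
      by_cases h : a = b
      · subst h; rw [if_pos rfl]; fin_cases a <;> assumption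
      · rw [if_neg h]; exact hv' a b h⟩

theorem sp_tensor_card_three [Fintype F] (hq : Fintype.card F = 3) {n₁ : ℕ}
    {e : ιS ≃ Fin n₁ × Fin 3} {P : GL ιS F}
    {f₁ : (Fin n₁ → F) → (Fin n₁ → F) → F} {f₂ : (Fin 3 → F) → (Fin 3 → F) → F}
    (h₁ : IsSymplecticForm f₁) (h₂ : IsSymmetricForm f₂) (hn : 0 < n₁)
    (hstr : IsTensorFormStructure id (sympForm m F) f₁ f₂ e P) :
    ∃ D : Fin 3 → Submodule F (ιS → F), IsNondegenerateMDecomposition (sympForm m F) n₁ D ∧
      tensorProductSubgroup n₁ 3 e P ⊓ spGL m F ≤ decompositionStabilizer D := by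
  classical
  obtain ⟨c₀, hc₀, hf⟩ := hstr
  obtain ⟨c, w, hc, hw⟩ := exists_scaled_orthonormal hq h₂
  have h3 : (3 : F) = 0 := by
    have := FiniteField.cast_card_eq_zero F
    rw [hq] at this
    exact_mod_cast this
  let pure : (Fin n₁ → F) → (Fin 3 → F) → (ιS → F) := fun u x =>
    (P : Matrix ιS ιS F) *ᵥ ((fun p => u p.1 * x p.2) ∘ e)
  have hpure : ∀ u x u' x', sympForm m F (pure u x) (pure u' x') = c₀ * (f₁ u u' * f₂ x x') := by
    intro u x u' x'
    rw [hf, bilinear_eq_sum h₁.bilinear, bilinear_eq_sum h₂.bilinear]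
    congr 1
    simp only [formOfGram, Fintype.sum_prod_type, id_eq]
    rw [Finset.sum_mul_sum]
    refine Finset.sum_congr rfl fun a _ => Finset.sum_congr rfl fun a' _ => ?_
    rw [Finset.sum_mul_sum]
    refine Finset.sum_congr rfl fun b _ => Finset.sum_congr rfl fun b' _ => ?_
    simp only [kroneckerMap_apply]
    ring
  let L : Fin 3 → (Fin n₁ → F) →ₗ[F] (ιS → F) := fun i =>
    { toFun := fun u => pure u (w i)
      map_add' := fun a b => by
        simp only [pure, ← Matrix.mulVec_add]
        congr 1; funext p; simp [add_mul]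
      map_smul' := fun s a => by
        simp only [pure, RingHom.id_apply, ← Matrix.mulVec_smul]
        congr 1; funext p; simp [mul_assoc] }
  have hL : ∀ i j u u', sympForm m F (L i u) (L j u') = if i = j then c₀ * c * f₁ u u' else 0 := by
    intro i j u u'
    show sympForm m F (pure u (w i)) (pure u' (w j)) = _
    rw [hpure, hw]
    split_ifs <;> ring
  have hz1 : ∀ u, (∀ u', f₁ u u' = 0) → u = 0 := fun u h => by
    by_contra hu
    obtain ⟨-, x, hx⟩ := h₁.nondegenerate u hu
    exact hx (h x)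
  have hinj : ∀ i, Function.Injective (L i) := fun i => by
    rw [← LinearMap.ker_eq_bot, LinearMap.ker_eq_bot']
    intro u hu
    refine hz1 u fun u' => ?_
    have := hL i i u u'
    rw [if_pos rfl, hu, sympForm_zero_left] at this
    exact (mul_eq_zero.mp this.symm).resolve_left (mul_ne_zero hc₀ hc)
  let D : Fin 3 → Submodule F (ιS → F) := fun i => LinearMap.range (L i)
  have hfin : ∀ i, Module.finrank F (D i) = n₁ := fun i => by
    show Module.finrank F (LinearMap.range (L i)) = _
    rw [LinearMap.finrank_range_of_inj (hinj i), Module.finrank_fintype_fun_eq_card, Fintype.card_fin]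
  have horth : ∀ i j, i ≠ j → AreOrthogonalFor (sympForm m F) (D i) (D j) := by
    rintro i j hij _ ⟨u, rfl⟩ _ ⟨u', rfl⟩
    rw [hL, if_neg hij]
  have hnd : ∀ i, IsNondegenerateOn (sympForm m F) (D i) := by
    rintro i _ ⟨u, rfl⟩ hne
    have hu : u ≠ 0 := fun h => hne (by rw [h, map_zero])
    obtain ⟨⟨x, hx⟩, ⟨x', hx'⟩⟩ := h₁.nondegenerate u hu
    exact ⟨⟨L i x, ⟨x, rfl⟩, by rw [hL, if_pos rfl]; exact mul_ne_zero (mul_ne_zero hc₀ hc) hx⟩,
      ⟨L i x', ⟨x', rfl⟩, by rw [hL, if_pos rfl]; exact mul_ne_zero (mul_ne_zero hc₀ hc) hx'⟩⟩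
  have hperp : ∀ i, ∀ y ∈ D i, y ∈ (⨆ j ≠ i, D j) → y = 0 := by
    intro i y hy hy'
    by_contra hy0
    obtain ⟨-, z, hz, hzne⟩ := hnd i y hy hy0
    apply hzne
    clear hy0 hy hzne
    induction hy' using Submodule.iSup_induction' with
    | mem j u hu =>
      by_cases hj : j ≠ i
      · rw [iSup_pos hj] at hu
        exact horth j i hj u hu z hz
      · rw [iSup_neg hj, Submodule.mem_bot] at hu
        rw [hu, sympForm_zero_left]
    | zero => exact sympForm_zero_left _
    | add a b _ _ ha hb => rw [sympForm_add_left, ha, hb, add_zero]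
  have hindep : iSupIndep D := fun i => Submodule.disjoint_def.mpr (hperp i)
  have htop : iSup D = ⊤ := by
    refine Submodule.eq_top_of_finrank_eq ?_
    let Ψ : (Π i, D i) →ₗ[F] (ιS → F) :=
      { toFun := fun x => ∑ i, (x i : ιS → F)
        map_add' := fun x y => by simp [Finset.sum_add_distrib]
        map_smul' := fun s x => by simp [Finset.smul_sum] }
    have hΨ : Function.Injective Ψ := by
      rw [← LinearMap.ker_eq_bot, LinearMap.ker_eq_bot']
      intro x hx
      funext i
      apply Subtype.ext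
      refine hperp i _ (x i).2 ?_
      have hsum : ∑ j ∈ Finset.univ.erase i, (x j : ιS → F) = -(x i : ιS → F) := by
        refine eq_neg_of_add_eq_zero_right ?_
        rw [Finset.add_sum_erase Finset.univ (fun j => (x j : ιS → F)) (Finset.mem_univ i)]
        exact hx
      rw [← neg_neg (x i : ιS → F), ← hsum]
      exact Submodule.neg_mem _ (Submodule.sum_mem _ fun j hj =>
        Submodule.mem_iSup_of_mem j (Submodule.mem_iSup_of_mem (Finset.mem_erase.mp hj).1 (x j).2))
    have hle : LinearMap.range Ψ ≤ iSup D := by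
      rintro _ ⟨x, rfl⟩
      show ∑ i, (x i : ιS → F) ∈ iSup D
      exact Submodule.sum_mem _ fun i _ => Submodule.mem_iSup_of_mem i (x i).2
    have h := Submodule.finrank_mono hle
    rw [LinearMap.finrank_range_of_inj hΨ, Module.finrank_pi_fintype] at h
    simp only [hfin, Finset.sum_const, Finset.card_univ, Fintype.card_fin, smul_eq_mul] at h
    have hcard := Fintype.card_congr e
    rw [Fintype.card_prod, Fintype.card_fin, Fintype.card_fin] at hcard
    have hle2 := Submodule.finrank_le (iSup D)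
    rw [Module.finrank_fintype_fun_eq_card] at hle2 ⊢
    omega
  refine ⟨D, ⟨⟨by norm_num, hn, hfin, hindep, htop⟩, hnd, horth⟩, ?_⟩
  rintro g ⟨⟨k', ⟨k, ⟨a, b, hab⟩, rfl⟩, rfl⟩, hg⟩
  set g := MulAut.conj P (glReindex e.symm k) with hgdef
  have hact : ∀ u x, (g : Matrix ιS ιS F) *ᵥ pure u x =
      pure ((a : Matrix (Fin n₁) (Fin n₁) F) *ᵥ u) ((b : Matrix (Fin 3) (Fin 3) F) *ᵥ x) := by
    intro u x
    have hval : (g : Matrix ιS ιS F) =
        (P : Matrix ιS ιS F) * (k : Matrix _ _ F).submatrix e e * ((P⁻¹ : GL ιS F) : Matrix ιS ιS F) := by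
      simp [hgdef, glReindex, Matrix.reindex_apply]
    simp only [pure]
    rw [hval, Matrix.mulVec_mulVec, mul_assoc, Units.inv_mul, mul_one, ← Matrix.mulVec_mulVec]
    congr 1
    funext i
    simp only [Matrix.mulVec, dotProduct, Matrix.submatrix_apply, Function.comp_apply, hab, kroneckerMap_apply,
      Finset.sum_mul, Finset.mul_sum]
    rw [e.sum_comp (fun p => (a : Matrix (Fin n₁) (Fin n₁) F) (e i).1 p.1 * (b : Matrix (Fin 3) (Fin 3) F) (e i).2 p.2 *
      (u p.1 * x p.2)), Fintype.sum_prod_type, Finset.sum_comm]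
    refine Finset.sum_congr rfl fun q _ => Finset.sum_congr rfl fun p _ => ?_
    ring
  obtain ⟨u₀, hu₀⟩ : ∃ u : Fin n₁ → F, u ≠ 0 := ⟨Pi.single ⟨0, hn⟩ 1, by simp⟩
  obtain ⟨-, u₁, hu₁⟩ := h₁.nondegenerate u₀ hu₀
  set α := f₁ ((a : Matrix (Fin n₁) (Fin n₁) F) *ᵥ u₀) ((a : Matrix (Fin n₁) (Fin n₁) F) *ᵥ u₁) with hα
  set bw : Fin 3 → (Fin 3 → F) := fun i => (b : Matrix (Fin 3) (Fin 3) F) *ᵥ w i with hbw
  have hkey : ∀ i j, α * f₂ (bw i) (bw j) = if i = j then c * f₁ u₀ u₁ else 0 := by
    intro i j
    have h : sympForm m F ((g : Matrix ιS ιS F) *ᵥ pure u₀ (w i)) ((g : Matrix ιS ιS F) *ᵥ pure u₁ (w j)) =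
        sympForm m F (pure u₀ (w i)) (pure u₁ (w j)) := hg _ _
    rw [hact, hact, hpure, hpure, hw] at h
    have h' := mul_left_cancel₀ hc₀ h
    rw [hα, hbw, h']
    split_ifs <;> ring
  have hα0 : α ≠ 0 := fun h0 => by
    have := hkey 0 0
    rw [h0, zero_mul, if_pos rfl] at this
    exact mul_ne_zero hc hu₁ this.symm
  set μ := f₁ u₀ u₁ / α with hμ
  have hbb : ∀ i j, f₂ (bw i) (bw j) = if i = j then c * μ else 0 := fun i j => by
    refine mul_left_cancel₀ hα0 ((hkey i j).trans ?_)
    split_ifs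
    · rw [hμ]; field_simp
    · rw [mul_zero]
  let β : Matrix (Fin 3) (Fin 3) F := Matrix.of fun j i => c⁻¹ * f₂ (bw i) (w j)
  have hexp : ∀ i, bw i = ∑ j, β j i • w j := by
    intro i
    have hwli : LinearIndependent F w := by
      rw [Fintype.linearIndependent_iff]
      intro s hs l
      have h0 : f₂ (∑ j, s j • w j) (w l) = 0 := by
        rw [hs, show (0 : Fin 3 → F) = (0 : F) • (0 : Fin 3 → F) from (zero_smul F _).symm, h₂.bilinear.smul_left,
          zero_mul]
      rw [Fin.sum_univ_three, h₂.bilinear.add_left, h₂.bilinear.add_left, h₂.bilinear.smul_left,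
        h₂.bilinear.smul_left, h₂.bilinear.smul_left, hw, hw, hw] at h0
      fin_cases l <;> simp [hc] at h0 <;> exact h0
    let bs := basisOfLinearIndependentOfCardEqFinrank hwli (by simp)
    have hbs : ∀ j, bs j = w j := fun j => by simp [bs]
    conv_lhs => rw [← bs.sum_repr (bw i)]
    refine Finset.sum_congr rfl fun j _ => ?_
    rw [hbs]
    congr 1
    show _ = c⁻¹ * f₂ (bw i) (w j)
    conv_rhs => rw [← bs.sum_repr (bw i), Fin.sum_univ_three]
    rw [h₂.bilinear.add_left, h₂.bilinear.add_left, h₂.bilinear.smul_left, h₂.bilinear.smul_left,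
      h₂.bilinear.smul_left, hbs, hbs, hbs, hw, hw, hw]
    fin_cases j <;> simp <;> field_simp
  have hcols : ∀ i j, ∑ l, β l i * β l j = if i = j then μ else 0 := by
    intro i j
    have h : ∑ l, β l i * f₂ (w l) (bw j) = if i = j then c * μ else 0 := by
      rw [← hbb i j, Fin.sum_univ_three]
      conv_rhs => rw [hexp i, Fin.sum_univ_three, h₂.bilinear.add_left, h₂.bilinear.add_left,
        h₂.bilinear.smul_left, h₂.bilinear.smul_left, h₂.bilinear.smul_left]
    refine mul_left_cancel₀ hc ?_
    rw [Finset.mul_sum]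
    calc ∑ l, c * (β l i * β l j) = ∑ l, β l i * f₂ (w l) (bw j) := Finset.sum_congr rfl fun l _ => by
          rw [show β l j = c⁻¹ * f₂ (bw j) (w l) from rfl, h₂.symm (bw j)]
          field_simp
      _ = _ := by rw [h]; split_ifs <;> simp
  have hββ : βᵀ * β = μ • 1 := by
    ext i j
    simp only [Matrix.mul_apply, Matrix.transpose_apply, hcols, Matrix.smul_apply, Matrix.one_apply, smul_eq_mul,
      mul_ite, mul_one, mul_zero]
  have hμ1 : μ = 1 := by
    have hd := congrArg Matrix.det hββ
    rw [Matrix.det_mul, Matrix.det_transpose, Matrix.det_smul, Matrix.det_one, mul_one, Fintype.card_fin] at hd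
    have hμ0 : μ ≠ 0 := div_ne_zero hu₁ hα0
    have hd0 : β.det ≠ 0 := fun h0 => by
      rw [h0, mul_zero] at hd
      exact pow_ne_zero 3 hμ0 hd.symm
    have hμ2 : μ ^ 2 = 1 := by
      have := FiniteField.pow_card_sub_one_eq_one μ hμ0
      rwa [hq] at this
    have hdd : β.det ^ 2 = 1 := by
      have := FiniteField.pow_card_sub_one_eq_one _ hd0
      rwa [hq] at this
    linear_combination hdd - μ * hμ2 - hd
  have hmono : ∀ i, ∃ j, β j i ≠ 0 ∧ ∀ l, l ≠ j → β l i = 0 := by
    intro i
    have h := hcols i i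
    rw [if_pos rfl, hμ1, Fin.sum_univ_three] at h
    have hsq : ∀ x : F, x = 0 ∨ x * x = 1 := fun x => by
      by_cases hx : x = 0
      · exact Or.inl hx
      · right
        have := FiniteField.pow_card_sub_one_eq_one x hx
        rwa [hq, pow_two] at this
    rcases hsq (β 0 i) with h0 | h0 <;> rcases hsq (β 1 i) with h1 | h1 <;> rcases hsq (β 2 i) with h2 | h2
    · exfalso; rw [h0, h1, h2] at h; simp at h
    · exact ⟨2, fun z => by simp [z] at h2, fun l hl => by fin_cases l <;> first | assumption | exact absurd rfl hl⟩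
    · exact ⟨1, fun z => by simp [z] at h1, fun l hl => by fin_cases l <;> first | assumption | exact absurd rfl hl⟩
    · exfalso; rw [h0, h1, h2, mul_zero, zero_add] at h; exact one_ne_zero (α := F) (by linear_combination h)
    · exact ⟨0, fun z => by simp [z] at h0, fun l hl => by fin_cases l <;> first | assumption | exact absurd rfl hl⟩
    · exfalso; rw [h0, h1, h2, mul_zero, add_zero] at h; exact one_ne_zero (α := F) (by linear_combination h)
    · exfalso; rw [h0, h1, h2, mul_zero, add_zero] at h; exact one_ne_zero (α := F) (by linear_combination h)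
    · exfalso; rw [h0, h1, h2] at h; exact one_ne_zero (α := F) (by linear_combination h3 - h)
  choose σ hσ0 hσ using hmono
  have hσinj : Function.Injective σ := by
    intro i j hij
    by_contra hne
    have h := hcols i j
    rw [if_neg hne, Finset.sum_eq_single (σ i) (fun l _ hl => by rw [hσ i l hl, zero_mul]) (by simp)] at h
    exact mul_ne_zero (hσ0 i) (hij ▸ hσ0 j) h
  refine ⟨Equiv.ofBijective σ ⟨hσinj, Finite.surjective_of_injective hσinj⟩, fun i => ?_⟩
  show (D i).map (Matrix.toLin' (g : Matrix ιS ιS F)) = D (σ i)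
  refine Submodule.eq_of_le_of_finrank_eq ?_ ?_
  · rintro _ ⟨_, ⟨u, rfl⟩, rfl⟩
    rw [Matrix.toLin'_apply]
    refine ⟨β (σ i) i • ((a : Matrix (Fin n₁) (Fin n₁) F) *ᵥ u), ?_⟩
    show pure _ (w (σ i)) = (g : Matrix ιS ιS F) *ᵥ pure u (w i)
    rw [hact, show (b : Matrix (Fin 3) (Fin 3) F) *ᵥ w i = β (σ i) i • w (σ i) from
      (hexp i).trans (Finset.sum_eq_single (σ i) (fun l _ hl => by rw [hσ i l hl, zero_smul]) (by simp))]
    simp only [pure]
    congr 1
    funext p
    simp only [Function.comp_apply, Pi.smul_apply, smul_eq_mul]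
    ring
  · have hginj : Function.Injective (Matrix.toLin' (g : Matrix ιS ιS F)) := by
      intro x y h
      rw [Matrix.toLin'_apply, Matrix.toLin'_apply] at h
      have h' := congrArg (fun u => ((g⁻¹ : GL ιS F) : Matrix ιS ιS F) *ᵥ u) h
      simpa using h'
    rw [← (Submodule.equivMapOfInjective _ hginj (D i)).finrank_eq, hfin, hfin]

end Cfsg.Agent.Lib.MaxClass
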