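import Mathlib
import Cfsg.Prelude.Def_GeometricClasses
import Cfsg.Agent.Lib.MaxClass.PauliTensor
import Cfsg.Agent.Lib.MaxClass.SympSmall

/-!
Two reductions for the symplectic groups: a tensor product with a four-dimensional orthogonal space of plus
type is a threefold tensor power, and over three elements the stabiliser of a tensor power of planes
normalises a group of symplectic type.
-/

set_option autoImplicit false
set_option linter.style.haveILetI false
set_option linter.unusedSectionVars false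

namespace Cfsg.Agent.Lib.MaxClass.SympTensorPlus

open Cfsg Cfsg.Geo Matrix
open Cfsg.Agent.Lib.Aschbacher Cfsg.Agent.Lib.MaxClass
open scoped Kronecker

variable {F : Type*} [Field F] {m : ℕ}

local notation "ιS" => (Fin m ⊕ Fin m)
local notation "M₂" => Matrix (Fin 2) (Fin 2) F

/-- The alternating two-by-two matrix. -/
def jTwo (F : Type*) [Field F] : Matrix (Fin 2) (Fin 2) F := !![0, 1; -1, 0]

lemma formOfGram_id {κ : Type} [Fintype κ] (G : Matrix κ κ F) (x y : κ → F) :
    formOfGram id G x y = x ⬝ᵥ (G *ᵥ y) := by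
  simp [formOfGram, dotProduct, Matrix.mulVec, Finset.mul_sum, mul_assoc]

theorem gramMatrix_symp_two {f₁ : (Fin 2 → F) → (Fin 2 → F) → F} (h : IsSymplecticForm f₁) :
    ∃ d : F, d ≠ 0 ∧ gramMatrix f₁ = d • jTwo F := by
  refine ⟨gramMatrix f₁ 0 1, fun h0 => ?_, ?_⟩
  · obtain ⟨-, x, hx⟩ := h.nondegenerate (Pi.single 0 1) (by simp)
    apply hx
    rw [bilinear_eq_sum h.bilinear]
    have h1 : gramMatrix f₁ 0 0 = 0 := h.alternating _
    have h2 : gramMatrix f₁ 1 0 = -gramMatrix f₁ 0 1 := h.skew _ _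
    simp [Fin.sum_univ_two, h1, h2, h0]
  · ext i j
    fin_cases i <;> fin_cases j
    · simpa [jTwo, gramMatrix] using h.alternating _
    · simp [jTwo]
    · simpa [jTwo, gramMatrix] using h.skew _ _
    · simpa [jTwo, gramMatrix] using h.alternating _

theorem transpose_mul_jTwo_mul (a : Matrix (Fin 2) (Fin 2) F) : aᵀ * jTwo F * a = a.det • jTwo F := by
  ext i j
  fin_cases i <;> fin_cases j <;> simp [jTwo, Matrix.mul_apply, Fin.sum_univ_two, Matrix.det_fin_two] <;> ring

/-- Over three elements the stabiliser of a symplectic tensor power of planes normalises a Pauli group. -/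
theorem wreath_le_pauliNormalizer [Fintype F] [CharP F 3] (hq : Fintype.card F = 3) {t : ℕ}
    {e : ιS ≃ (Fin t → Fin 2)} {P : GL ιS F} {f₁ : (Fin 2 → F) → (Fin 2 → F) → F}
    (hf₁ : IsSymplecticForm f₁) (hstr : IsTensorPowerFormStructure id (sympForm m F) f₁ e P) :
    tensorWreathSubgroup 2 t e P ≤ subgroupNormalizer (PauliTensor.pauliGroup (fun _ => true) e P) ∧
      PauliTensor.pauliGroup (fun _ => true) e P ≤ similarityGroup (sympForm m F) := by
  classical
  refine ⟨?_, ?_⟩
  · rintro g ⟨k', ⟨k, hk, rfl⟩, rfl⟩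
    obtain ⟨π, gs, hk⟩ := exists_monoM hk
    have hval : ((MulAut.conj P (glReindex e.symm k) : GL ιS F) : Matrix ιS ιS F) =
        framed e P (k : Matrix (Fin t → Fin 2) (Fin t → Fin 2) F) := by
      simp [glReindex, Matrix.reindex_apply, framed_apply]
    refine PauliTensor.mem_normalizer_of_conj _ e P fun x => ?_
    have hbij : Function.Bijective (PauliTensor.toF (F := F)) :=
      (Fintype.bijective_iff_injective_and_card _).mpr ⟨PauliTensor.toF_injective, by rw [hq, ZMod.card]⟩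
    have hstep : ∀ i, ∃ (s : F) (y : Fin 4), (s = 1 ∨ s = -1) ∧
        (gs i : Matrix (Fin 2) (Fin 2) F) * (PauliTensor.pm true (x (π i))).map PauliTensor.toF =
          s • ((PauliTensor.pm true y).map PauliTensor.toF * (gs i : Matrix (Fin 2) (Fin 2) F)) := by
      intro i
      choose a ha using fun p : Fin 2 × Fin 2 => hbij.2 ((gs i : Matrix (Fin 2) (Fin 2) F) p.1 p.2)
      set A : Matrix (Fin 2) (Fin 2) (ZMod 3) := !![a (0, 0), a (0, 1); a (1, 0), a (1, 1)] with hA
      have hAg : A.map PauliTensor.toF = (gs i : Matrix (Fin 2) (Fin 2) F) := by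
        ext p q
        fin_cases p <;> fin_cases q <;> simp [hA, ha]
      rcases PauliTensor.pm_true_normal_entries (a (0, 0)) (a (0, 1)) (a (1, 0)) (a (1, 1)) with h | h
      · exfalso
        have hdet : (A.map PauliTensor.toF).det = (0 : F) := by
          rw [← RingHom.mapMatrix_apply, ← RingHom.map_det, Matrix.det_fin_two]
          simp [hA, h]
        rw [hAg] at hdet
        exact ((Matrix.isUnit_iff_isUnit_det _).mp (gs i).isUnit).ne_zero hdet
      · obtain ⟨y, hy⟩ := h (x (π i))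
        rw [← hA] at hy
        rcases hy with hy | hy
        · exact ⟨1, y, Or.inl rfl, by rw [one_smul, ← hAg, ← Matrix.map_mul, ← Matrix.map_mul, hy]⟩
        · refine ⟨-1, y, Or.inr rfl, ?_⟩
          rw [neg_one_smul, ← hAg, ← Matrix.map_mul, ← Matrix.map_mul, hy]
          ext p q
          simp [Matrix.map_apply, Matrix.mul_apply]
    choose s y hs hy using hstep
    refine ⟨∏ i, s i, y, ?_, ?_⟩
    · clear hy
      induction (Finset.univ : Finset (Fin t)) using Finset.induction with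
      | empty => simp
      | insert a S ha ih =>
        rw [Finset.prod_insert ha]
        rcases hs a with h | h <;> rcases ih with h' | h' <;> simp [h, h']
    · show ((MulAut.conj P (glReindex e.symm k) : GL ιS F) : Matrix ιS ιS F) * _ =
        _ * ((MulAut.conj P (glReindex e.symm k) : GL ιS F) : Matrix ιS ιS F)
      rw [hval, PauliTensor.pB, PauliTensor.pB, ← map_smul, ← map_mul, ← map_mul]
      congr 1
      rw [hk, PauliTensor.pT, PauliTensor.pT, Matrix.smul_mul, ← monoM_refl, ← monoM_refl, monoM_mul, monoM_mul]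
      simp only [Equiv.trans_refl, Equiv.refl_trans, Equiv.refl_apply, hy]
      ext u v
      simp [monoM, Finset.prod_mul_distrib]
  · obtain ⟨c, hc, hf⟩ := hstr
    obtain ⟨d, hd, hG⟩ := gramMatrix_symp_two hf₁
    refine PauliTensor.le_similarityGroup _ e P (c := c * d ^ t) fun u v => ?_
    rw [hf]
    have hpg : (PauliTensor.pg true).map (PauliTensor.toF (F := F)) = jTwo F := by
      ext i j
      fin_cases i <;> fin_cases j <;> simp [PauliTensor.pg, jTwo]
    simp only [hpg, hG, dotProduct, Matrix.mulVec, pureTensor, Matrix.of_apply, id_eq, Matrix.smul_apply, smul_eq_mul,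
      Finset.prod_mul_distrib, Finset.prod_const, Finset.card_univ, Fintype.card_fin, Finset.mul_sum]
    refine Finset.sum_congr rfl fun a _ => Finset.sum_congr rfl fun b _ => ?_
    ring

/-- The similitudes of the determinant on two-by-two matrices. -/
theorem similitude_det_two (h2 : (2 : F) ≠ 0) {L : Matrix (Fin 2 × Fin 2) (Fin 2 × Fin 2) F} {μ : F} (hμ : μ ≠ 0)
    (hL : Lᵀ * (jTwo F ⊗ₖ jTwo F) * L = μ • (jTwo F ⊗ₖ jTwo F)) :
    ∃ p q : GL (Fin 2) F,
      (∀ x y, L x y = (p : Matrix (Fin 2) (Fin 2) F) x.1 y.1 * (q : Matrix (Fin 2) (Fin 2) F) x.2 y.2) ∨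
      (∀ x y, L x y = (p : Matrix (Fin 2) (Fin 2) F) x.1 y.2 * (q : Matrix (Fin 2) (Fin 2) F) x.2 y.1) := by
  classical
  let vec : M₂ → (Fin 2 × Fin 2 → F) := fun X p => X p.1 p.2
  let T : M₂ → M₂ := fun X => Matrix.of fun i j => (L *ᵥ vec X) (i, j)
  have hTadd : ∀ X Y, T (X + Y) = T X + T Y := fun X Y => by
    ext i j
    show (L *ᵥ vec (X + Y)) (i, j) = (L *ᵥ vec X) (i, j) + (L *ᵥ vec Y) (i, j)
    rw [show vec (X + Y) = vec X + vec Y from rfl, Matrix.mulVec_add, Pi.add_apply]
  have hTsmul : ∀ (c : F) X, T (c • X) = c • T X := fun c X => by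
    ext i j
    show (L *ᵥ vec (c • X)) (i, j) = c • (L *ᵥ vec X) (i, j)
    rw [show vec (c • X) = c • vec X from rfl, Matrix.mulVec_smul, Pi.smul_apply]
  have hQ : ∀ X : M₂, vec X ⬝ᵥ ((jTwo F ⊗ₖ jTwo F) *ᵥ vec X) = 2 * X.det := fun X => by
    simp [vec, dotProduct, Matrix.mulVec, Fintype.sum_prod_type, Fin.sum_univ_two, jTwo, Matrix.det_fin_two]
    ring
  have hdetT : ∀ X : M₂, (T X).det = μ * X.det := by
    intro X
    refine mul_left_cancel₀ h2 ?_
    rw [← hQ (T X), show vec (T X) = L *ᵥ vec X from rfl, Matrix.mulVec_mulVec, Matrix.dotProduct_mulVec,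
      ← Matrix.vecMul_transpose, Matrix.vecMul_vecMul, ← mul_assoc, hL, Matrix.vecMul_smul, smul_dotProduct,
      ← Matrix.dotProduct_mulVec, hQ, smul_eq_mul]
    ring
  have hmdet : (T 1).det ≠ 0 := by rw [hdetT, Matrix.det_one, mul_one]; exact hμ
  set m₁ : GL (Fin 2) F := ((Matrix.isUnit_iff_isUnit_det _).mpr (isUnit_iff_ne_zero.mpr hmdet)).unit with hm₁
  have hm₁v : (m₁ : M₂) = T 1 := rfl
  let S : M₂ → M₂ := fun X => ((m₁⁻¹ : GL (Fin 2) F) : M₂) * T X
  have hS1 : S 1 = 1 := by show ((m₁⁻¹ : GL (Fin 2) F) : M₂) * T 1 = 1; rw [← hm₁v, Units.inv_mul]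
  have hTS : ∀ X, T X = (m₁ : M₂) * S X := fun X => by
    show T X = (m₁ : M₂) * (((m₁⁻¹ : GL (Fin 2) F) : M₂) * T X)
    rw [← mul_assoc, Units.mul_inv, one_mul]
  have hSdet : ∀ X, (S X).det = X.det := by
    intro X
    have h1 : ((m₁⁻¹ : GL (Fin 2) F) : M₂).det * μ = 1 := by
      rw [show μ = (m₁ : M₂).det by rw [hm₁v, hdetT, Matrix.det_one, mul_one], ← Matrix.det_mul, Units.inv_mul,
        Matrix.det_one]
    show (_ * T X).det = _
    rw [Matrix.det_mul, hdetT, ← mul_assoc, h1, one_mul]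
  have hSadd : ∀ X Y, S (X + Y) = S X + S Y := fun X Y => by simp only [S, hTadd, mul_add]
  have hSsmul : ∀ (c : F) X, S (c • X) = c • S X := fun c X => by simp only [S, hTsmul, Matrix.mul_smul]
  have hdet1 : ∀ Y : M₂, (Y + 1).det = Y.det + (Y 0 0 + Y 1 1) + 1 := fun Y => by
    simp [Matrix.det_fin_two]; ring
  have hStr : ∀ X, S X 0 0 + S X 1 1 = X 0 0 + X 1 1 := fun X => by
    have h := hSdet (X + 1)
    rw [hSadd, hS1, hdet1, hdet1, hSdet] at h
    linear_combination h
  -- conjugate the image of the first idempotent back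
  set E := S (Matrix.single 0 0 1) with hE
  have hEtr : E 1 1 = 1 - E 0 0 := by
    have := hStr (Matrix.single 0 0 1)
    simp at this
    linear_combination this
  have hEdet : E 0 0 * (1 - E 0 0) = E 0 1 * E 1 0 := by
    have := hSdet (Matrix.single 0 0 1)
    rw [← hE, Matrix.det_fin_two, Matrix.det_fin_two, hEtr] at this
    simp at this
    linear_combination this
  obtain ⟨a, ha⟩ : ∃ a : GL (Fin 2) F, E * (a : M₂) = (a : M₂) * Matrix.single 0 0 1 := by
    by_cases hs : E 0 0 = 0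
    · have htr : E 0 1 * E 1 0 = 0 := by rw [← hEdet, hs, zero_mul]
      refine ⟨Matrix.GeneralLinearGroup.mkOfDetNeZero !![E 0 1, 1; 1, -E 1 0] (by
        rw [Matrix.det_fin_two_of]; intro h; exact one_ne_zero (α := F) (by linear_combination -htr - h)), ?_⟩
      ext i j
      fin_cases i <;> fin_cases j <;>
        simp [Matrix.mul_apply, Fin.sum_univ_two, hs, hEtr, Matrix.single_apply] <;>
        first
          | exact mul_eq_zero.mp htr
          | exact (mul_eq_zero.mp htr).symm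
          | linear_combination htr
          | linear_combination -htr
    · refine ⟨Matrix.GeneralLinearGroup.mkOfDetNeZero !![E 0 0, -E 0 1; E 1 0, E 0 0] (by
        rw [Matrix.det_fin_two_of]; intro h; exact hs (by linear_combination h + hEdet)), ?_⟩
      ext i j
      fin_cases i <;> fin_cases j <;>
        simp [Matrix.mul_apply, Fin.sum_univ_two, hEtr, Matrix.single_apply] <;>
        first
          | ring1
          | linear_combination hEdet
          | linear_combination -hEdet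
  let R : M₂ → M₂ := fun X => ((a⁻¹ : GL (Fin 2) F) : M₂) * S X * (a : M₂)
  have hSR : ∀ X, S X = (a : M₂) * R X * ((a⁻¹ : GL (Fin 2) F) : M₂) := fun X => by
    show S X = (a : M₂) * (((a⁻¹ : GL (Fin 2) F) : M₂) * S X * (a : M₂)) * ((a⁻¹ : GL (Fin 2) F) : M₂)
    rw [← mul_assoc, ← mul_assoc, Units.mul_inv, one_mul, mul_assoc, Units.mul_inv, mul_one]
  have hRadd : ∀ X Y, R (X + Y) = R X + R Y := fun X Y => by simp only [R, hSadd, mul_add, add_mul]
  have hRsmul : ∀ (c : F) X, R (c • X) = c • R X := fun c X => by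
    simp only [R, hSsmul, Matrix.mul_smul, Matrix.smul_mul]
  have hRdet : ∀ X, (R X).det = X.det := fun X => by
    simp only [R, Matrix.det_units_conj', hSdet]
  have hR1 : R 1 = 1 := by simp only [R, hS1, mul_one, Units.inv_mul]
  have hR00 : R (Matrix.single 0 0 1) = Matrix.single 0 0 1 := by
    show ((a⁻¹ : GL (Fin 2) F) : M₂) * E * (a : M₂) = _
    rw [mul_assoc, ha, ← mul_assoc, Units.inv_mul, one_mul]
  have hRtr : ∀ X, R X 0 0 + R X 1 1 = X 0 0 + X 1 1 := fun X => by
    have h := hRdet (X + 1)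
    rw [hRadd, hR1, hdet1, hdet1, hRdet] at h
    linear_combination h
  have hoff : ∀ X : M₂, X 0 0 = 0 → X 1 1 = 0 → R X 0 0 = 0 ∧ R X 1 1 = 0 := by
    intro X h0 h1
    have h := hRdet (X + Matrix.single 0 0 1)
    rw [hRadd, hR00, Matrix.det_fin_two, Matrix.det_fin_two] at h
    have h' := hRdet X
    rw [Matrix.det_fin_two, Matrix.det_fin_two] at h'
    simp [h0, h1] at h h'
    have h11 : R X 1 1 = 0 := by linear_combination h - h'
    have h' := hRtr X
    rw [h0, h1, h11] at h'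
    exact ⟨by linear_combination h', h11⟩
  set Y := R (Matrix.single 0 1 1)
  set Z := R (Matrix.single 1 0 1)
  obtain ⟨hY0, hY1⟩ : Y 0 0 = 0 ∧ Y 1 1 = 0 := hoff _ (by simp) (by simp)
  obtain ⟨hZ0, hZ1⟩ : Z 0 0 = 0 ∧ Z 1 1 = 0 := hoff _ (by simp) (by simp)
  have hYd : Y 0 1 * Y 1 0 = 0 := by
    have h := hRdet (Matrix.single 0 1 1)
    rw [Matrix.det_fin_two, Matrix.det_fin_two] at h
    simp [hY0, hY1, Y] at h ⊢
    first | exact h | linear_combination -h
  have hZd : Z 0 1 * Z 1 0 = 0 := by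
    have h := hRdet (Matrix.single 1 0 1)
    rw [Matrix.det_fin_two, Matrix.det_fin_two] at h
    simp [hZ0, hZ1, Z] at h ⊢
    first | exact h | linear_combination -h
  have hYZ : Y 0 1 * Z 1 0 + Z 0 1 * Y 1 0 = 1 := by
    have h := hRdet (Matrix.single 0 1 1 + Matrix.single 1 0 1)
    rw [hRadd, Matrix.det_fin_two, Matrix.det_fin_two] at h
    change (Y + Z) 0 0 * (Y + Z) 1 1 - (Y + Z) 0 1 * (Y + Z) 1 0 = _ at h
    simp [hY0, hY1, hZ0, hZ1] at h
    linear_combination h - hYd - hZd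
  have hexp : ∀ X : M₂, R X = X 0 0 • Matrix.single 0 0 1 + X 0 1 • Y + X 1 0 • Z +
      X 1 1 • (1 - Matrix.single 0 0 1) := by
    intro X
    have hX : X = X 0 0 • Matrix.single 0 0 1 + X 0 1 • Matrix.single 0 1 1 + X 1 0 • Matrix.single 1 0 1 +
        X 1 1 • ((1 : M₂) + (-1 : F) • Matrix.single 0 0 1) := by
      ext i j
      fin_cases i <;> fin_cases j <;> simp
    conv_lhs => rw [hX]
    rw [hRadd, hRadd, hRadd, hRsmul, hRsmul, hRsmul, hRsmul, hRadd, hRsmul, hR00, hR1, neg_one_smul, ← sub_eq_add_neg]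
  have hfinal : ∃ p q : GL (Fin 2) F, (∀ X, T X = (p : M₂) * X * (q : M₂)) ∨ (∀ X, T X = (p : M₂) * Xᵀ * (q : M₂)) := by
    rcases mul_eq_zero.mp hYd with hy | hy
    · -- transposition
      rw [hy, zero_mul, zero_add] at hYZ
      have hy1 : Y 1 0 ≠ 0 := right_ne_zero_of_mul_eq_one hYZ
      have hz0 : Z 1 0 = 0 := (mul_eq_zero.mp hZd).resolve_left (left_ne_zero_of_mul_eq_one hYZ)
      let D : GL (Fin 2) F := Matrix.GeneralLinearGroup.mkOfDetNeZero !![1, 0; 0, Y 1 0]
        (by rw [Matrix.det_fin_two_of]; simp [hy1])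
      let D' : GL (Fin 2) F := Matrix.GeneralLinearGroup.mkOfDetNeZero !![1, 0; 0, Z 0 1]
        (by rw [Matrix.det_fin_two_of]; simp [left_ne_zero_of_mul_eq_one hYZ])
      have hR : ∀ X, R X = (D : M₂) * Xᵀ * (D' : M₂) := by
        intro X
        rw [hexp]
        ext i j
        fin_cases i <;> fin_cases j <;>
          simp [D, D', Matrix.mul_apply, Matrix.vecMul, dotProduct, Fin.sum_univ_two, hY0, hY1, hZ0, hZ1, hy, hz0] <;>
          first
            | ring1
            | linear_combination (X 1 1) * hYZ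
            | linear_combination -(X 1 1) * hYZ
      refine ⟨m₁ * a * D, D' * a⁻¹, Or.inr fun X => ?_⟩
      rw [hTS, hSR, hR, Units.val_mul, Units.val_mul, Units.val_mul]
      simp only [mul_assoc]
    · rw [hy, mul_zero, add_zero] at hYZ
      have hy1 : Y 0 1 ≠ 0 := left_ne_zero_of_mul_eq_one hYZ
      have hz0 : Z 0 1 = 0 := (mul_eq_zero.mp hZd).resolve_right (right_ne_zero_of_mul_eq_one hYZ)
      let D : GL (Fin 2) F := Matrix.GeneralLinearGroup.mkOfDetNeZero !![1, 0; 0, Z 1 0]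
        (by rw [Matrix.det_fin_two_of]; simp [right_ne_zero_of_mul_eq_one hYZ])
      let D' : GL (Fin 2) F := Matrix.GeneralLinearGroup.mkOfDetNeZero !![1, 0; 0, Y 0 1]
        (by rw [Matrix.det_fin_two_of]; simp [hy1])
      have hR : ∀ X, R X = (D : M₂) * X * (D' : M₂) := by
        intro X
        rw [hexp]
        ext i j
        fin_cases i <;> fin_cases j <;>
          simp [D, D', Matrix.mul_apply, Matrix.vecMul, dotProduct, Fin.sum_univ_two, hY0, hY1, hZ0, hZ1, hy, hz0] <;>
          first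
            | ring1
            | linear_combination (X 1 1) * hYZ
            | linear_combination -(X 1 1) * hYZ
      refine ⟨m₁ * a * D, D' * a⁻¹, Or.inl fun X => ?_⟩
      rw [hTS, hSR, hR, Units.val_mul, Units.val_mul, Units.val_mul]
      simp only [mul_assoc]
  obtain ⟨p, q, hpq⟩ := hfinal
  have hqt : IsUnit ((q : M₂)ᵀ) := (Matrix.isUnit_transpose (q : M₂)).mpr q.isUnit
  have hent : ∀ x y : Fin 2 × Fin 2, L x y = T (Matrix.single y.1 y.2 1) x.1 x.2 := by
    intro x y
    have hv : vec (Matrix.single y.1 y.2 1) = Pi.single y 1 := by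
      funext z
      obtain ⟨z1, z2⟩ := z
      obtain ⟨y1, y2⟩ := y
      simp [vec, Matrix.single_apply, Pi.single_apply, eq_comm]
    show _ = (L *ᵥ vec (Matrix.single y.1 y.2 1)) (x.1, x.2)
    rw [hv, Matrix.mulVec_single_one, Matrix.col_apply]
  refine ⟨p, hqt.unit, ?_⟩
  rcases hpq with h | h
  · exact Or.inl fun x y => by
      rw [hent, h, IsUnit.unit_spec, Matrix.transpose_apply]
      simp [Matrix.mul_apply, Fin.sum_univ_two, Matrix.single_apply]
      obtain ⟨y1, y2⟩ := y
      fin_cases y1 <;> fin_cases y2 <;> simp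
  · exact Or.inr fun x y => by
      rw [hent, h, IsUnit.unit_spec, Matrix.transpose_apply]
      simp [Matrix.mul_apply, Fin.sum_univ_two, Matrix.single_apply]
      obtain ⟨y1, y2⟩ := y
      fin_cases y1 <;> fin_cases y2 <;> simp

/-- A hyperbolic basis of a four-dimensional space of plus type. -/
theorem exists_hyperbolic_four (h2 : (2 : F) ≠ 0) {f₂ : (Fin 4 → F) → (Fin 4 → F) → F} (h : IsSymmetricForm f₂)
    (hplus : IsPlusTypeOn (fun v : Fin 4 → F => f₂ v v) ⊤) :
    ∃ u : Fin 2 × Fin 2 → (Fin 4 → F), ∀ x y, f₂ (u x) (u y) = (jTwo F ⊗ₖ jTwo F) x y := by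
  classical
  have hb := h.bilinear
  obtain ⟨U, -, hUs, hUd⟩ := hplus
  rw [finrank_top, Module.finrank_fintype_fun_eq_card, Fintype.card_fin] at hUd
  let b := Module.finBasisOfFinrankEq F U (show Module.finrank F U = 2 by omega)
  set u₀ : Fin 4 → F := (b 0 : Fin 4 → F) with hu₀
  set u₁ : Fin 4 → F := (b 1 : Fin 4 → F) with hu₁
  have hzero : ∀ v, f₂ v 0 = 0 := fun v => by
    rw [show (0 : Fin 4 → F) = (0 : F) • (0 : Fin 4 → F) from (zero_smul F _).symm, hb.smul_right, zero_mul]
  have hU : ∀ x ∈ U, ∀ y ∈ U, f₂ x y = 0 := by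
    intro x hx y hy
    have hxy : f₂ (x + y) (x + y) = 0 := hUs _ (U.add_mem hx hy)
    rw [hb.add_left, hb.add_right, hb.add_right, show f₂ x x = 0 from hUs x hx,
      show f₂ y y = 0 from hUs y hy, h.symm y x] at hxy
    exact (mul_eq_zero.mp (by linear_combination hxy : (2 : F) * f₂ x y = 0)).resolve_left h2
  let φ : (Fin 4 → F) →ₗ[F] Fin 2 → F :=
    { toFun := fun v => ![f₂ u₀ v, f₂ u₁ v]
      map_add' := fun x y => by ext i; fin_cases i <;> simp [hb.add_right]
      map_smul' := fun c x => by ext i; fin_cases i <;> simp [hb.smul_right] }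
  have hsurj : Function.Surjective φ := by
    rw [← LinearMap.range_eq_top]
    refine Submodule.eq_top_of_finrank_eq ?_
    have hker : LinearMap.ker φ ≤ U := by
      have hfinker : Module.finrank F (LinearMap.ker φ) + Module.finrank F (LinearMap.range φ) = 4 := by
        rw [add_comm, LinearMap.finrank_range_add_finrank_ker, Module.finrank_fintype_fun_eq_card, Fintype.card_fin]
      by_contra hnot
      -- a vector orthogonal to `U` outside `U` would give a three-dimensional orthogonal of a plane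
      obtain ⟨w, hw, hwU⟩ := SetLike.not_le_iff_exists.mp hnot
      have hw' : f₂ u₀ w = 0 ∧ f₂ u₁ w = 0 := ⟨congrFun (LinearMap.mem_ker.mp hw) 0, congrFun (LinearMap.mem_ker.mp hw) 1⟩
      let G : Matrix (Fin 4) (Fin 4) F := gramMatrix f₂
      let ψ : (Fin 4 → F) →ₗ[F] (Fin 4 → F) := Matrix.mulVecLin Gᵀ
      have hψ : ∀ v y, ψ v ⬝ᵥ y = f₂ v y := fun v y => by
        rw [bilinear_eq_sum hb]
        simp only [ψ, G, Matrix.mulVecLin_apply, dotProduct, Matrix.mulVec, Matrix.transpose_apply, gramMatrix,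
          Finset.sum_mul]
        rw [Finset.sum_comm]
        refine Finset.sum_congr rfl fun i _ => Finset.sum_congr rfl fun j _ => ?_
        ring
      have hψinj : Function.Injective ψ := by
        rw [← LinearMap.ker_eq_bot, LinearMap.ker_eq_bot']
        intro v hv
        by_contra hv0
        obtain ⟨-, x, hx⟩ := h.nondegenerate v hv0
        apply hx
        rw [← hψ, hv, zero_dotProduct]
      -- `U ⊔ ⟨w⟩` maps into the annihilator of `U`
      set W3 : Submodule F (Fin 4 → F) := U ⊔ F ∙ w with hW3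
      have hW3d : 3 ≤ Module.finrank F W3 := by
        have : U < W3 := lt_of_le_of_ne le_sup_left fun he => hwU (by
          rw [he]; exact Submodule.mem_sup_right (Submodule.mem_span_singleton_self w))
        have := Submodule.finrank_lt_finrank_of_lt this
        omega
      let χ : W3 →ₗ[F] Module.Dual F ((Fin 4 → F) ⧸ U) := LinearMap.mk₂ F
          (fun (x : W3) (y : (Fin 4 → F) ⧸ U) => Submodule.liftQ U
            ({ toFun := fun y => f₂ x y, map_add' := hb.add_right x, map_smul' := fun c y => by simp [hb.smul_right] } :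
              (Fin 4 → F) →ₗ[F] F) (by
              intro y hy
              rw [LinearMap.mem_ker]
              obtain ⟨x₁, hx₁, x₂, hx₂, hxx⟩ := Submodule.mem_sup.mp x.2
              show f₂ (x : Fin 4 → F) y = 0
              obtain ⟨s, rfl⟩ := Submodule.mem_span_singleton.mp hx₂
              rw [← hxx, hb.add_left, hb.smul_left, hU x₁ hx₁ y hy, zero_add]
              have hwy : f₂ w y = 0 := by
                have hrep := congrArg Subtype.val (b.sum_repr ⟨y, hy⟩)
                rw [Fin.sum_univ_two] at hrep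
                simp only [Submodule.coe_add, Submodule.coe_smul] at hrep
                rw [← hrep, hb.add_right, hb.smul_right, hb.smul_right, h.symm w, h.symm w, ← hu₀, ← hu₁, hw'.1,
                  hw'.2, mul_zero, mul_zero, add_zero]
              rw [hwy, mul_zero]) y)
          (fun x x' y => by
            induction y using Submodule.Quotient.induction_on with
            | _ z => simp [hb.add_left])
          (fun c x y => by
            induction y using Submodule.Quotient.induction_on with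
            | _ z => simp [hb.smul_left])
          (fun x y y' => map_add _ _ _)
          (fun c x y => map_smul _ _ _)
      have hχ : Function.Injective χ := by
        rw [← LinearMap.ker_eq_bot, LinearMap.ker_eq_bot']
        intro x hx
        by_contra hx0
        obtain ⟨-, z, hz⟩ := h.nondegenerate (x : Fin 4 → F) (fun hc => hx0 (Subtype.ext hc))
        apply hz
        have := LinearMap.congr_fun hx (Submodule.Quotient.mk z)
        simpa [χ] using this
      have := LinearMap.finrank_le_finrank_of_injective hχ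
      rw [Subspace.dual_finrank_eq] at this
      have hq := Submodule.finrank_quotient_add_finrank U
      rw [Module.finrank_fintype_fun_eq_card, Fintype.card_fin] at hq
      omega
    have h1 := Submodule.finrank_mono hker
    have h3 := LinearMap.finrank_range_add_finrank_ker φ
    have h4 := Submodule.finrank_le (LinearMap.range φ)
    rw [Module.finrank_fintype_fun_eq_card, Fintype.card_fin] at h3 h4 ⊢
    omega
  have h00 : f₂ u₀ u₀ = 0 := hU _ (b 0).2 _ (b 0).2
  have h01 : f₂ u₀ u₁ = 0 := hU _ (b 0).2 _ (b 1).2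
  have h11 : f₂ u₁ u₁ = 0 := hU _ (b 1).2 _ (b 1).2
  obtain ⟨w, hw⟩ := hsurj ![1, 0]
  obtain ⟨w', hw'⟩ := hsurj ![0, -1]
  have w0 : f₂ u₀ w = 1 := congrFun hw 0
  have w1 : f₂ u₁ w = 0 := congrFun hw 1
  have w'0 : f₂ u₀ w' = 0 := congrFun hw' 0
  have w'1 : f₂ u₁ w' = -1 := congrFun hw' 1
  set x₁ := w + (-(f₂ w w) / 2) • u₀ with hx₁
  set y₁ := w' + (-f₂ x₁ w') • u₀ with hy₁
  set y₂ := y₁ + (f₂ y₁ y₁ / 2) • u₁ with hy₂
  have a0 : f₂ u₀ x₁ = 1 := by rw [hx₁, hb.add_right, hb.smul_right, w0, h00, mul_zero, add_zero]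
  have a1 : f₂ u₁ x₁ = 0 := by rw [hx₁, hb.add_right, hb.smul_right, w1, h.symm u₁ u₀, h01, mul_zero, add_zero]
  have axx : f₂ x₁ x₁ = 0 := by
    rw [hx₁]
    simp only [hb.add_left, hb.add_right, hb.smul_left, hb.smul_right, h.symm w u₀, w0, h00]
    field_simp
    ring
  have b0 : f₂ u₀ y₁ = 0 := by rw [hy₁, hb.add_right, hb.smul_right, w'0, h00, mul_zero, add_zero]
  have b1 : f₂ u₁ y₁ = -1 := by rw [hy₁, hb.add_right, hb.smul_right, w'1, h.symm u₁ u₀, h01, mul_zero, add_zero]
  have bx : f₂ x₁ y₁ = 0 := by rw [hy₁, hb.add_right, hb.smul_right, h.symm x₁ u₀, a0]; ring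
  have c0 : f₂ u₀ y₂ = 0 := by rw [hy₂, hb.add_right, hb.smul_right, b0, h01, mul_zero, add_zero]
  have c1 : f₂ u₁ y₂ = -1 := by rw [hy₂, hb.add_right, hb.smul_right, b1, h11, mul_zero, add_zero]
  have cx : f₂ x₁ y₂ = 0 := by rw [hy₂, hb.add_right, hb.smul_right, bx, h.symm x₁ u₁, a1, mul_zero, add_zero]
  have cyy : f₂ y₂ y₂ = 0 := by
    rw [hy₂]
    simp only [hb.add_left, hb.add_right, hb.smul_left, hb.smul_right, h.symm y₁ u₁, b1, h11]
    field_simp
    ring
  refine ⟨fun p => ![![u₀, u₁], ![y₂, x₁]] p.1 p.2, ?_⟩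
  rintro ⟨p, q⟩ ⟨p', q'⟩
  fin_cases p <;> fin_cases q <;> fin_cases p' <;> fin_cases q' <;>
    simp [jTwo, h00, h01, h11, a0, a1, axx, c0, c1, cx, cyy, h.symm u₁ u₀, h.symm x₁ u₀, h.symm x₁ u₁,
      h.symm y₂ u₀, h.symm y₂ u₁, h.symm y₂ x₁]

/-- A symplectic tensor product with an orthogonal four-space of plus type is a threefold tensor power. -/
theorem tensor_plus_le_wreath (h2 : (2 : F) ≠ 0) {e : ιS ≃ Fin 2 × Fin 4} {P : GL ιS F}
    {f₁ : (Fin 2 → F) → (Fin 2 → F) → F} {f₂ : (Fin 4 → F) → (Fin 4 → F) → F}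
    (h₁ : IsSymplecticForm f₁) (h₂ : IsSymmetricForm f₂)
    (hplus : IsPlusTypeOn (fun v : Fin 4 → F => f₂ v v) ⊤)
    (hstr : IsTensorFormStructure id (sympForm m F) f₁ f₂ e P) :
    ∃ (e' : ιS ≃ (Fin 3 → Fin 2)) (P' : GL ιS F),
      IsTensorPowerFormStructure id (sympForm m F) f₁ e' P' ∧
      tensorProductSubgroup 2 4 e P ⊓ spGL m F ≤ tensorWreathSubgroup 2 3 e' P' := by
  classical
  obtain ⟨c, hc, hf⟩ := hstr
  obtain ⟨d, hd, hG1⟩ := gramMatrix_symp_two h₁
  obtain ⟨u, hu⟩ := exists_hyperbolic_four h2 h₂ hplus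
  set G2 := gramMatrix f₂ with hG2
  set JJ : Matrix (Fin 2 × Fin 2) (Fin 2 × Fin 2) F := jTwo F ⊗ₖ jTwo F with hJJ
  let e4 : Fin 4 ≃ Fin 2 × Fin 2 := (finProdFinEquiv (m := 2) (n := 2)).symm
  let Bm : Matrix (Fin 4) (Fin 4) F := Matrix.of fun i j => u (e4 j) i
  set JS : Matrix (Fin 4) (Fin 4) F := JJ.submatrix e4 e4 with hJS
  have hBG : Bmᵀ * G2 * Bm = JS := by
    ext i j
    rw [hJS, Matrix.submatrix_apply, ← hu, bilinear_eq_sum h₂.bilinear]
    simp only [Matrix.mul_apply, Matrix.transpose_apply, Bm, Matrix.of_apply, Finset.sum_mul, hG2, gramMatrix]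
    rw [Finset.sum_comm]
  have hJJ2 : JJ * JJ = 1 := by
    rw [hJJ, ← Matrix.mul_kronecker_mul, show jTwo F * jTwo F = (-1 : F) • 1 by
      ext i j; fin_cases i <;> fin_cases j <;> simp [jTwo, Matrix.mul_apply, Fin.sum_univ_two],
      Matrix.smul_kronecker, Matrix.kronecker_smul, Matrix.one_kronecker_one, smul_smul]
    simp
  have hJS2 : JS * JS = 1 := by rw [hJS, Matrix.submatrix_mul_equiv, hJJ2, Matrix.submatrix_one_equiv]
  obtain ⟨Bi, hBi⟩ : ∃ Bi : Matrix (Fin 4) (Fin 4) F, Bi * Bm = 1 :=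
    ⟨JS * Bmᵀ * G2, by rw [mul_assoc, mul_assoc, ← mul_assoc Bmᵀ, hBG, hJS2]⟩
  have hBi' : Bm * Bi = 1 := mul_eq_one_comm.mp hBi
  have hG2B : Biᵀ * JS * Bi = G2 := by
    calc Biᵀ * JS * Bi = Biᵀ * (Bmᵀ * G2 * Bm) * Bi := by rw [hBG]
      _ = (Bm * Bi)ᵀ * G2 * (Bm * Bi) := by rw [Matrix.transpose_mul]; simp only [mul_assoc]
      _ = G2 := by rw [hBi', Matrix.transpose_one, one_mul, mul_one]
  let W : GL (Fin 2 × Fin 4) F := ⟨(1 : Matrix (Fin 2) (Fin 2) F) ⊗ₖ Bm, (1 : Matrix (Fin 2) (Fin 2) F) ⊗ₖ Bi,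
    by rw [← Matrix.mul_kronecker_mul, one_mul, hBi', Matrix.one_kronecker_one],
    by rw [← Matrix.mul_kronecker_mul, one_mul, hBi, Matrix.one_kronecker_one]⟩
  let E : Fin 2 × Fin 4 ≃ (Fin 3 → Fin 2) :=
    { toFun := fun p => ![p.1, (e4 p.2).1, (e4 p.2).2]
      invFun := fun z => (z 0, e4.symm (z 1, z 2))
      left_inv := fun p => by simp
      right_inv := fun z => by
        funext i
        fin_cases i <;> simp }
  set e' := e.trans E with he'
  set P' := P * glReindex e.symm W with hP'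
  have hW : ((glReindex e.symm W : GL ιS F) : Matrix ιS ιS F) = (W : Matrix _ _ F).submatrix e e := by
    simp [glReindex, Matrix.reindex_apply]
  have hpow : IsTensorPowerFormStructure id (sympForm m F) f₁ e' P' := by
    refine ⟨c * d / d ^ 3, div_ne_zero (mul_ne_zero hc hd) (pow_ne_zero 3 hd), fun x y => ?_⟩
    have hx : ∀ x : (Fin 3 → Fin 2) → F, (P' : Matrix ιS ιS F) *ᵥ (x ∘ e') =
        (P : Matrix ιS ιS F) *ᵥ (((W : Matrix _ _ F) *ᵥ (x ∘ E)) ∘ e) := by
      intro x
      rw [hP', Units.val_mul, hW, ← Matrix.mulVec_mulVec, Matrix.submatrix_mulVec_equiv]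
      congr 3
      funext p
      simp [he']
    rw [hx, hx, hf, formOfGram_id, Matrix.mulVec_mulVec, Matrix.dotProduct_mulVec, ← Matrix.vecMul_transpose,
      Matrix.vecMul_vecMul, ← Matrix.dotProduct_mulVec]
    have hWG : (W : Matrix _ _ F)ᵀ * ((gramMatrix f₁ ⊗ₖ gramMatrix f₂) * (W : Matrix _ _ F)) =
        (d • jTwo F) ⊗ₖ JS := by
      show ((1 : Matrix (Fin 2) (Fin 2) F) ⊗ₖ Bm)ᵀ * _ = _
      rw [← Matrix.kroneckerMap_transpose, show ((W : Matrix _ _ F)) = (1 : Matrix (Fin 2) (Fin 2) F) ⊗ₖ Bm from rfl,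
        ← Matrix.mul_kronecker_mul, ← Matrix.mul_kronecker_mul, Matrix.transpose_one, one_mul, mul_one, ← mul_assoc,
        hBG, hG1]
    rw [hWG]
    simp only [dotProduct, Matrix.mulVec, Finset.mul_sum, id_eq, Function.comp_apply]
    rw [← E.symm.sum_comp]
    refine Finset.sum_congr rfl fun a _ => ?_
    rw [← E.symm.sum_comp]
    refine Finset.sum_congr rfl fun b _ => ?_
    rw [Equiv.apply_symm_apply, Equiv.apply_symm_apply, kroneckerMap_apply, hJS, Matrix.submatrix_apply, hJJ,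
      kroneckerMap_apply, Matrix.smul_apply, smul_eq_mul, Fin.prod_univ_three, hG1]
    simp only [Matrix.smul_apply, smul_eq_mul, E, Equiv.coe_fn_symm_mk, Equiv.apply_symm_apply]
    field_simp
  refine ⟨e', P', hpow, ?_⟩
  rintro g ⟨⟨k', ⟨k, ⟨a, b, hab⟩, rfl⟩, rfl⟩, hg⟩
  set g := MulAut.conj P (glReindex e.symm k) with hgdef
  have hkab : (k : Matrix _ _ F) = (a : Matrix (Fin 2) (Fin 2) F) ⊗ₖ (b : Matrix (Fin 4) (Fin 4) F) := hab
  have hinv : (k : Matrix _ _ F)ᵀ * ((gramMatrix f₁ ⊗ₖ G2) * (k : Matrix _ _ F)) = gramMatrix f₁ ⊗ₖ G2 := by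
    refine Matrix.ext fun i j => ?_
    have hact : ∀ x : Fin 2 × Fin 4 → F, (g : Matrix ιS ιS F) *ᵥ ((P : Matrix ιS ιS F) *ᵥ (x ∘ e)) =
        (P : Matrix ιS ιS F) *ᵥ (((k : Matrix _ _ F) *ᵥ x) ∘ e) := by
      intro x
      have hval : (g : Matrix ιS ιS F) =
          (P : Matrix ιS ιS F) * (k : Matrix _ _ F).submatrix e e * ((P⁻¹ : GL ιS F) : Matrix ιS ιS F) := by
        simp [hgdef, glReindex, Matrix.reindex_apply]
      rw [hval, Matrix.mulVec_mulVec, mul_assoc, Units.inv_mul, mul_one, ← Matrix.mulVec_mulVec,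
        Matrix.submatrix_mulVec_equiv, Function.comp_assoc, Equiv.self_comp_symm, Function.comp_id]
    have h : sympForm m F ((g : Matrix ιS ιS F) *ᵥ ((P : Matrix ιS ιS F) *ᵥ (Pi.single i (1 : F) ∘ e)))
        ((g : Matrix ιS ιS F) *ᵥ ((P : Matrix ιS ιS F) *ᵥ (Pi.single j (1 : F) ∘ e))) =
        sympForm m F ((P : Matrix ιS ιS F) *ᵥ (Pi.single i (1 : F) ∘ e))
          ((P : Matrix ιS ιS F) *ᵥ (Pi.single j (1 : F) ∘ e)) := hg _ _
    rw [hact, hact, hf, hf, formOfGram_id, formOfGram_id, Matrix.mulVec_mulVec, Matrix.dotProduct_mulVec,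
      ← Matrix.vecMul_transpose, Matrix.vecMul_vecMul, ← Matrix.dotProduct_mulVec] at h
    simpa using mul_left_cancel₀ hc h
  have hdeta : (a : Matrix (Fin 2) (Fin 2) F).det ≠ 0 := ((Matrix.isUnit_iff_isUnit_det _).mp a.isUnit).ne_zero
  set μ := ((a : Matrix (Fin 2) (Fin 2) F).det)⁻¹
  have hb : (b : Matrix (Fin 4) (Fin 4) F)ᵀ * G2 * (b : Matrix (Fin 4) (Fin 4) F) = μ • G2 := by
    rw [hkab, ← Matrix.kroneckerMap_transpose, ← Matrix.mul_kronecker_mul, ← Matrix.mul_kronecker_mul, hG1,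
      Matrix.smul_mul, Matrix.mul_smul, ← mul_assoc ((a : Matrix (Fin 2) (Fin 2) F)ᵀ), transpose_mul_jTwo_mul,
      ← mul_assoc] at hinv
    ext i j
    have h := congrFun (congrFun hinv (0, i)) (1, j)
    simp only [kroneckerMap_apply, Matrix.smul_apply, smul_eq_mul] at h
    rw [show jTwo F 0 1 = 1 from rfl, mul_one, mul_one] at h
    rw [Matrix.smul_apply, smul_eq_mul]
    refine mul_left_cancel₀ (mul_ne_zero hd hdeta) (h.trans ?_)
    simp [μ, mul_assoc, hdeta]
  set b4 : Matrix (Fin 2 × Fin 2) (Fin 2 × Fin 2) F := (Bi * (b : Matrix (Fin 4) (Fin 4) F) * Bm).submatrix e4.symm e4.symm with hb4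
  have hJ4 : JJ = JS.submatrix e4.symm e4.symm := by rw [hJS]; simp [Matrix.submatrix_submatrix]
  have hsim : b4ᵀ * JJ * b4 = μ • JJ := by
    rw [hb4, hJ4, Matrix.transpose_submatrix, Matrix.submatrix_mul_equiv, Matrix.submatrix_mul_equiv]
    have : (Bi * (b : Matrix (Fin 4) (Fin 4) F) * Bm)ᵀ * JS * (Bi * (b : Matrix (Fin 4) (Fin 4) F) * Bm) =
        μ • JS := by
      calc _ = Bmᵀ * ((b : Matrix (Fin 4) (Fin 4) F)ᵀ * (Biᵀ * JS * Bi) * (b : Matrix (Fin 4) (Fin 4) F)) * Bm := by
            simp only [Matrix.transpose_mul, mul_assoc]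
        _ = _ := by rw [hG2B, hb, Matrix.mul_smul, Matrix.smul_mul, hBG]
    rw [this]
    rfl
  obtain ⟨p, q, hpq⟩ := similitude_det_two h2 (inv_ne_zero hdeta) hsim
  set k₁ : GL (Fin 3 → Fin 2) F := glReindex E (W⁻¹ * k * W) with hk₁
  have hk₁val : ∀ x y : Fin 3 → Fin 2, (k₁ : Matrix _ _ F) x y =
      (a : Matrix (Fin 2) (Fin 2) F) (x 0) (y 0) * b4 (x 1, x 2) (y 1, y 2) := by
    intro x y
    have h1 : ((W⁻¹ * k * W : GL (Fin 2 × Fin 4) F) : Matrix _ _ F) =
        (a : Matrix (Fin 2) (Fin 2) F) ⊗ₖ (Bi * (b : Matrix (Fin 4) (Fin 4) F) * Bm) := by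
      rw [Units.val_mul, Units.val_mul, hkab]
      show ((1 : Matrix (Fin 2) (Fin 2) F) ⊗ₖ Bi) * _ * ((1 : Matrix (Fin 2) (Fin 2) F) ⊗ₖ Bm) = _
      rw [← Matrix.mul_kronecker_mul, ← Matrix.mul_kronecker_mul, one_mul, mul_one]
    have h3 : (k₁ : Matrix _ _ F) = ((W⁻¹ * k * W : GL (Fin 2 × Fin 4) F) : Matrix _ _ F).submatrix E.symm E.symm := by
      simp [hk₁, glReindex, Matrix.reindex_apply]
    rw [h3, h1, Matrix.submatrix_apply, kroneckerMap_apply, hb4, Matrix.submatrix_apply]
    rfl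
  have hk₁mem : k₁ ∈ tensorWreathStandard 2 3 F := by
    rcases hpq with h | h
    · refine Subgroup.subset_closure (Or.inl ⟨![a, p, q], fun x y => ?_⟩)
      rw [hk₁val, h, Fin.prod_univ_three]
      simp [mul_assoc]
    · let σ : Equiv.Perm (Fin 3) := Equiv.swap 1 2
      let S : Matrix (Fin 3 → Fin 2) (Fin 3 → Fin 2) F := Matrix.of fun x y => if y = x ∘ σ then 1 else 0
      have hσσ : ∀ x : Fin 3 → Fin 2, (x ∘ σ) ∘ σ = x := fun x => by
        funext i
        simp [σ]
      have hSS : S * S = 1 := by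
        ext x y
        rw [Matrix.mul_apply, Finset.sum_eq_single (x ∘ σ) (fun z _ hz => by simp [S, hz]) (by simp)]
        simp only [S, Matrix.of_apply, if_true, one_mul, hσσ]
        simp [Matrix.one_apply, eq_comm]
      let Su : GL (Fin 3 → Fin 2) F := ⟨S, S, hSS, hSS⟩
      have hmem : Su ∈ tensorWreathStandard 2 3 F := Subgroup.subset_closure (Or.inr ⟨σ, fun x y => rfl⟩)
      have hpure : k₁ * Su ∈ tensorWreathStandard 2 3 F := by
        refine Subgroup.subset_closure (Or.inl ⟨![a, p, q], fun x y => ?_⟩)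
        show ((k₁ : Matrix (Fin 3 → Fin 2) (Fin 3 → Fin 2) F) * S) x y = _
        rw [Matrix.mul_apply, Finset.sum_eq_single (y ∘ σ) (fun z _ hz => by
          have : y ≠ z ∘ σ := fun hy => hz (by rw [hy, hσσ])
          simp [S, this]) (by simp)]
        have hy : y = (y ∘ σ) ∘ σ := (hσσ y).symm
        simp only [S, Matrix.of_apply, if_pos hy, mul_one]
        rw [hk₁val, h, Fin.prod_univ_three]
        simp [σ, Equiv.swap_apply_def, mul_assoc]
      have := Subgroup.mul_mem _ hpure (Subgroup.inv_mem _ hmem)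
      rwa [mul_inv_cancel_right] at this
  refine ⟨glReindex e'.symm k₁, ⟨k₁, hk₁mem, rfl⟩, ?_⟩
  have hre' : ∀ x : GL (Fin 2 × Fin 4) F, glReindex e'.symm (glReindex E x) = glReindex e.symm x := fun x => by
    apply Units.ext
    ext i j
    simp [he', glReindex, Matrix.reindex_apply]
  have hre : glReindex e'.symm k₁ = glReindex e.symm (W⁻¹ * k * W) := hre' _
  show P' * glReindex e'.symm k₁ * P'⁻¹ = P * glReindex e.symm k * P⁻¹
  rw [hre, hP', map_mul, map_mul, map_inv]
  group

end Cfsg.Agent.Lib.MaxClass.SympTensorPlus
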