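import Cfsg.Agent.Lib.SingMax.NonDegSix
import Cfsg.Agent.Lib.SingMax.PointNine
import Cfsg.Agent.Lib.SingMax.UnitaryTen
import Cfsg.Agent.Lib.SingMax.Basic
import Cfsg.Agent.Lib.OrthSubfield.Nine
import Cfsg.Agent.Lib.OrthMax.EvenDim
import Cfsg.Agent.Lib.OrthExt.Standard
import Cfsg.Agent.Lib.OrthMax.Five.Main

/-!
Geometric maximal subgroups of `Ω₁₀^±(q)`: the cases following from the general maximality theorems.
-/

set_option autoImplicit false
set_option linter.style.haveILetI false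

namespace Cfsg.Agent.Lib.MaxClass.OrthTenMax

open Cfsg.Agent.Lib

variable {F : Type*} [Field F] [Fintype F] {Q : (Fin 10 → F) → F} (hQ : Cfsg.Geo.IsNondegenerateQuadraticForm Q)
include hQ

theorem singular (W : Submodule F (Fin 10 → F)) (hW0 : W ≠ ⊥) (hW : Cfsg.Geo.IsTotallySingularQuad Q W)
    (hexc : Module.finrank F W = 4 → ¬ Cfsg.Geo.IsPlusTypeOn Q ⊤) :
    Cfsg.Geo.IsMaximalIn (Cfsg.Geo.omegaGL Q) (Cfsg.Geo.subspaceStabilizer W ⊓ Cfsg.Geo.omegaGL Q) :=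
  SingMax.isMaximalIn_singular (Forms.nondegenerate_bundleQuad Q hQ) (by simp) W hW0 hW fun hd U hU hd' =>
    hexc (by rw [Fintype.card_fin] at hd; omega)
      ⟨U, le_top, hU, by rw [finrank_top, Module.finrank_fin_fun]; simpa using hd'⟩

theorem nondeg (W : Submodule F (Fin 10 → F)) (hW0 : W ≠ ⊥) (hW1 : W ≠ ⊤)
    (h5 : Module.finrank F W ≠ 5) (h8 : Module.finrank F W ≠ 8)
    (hex : Module.finrank F W = 2 → Cfsg.Geo.IsPlusTypeOn Q W → 4 ≤ Fintype.card F)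
    (hW : Cfsg.Geo.IsNondegenerateOn (QuadraticMap.polar Q) W) :
    Cfsg.Geo.IsMaximalIn (Cfsg.Geo.omegaGL Q) (Cfsg.Geo.subspaceStabilizer W ⊓ Cfsg.Geo.omegaGL Q) := by
  have hQ' := Forms.nondegenerate_bundleQuad Q hQ
  have hdU := MaxClass.finrank_polarPerp hQ' W
  have hdW := Submodule.finrank_le W
  rw [Module.finrank_fin_fun] at hdW
  rw [Fintype.card_fin] at hdU
  refine SingMax.isMaximalIn_nondegenerate_six hQ' (by simp) hW (by rw [Fintype.card_fin]; omega) hW0 hW1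
    (fun h => absurd h (by rw [Fintype.card_fin]; omega)) ?_ ?_
  · rintro ⟨hq, hd, hp⟩
    have := hex hd hp
    omega
  · rintro ⟨-, hd, -⟩
    omega

theorem point (hev : ¬ Odd (Fintype.card F)) (v : Fin 10 → F) (hv : Q v ≠ 0) :
    Cfsg.Geo.IsMaximalIn (Cfsg.Geo.omegaGL Q)
      (Cfsg.Geo.subspaceStabilizer (Submodule.span F {v}) ⊓ Cfsg.Geo.omegaGL Q) := by
  haveI : CharP F 2 := by
    refine ringChar.of_eq ?_
    by_contra h
    exact hev (Nat.odd_iff.mpr (FiniteField.odd_card_of_char_ne_two h))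
  exact SingMax.Point.isMaximalIn_point (Forms.nondegenerate_bundleQuad Q hQ) (by simp) hv

theorem pair (D : Fin 2 → Submodule F (Fin 10 → F))
    (hD : Cfsg.Geo.IsNondegenerateMDecomposition (QuadraticMap.polar Q) 5 D) :
    Cfsg.Geo.IsMaximalIn (Cfsg.Geo.omegaGL Q) (Cfsg.Geo.decompositionStabilizer D ⊓ Cfsg.Geo.omegaGL Q) := by
  have hc := Forms.coe_bundleQuad Q hQ
  have h : OrthMax.Dec (Forms.bundleQuad Q hQ) 5 D := ⟨by rw [hc]; exact hD⟩
  have key := OrthMax.isMaximalIn_decomp (Forms.nondegenerate_bundleQuad Q hQ) (by simp) h (by omega)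
    (fun h3 => absurd h3 (by omega)) (fun h4 => absurd h4 (by omega)) (Or.inl rfl)
  rw [hc] at key
  exact key

theorem extField (hodd : Odd (Fintype.card F)) (K : Subalgebra F (Matrix (Fin 10) (Fin 10) F))
    (hK : Cfsg.Geo.IsFieldSubalgebra 2 K) (hsa : Cfsg.Geo.IsSelfAdjointFor (QuadraticMap.polar Q) K) :
    Cfsg.Geo.IsMaximalIn (Cfsg.Geo.omegaGL Q) (Cfsg.Geo.subalgebraNormalizer K ⊓ Cfsg.Geo.omegaGL Q) := by
  have hQ' := Forms.nondegenerate_bundleQuad Q hQ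
  refine OrthExt.isMaximalIn_extField (Q := Forms.bundleQuad Q hQ)
    ⟨OrthMax.two_ne_zero_of_odd hodd, fun z hz => hQ'.1 z hz⟩ 2 Nat.prime_two
    (by rw [Fintype.card_fin]; omega) (fun _ => by rw [Fintype.card_fin]) K hK hsa ?_
  intro E _ _ _ _ _ D M hE hO a ha b hb
  refine OrthExt.commutator_mem_four hO ?_ ha hb
  have h := Module.finrank_mul_finrank F E (Fin 10 → F)
  rw [hE, Module.finrank_fin_fun] at h
  omega

theorem unitary (K : Subalgebra F (Matrix (Fin 10) (Fin 10) F)) (hK : Cfsg.Geo.IsFieldSubalgebra 2 K)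
    (hac : Cfsg.Geo.IsAdjointClosedFor (QuadraticMap.polar Q) K)
    (hnsa : ¬ Cfsg.Geo.IsSelfAdjointFor (QuadraticMap.polar Q) K)
    (hsc : ∀ k ∈ K, ∃ c : F, ∀ v : Fin 10 → F, Q (Matrix.mulVec k v) = c * Q v) :
    Cfsg.Geo.IsMaximalIn (Cfsg.Geo.omegaGL Q) (Cfsg.Geo.subalgebraNormalizer K ⊓ Cfsg.Geo.omegaGL Q) := by
  have hQ' := Forms.nondegenerate_bundleQuad Q hQ
  obtain ⟨θ, a, N, hspan, h⟩ :=
    SingMax.exists_kStr (Q := Forms.bundleQuad Q hQ) hQ' K hK hac hnsa hsc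
  exact SingMax.isMaximalIn_unitaryField_ten (Q := Forms.bundleQuad Q hQ) hQ' (by simp) K θ hspan h

theorem subfield (F₀ : Subfield F) (r : ℕ) (hr : r.Prime) (hcard : Fintype.card F = Nat.card F₀ ^ r)
    (P : Matrix.GeneralLinearGroup (Fin 10) F) (ζ : F) (hζ : ζ ≠ 0)
    (hP : Cfsg.Geo.IsQuadFormRationalStructure (fun v : Fin 10 → F => ζ * Q v) F₀ P) :
    Cfsg.Geo.IsMaximalIn (Cfsg.Geo.omegaGL Q) (Cfsg.Geo.subfieldSubgroup F₀ P ⊓ Cfsg.Geo.omegaGL Q) := by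
  classical
  have hQ' := Forms.nondegenerate_bundleQuad Q hQ
  rw [← OrthSubfield.omegaGL_smul Q hζ]
  set B := ζ • Forms.bundleQuad Q hQ with hB
  have hB' : (fun v => ζ * Q v) = ⇑B := rfl
  rw [hB'] at hP ⊢
  refine OrthSubfield.isMaximalIn_subfield_nine (fun z hz => ?_) (by simp) F₀ r hr
    (by rwa [Nat.card_eq_fintype_card]) P fun u => hP _ fun i => (u i).2
  refine hQ'.1 z fun w => ?_
  have h := hz w
  simp only [hB, QuadraticMap.polar, smul_eq_mul, smul_apply, ← mul_sub] at h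
  exact (mul_eq_zero.mp h).resolve_left hζ

theorem planes (D : Fin 5 → Submodule F (Fin 10 → F)) (hD : Cfsg.Geo.IsOrthogonalMDecomposition Q 2 D)
    (hq : 7 ≤ Fintype.card F ∨ (¬ Cfsg.Geo.IsPlusTypeOn Q ⊤ ∧ Fintype.card F ≠ 3)) :
    Cfsg.Geo.IsMaximalIn (Cfsg.Geo.omegaGL Q) (Cfsg.Geo.decompositionStabilizer D ⊓ Cfsg.Geo.omegaGL Q) := by
  classical
  have hc := Forms.coe_bundleQuad Q hQ
  have hb := Forms.nondegenerate_bundleQuad Q hQ
  have h : OrthMax.Dec (Forms.bundleQuad Q hQ) 2 D := ⟨by rw [hc]; exact hD.decomp⟩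
  have hiso : ∀ i j, Cfsg.Geo.AreIsometricFor (⇑(Forms.bundleQuad Q hQ)) (D i) (D j) := fun i j => by
    rw [hc]; exact hD.isometric i j
  suffices hanis : ¬ Cfsg.Geo.IsPlusTypeOn Q ⊤ → ∀ i, ∀ x ∈ D i, Forms.bundleQuad Q hQ x = 0 → x = 0 by
    have key := OrthMax.Five.isMaximalIn_planes_five hb h le_rfl hiso
      (hq.imp_right fun ⟨hm, h3⟩ => ⟨hanis hm, h3⟩)
    rw [hc] at key
    exact key
  intro hm i x hx hxQ
  by_contra hx0
  refine hm ?_
  -- a singular vector in each plane gives a singular five-space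
  have hsing : ∀ j, ∃ z ∈ D j, z ≠ 0 ∧ Forms.bundleQuad Q hQ z = 0 := fun j => by
    obtain ⟨f, hf⟩ := hiso i j
    refine ⟨f ⟨x, hx⟩, (f ⟨x, hx⟩).2, fun e => hx0 ?_, by rw [hf]; exact hxQ⟩
    have := f.map_eq_zero_iff.mp (Subtype.ext e : f ⟨x, hx⟩ = 0)
    exact congrArg Subtype.val this
  choose z hz hz0 hzQ using hsing
  have hproj : ∀ (c : Fin 5 → F) (j : Fin 5), h.proj j (∑ k, c k • z k) = c j • z j := fun c j => by
    rw [map_sum, Finset.sum_eq_single j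
      (fun k _ hk => h.proj_of_mem_ne (Ne.symm hk) ((D k).smul_mem _ (hz k))) (by simp),
      h.proj_of_mem ((D j).smul_mem _ (hz j))]
  have hli : LinearIndependent F z := Fintype.linearIndependent_iff.mpr fun c hc' j => by
    have h1 := hproj c j
    rw [hc', map_zero] at h1
    exact (smul_eq_zero.mp h1.symm).resolve_right (hz0 j)
  refine ⟨Submodule.span F (Set.range z), le_top, fun y hy => ?_, ?_⟩
  · obtain ⟨c, rfl⟩ := (Submodule.mem_span_range_iff_exists_fun F).mp hy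
    have h1 := h.Q_sum (∑ k, c k • z k) Finset.univ
    rw [h.sum_proj] at h1
    rw [← hc, h1]
    exact Finset.sum_eq_zero fun j _ => by rw [hproj, QuadraticMap.map_smul, hzQ, smul_zero]
  · rw [finrank_top, Module.finrank_fin_fun, finrank_span_eq_card hli, Fintype.card_fin]

end Cfsg.Agent.Lib.MaxClass.OrthTenMax
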