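import Mathlib
import Cfsg.Agent.Lib.MaxClass.PauliTensor

/-!
Two Pauli groups of minus type: three quaternion factors, and one quaternion with one dihedral factor.
-/

set_option autoImplicit false
set_option linter.style.haveILetI false
set_option linter.unusedSectionVars false

namespace Cfsg.Agent.Lib.MaxClass.PauliTensor

open Cfsg Cfsg.Geo Matrix

/-- The sign of the square, three quaternion factors. -/
def sg3 (a b c : Fin 4) : ZMod 3 := psgn true a a * psgn true b b * psgn true c c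

/-- The commutator sign, three factors. -/
def cm3 (a b c a' b' c' : Fin 4) : ZMod 3 := pcom a a' * pcom b b' * pcom c c'

set_option synthInstance.maxSize 1000 in
set_option synthInstance.maxHeartbeats 200000 in
lemma singular_three : ∀ a b c : Fin 4, sg3 a b c = 1 → ¬ (a = 0 ∧ b = 0 ∧ c = 0) →
    ∀ a' b' c' : Fin 4, sg3 a' b' c' = 1 → cm3 a b c a' b' c' = 1 → ¬ (a' = 0 ∧ b' = 0 ∧ c' = 0) →
      ¬ (a' = a ∧ b' = b ∧ c' = c) →
      ∀ u v w : Fin 4, sg3 u v w = 1 → cm3 a b c u v w = 1 → cm3 a' b' c' u v w = 1 →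
        (u = 0 ∧ v = 0 ∧ w = 0) ∨ (u = a ∧ v = b ∧ w = c) ∨ (u = a' ∧ v = b' ∧ w = c') ∨
          (u = xr a a' ∧ v = xr b b' ∧ w = xr c c') := by
  decide +kernel

/-- The sign of the square, a quaternion and a dihedral factor. -/
def sg2 (a b : Fin 4) : ZMod 3 := psgn true a a * psgn false b b

lemma singular_two : ∀ a b : Fin 4, sg2 a b = 1 → ¬ (a = 0 ∧ b = 0) →
    ∀ a' b' : Fin 4, sg2 a' b' = 1 → pcom a a' * pcom b b' = 1 → ¬ (a' = 0 ∧ b' = 0) → a' = a ∧ b' = b := by
  decide +kernel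

variable {F : Type*} [Field F] [CharP F 3] {ι : Type} [Fintype ι] [DecidableEq ι]

lemma tsgn_eq_one {t : ℕ} (ty : Fin t → Bool) (x y : Fin t → Fin 4) :
    tsgn (F := F) ty x y = 1 ↔ (∏ i, psgn (ty i) (x i) (y i)) = 1 := by
  rw [tsgn, ← map_prod]
  exact map_eq_one_iff _ toF_injective

lemma tcom_eq_one {t : ℕ} (x y : Fin t → Fin 4) :
    tcom (F := F) x y = 1 ↔ (∏ i, pcom (x i) (y i)) = 1 := by
  rw [tcom, ← map_prod]
  exact map_eq_one_iff _ toF_injective

/-- Three quaternion factors: minus type. -/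
theorem isOfMinusType_three (e : ι ≃ (Fin 3 → Fin 2)) (P : GL ι F) :
    IsOfMinusType 3 (pauliGroup (fun _ => true) e P) := by
  classical
  refine isOfMinusType _ e P fun S hS hC => ?_
  by_contra hlt
  have h8 : 8 ≤ S.card := by simpa using not_lt.mp hlt
  obtain ⟨x, hx⟩ : ((S.erase 0)).Nonempty :=
    Finset.card_pos.mp (by have := Finset.pred_card_le_card_erase (a := 0) (s := S); omega)
  obtain ⟨hx0, hxS⟩ := Finset.mem_erase.mp hx
  obtain ⟨y, hy⟩ : (((S.erase 0).erase x)).Nonempty :=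
    Finset.card_pos.mp (by
      have := Finset.pred_card_le_card_erase (a := 0) (s := S)
      have := Finset.pred_card_le_card_erase (a := x) (s := S.erase 0)
      omega)
  obtain ⟨hyx, hy'⟩ := Finset.mem_erase.mp hy
  obtain ⟨hy0, hyS⟩ := Finset.mem_erase.mp hy'
  have hs : ∀ z ∈ S, sg3 (z 0) (z 1) (z 2) = 1 := fun z hz => by
    have h := (tsgn_eq_one _ z z).mp (hS z hz)
    simpa [Fin.prod_univ_three, sg3] using h
  have hc : ∀ z ∈ S, ∀ w ∈ S, cm3 (z 0) (z 1) (z 2) (w 0) (w 1) (w 2) = 1 := fun z hz w hw => by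
    have h := (tcom_eq_one z w).mp (hC z hz w hw)
    simpa [Fin.prod_univ_three, cm3] using h
  have hext : ∀ (z w : Fin 3 → Fin 4), z 0 = w 0 ∧ z 1 = w 1 ∧ z 2 = w 2 → z = w := by
    rintro z w ⟨h0, h1, h2⟩
    funext i
    fin_cases i <;> assumption
  have hsub : S ⊆ {0, x, y, fun i => xr (x i) (y i)} := by
    intro z hz
    rcases singular_three _ _ _ (hs x hxS) (fun h => hx0 (hext x 0 h)) _ _ _ (hs y hyS) (hc x hxS y hyS)
        (fun h => hy0 (hext y 0 h)) (fun h => hyx (hext y x h)) _ _ _ (hs z hz) (hc x hxS z hz) (hc y hyS z hz) with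
      h | h | h | h
    · simp [hext z 0 h]
    · simp [hext z x h]
    · simp [hext z y h]
    · simp [hext z (fun i => xr (x i) (y i)) h]
  have := Finset.card_le_card hsub
  have := Finset.card_le_four (a := (0 : Fin 3 → Fin 4)) (b := x) (c := y) (d := fun i => xr (x i) (y i))
  omega

/-- A quaternion and a dihedral factor: minus type. -/
theorem isOfMinusType_two (e : ι ≃ (Fin 2 → Fin 2)) (P : GL ι F) :
    IsOfMinusType 2 (pauliGroup ![true, false] e P) := by
  classical
  refine isOfMinusType _ e P fun S hS hC => ?_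
  have hs : ∀ z ∈ S, sg2 (z 0) (z 1) = 1 := fun z hz => by
    have h := (tsgn_eq_one _ z z).mp (hS z hz)
    simpa [Fin.prod_univ_two, sg2] using h
  have hext : ∀ (z w : Fin 2 → Fin 4), z 0 = w 0 ∧ z 1 = w 1 → z = w := by
    rintro z w ⟨h0, h1⟩
    funext i
    fin_cases i <;> assumption
  have hsub : (S.erase 0).card ≤ 1 := by
    refine Finset.card_le_one.mpr fun z hz w hw => ?_
    obtain ⟨hz0, hzS⟩ := Finset.mem_erase.mp hz
    obtain ⟨hw0, hwS⟩ := Finset.mem_erase.mp hw
    have h := (tcom_eq_one z w).mp (hC z hzS w hwS)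
    exact (hext w z (singular_two _ _ (hs z hzS) (fun h => hz0 (hext z 0 h)) _ _ (hs w hwS)
      (by simpa [Fin.prod_univ_two] using h) (fun h => hw0 (hext w 0 h)))).symm
  have := Finset.pred_card_le_card_erase (a := 0) (s := S)
  omega

end Cfsg.Agent.Lib.MaxClass.PauliTensor
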