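import Mathlib
import Cfsg.Prelude.Def_GeometricClasses
import Cfsg.Agent.Lib.MaxClass.SympSmall
import Cfsg.Agent.Lib.MaxClass.PauliMinus

/-!
The symplectic group of degree four over three elements: stabilisers of a pair of totally isotropic planes
and normalisers of a unitary field lie in bigger geometric groups.
-/

set_option autoImplicit false
set_option linter.style.haveILetI false
set_option linter.unusedSectionVars false

namespace Cfsg.Agent.Lib.MaxClass.SympFourThree

open Cfsg Cfsg.Geo Matrix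
open Cfsg.Agent.Lib.Aschbacher Cfsg.Agent.Lib.MaxClass

variable {F : Type*} [Field F]

local notation "ι₄" => (Fin 2 ⊕ Fin 2)
local notation "ff" => sympForm 2 F

/-- Two pairs of vectors with orthogonal spans and non-zero products split the space. -/
theorem decomp_of_pairs {p : Fin 2 → Fin 2 → (ι₄ → F)} (hcross : ∀ a b, ff (p 0 a) (p 1 b) = 0)
    (hself : ∀ i, ff (p i 0) (p i 1) ≠ 0) :
    IsNondegenerateMDecomposition ff 2 (fun i => Submodule.span F (Set.range (p i))) := by
  classical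
  set D : Fin 2 → Submodule F (ι₄ → F) := fun i => Submodule.span F (Set.range (p i)) with hD
  have hmem : ∀ i x, x ∈ D i → ∃ a b : F, a • p i 0 + b • p i 1 = x := by
    intro i x hx
    obtain ⟨c, hc⟩ := (Submodule.mem_span_range_iff_exists_fun F).mp hx
    rw [Fin.sum_univ_two] at hc
    exact ⟨c 0, c 1, hc⟩
  have hpair : ∀ i (a b : F), ff (a • p i 0 + b • p i 1) (p i 0) = -(b * ff (p i 0) (p i 1)) ∧
      ff (a • p i 0 + b • p i 1) (p i 1) = a * ff (p i 0) (p i 1) := fun i a b => by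
    constructor <;>
      simp only [sympForm_add_left, sympForm_smul_left, sympForm_self, sympForm_skew (p i 1) (p i 0)] <;> ring
  have hzero : ∀ i (a b : F), (∀ z ∈ D i, ff (a • p i 0 + b • p i 1) z = 0) → a = 0 ∧ b = 0 := by
    intro i a b h
    have h0 := h _ (Submodule.subset_span ⟨0, rfl⟩)
    have h1 := h _ (Submodule.subset_span ⟨1, rfl⟩)
    rw [(hpair i a b).1, neg_eq_zero] at h0
    rw [(hpair i a b).2] at h1
    exact ⟨(mul_eq_zero.mp h1).resolve_right (hself i), (mul_eq_zero.mp h0).resolve_right (hself i)⟩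
  have hnd : ∀ i, IsNondegenerateOn ff (D i) := by
    intro i x hx hx0
    have hex : ∃ z ∈ D i, ff x z ≠ 0 := by
      by_contra h
      push Not at h
      obtain ⟨a, b, rfl⟩ := hmem i x hx
      obtain ⟨rfl, rfl⟩ := hzero i a b h
      exact hx0 (by simp)
    obtain ⟨z, hz, hne⟩ := hex
    exact ⟨⟨z, hz, by rw [sympForm_skew]; exact neg_ne_zero.mpr hne⟩, ⟨z, hz, hne⟩⟩
  have horth : ∀ i j, i ≠ j → AreOrthogonalFor ff (D i) (D j) := by
    intro i j hij x hx y hy
    obtain ⟨a, b, rfl⟩ := hmem i x hx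
    obtain ⟨c, d, rfl⟩ := hmem j y hy
    have hc : ∀ s t, ff (p i s) (p j t) = 0 := by
      intro s t
      fin_cases i <;> fin_cases j <;>
        first
          | exact absurd rfl hij
          | exact hcross s t
          | (rw [sympForm_skew]; exact neg_eq_zero.mpr (hcross t s))
    simp [sympForm_add_left, sympForm_smul_left, sympForm_add_right, sympForm_smul_right, hc]
  have hfin : ∀ i, Module.finrank F (D i) = 2 := by
    intro i
    have hli : LinearIndependent F (p i) := by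
      rw [Fintype.linearIndependent_iff]
      intro g hg
      rw [Fin.sum_univ_two] at hg
      obtain ⟨h0, h1⟩ := hzero i (g 0) (g 1) (fun z _ => by rw [hg, sympForm_zero_left])
      intro s
      fin_cases s
      exacts [h0, h1]
    show Module.finrank F (Submodule.span F (Set.range (p i))) = 2
    rw [finrank_span_eq_card hli, Fintype.card_fin]
  have hdisj : Disjoint (D 0) (D 1) := by
    rw [Submodule.disjoint_def]
    intro x h0 h1
    obtain ⟨a, b, rfl⟩ := hmem 0 x h0
    obtain ⟨rfl, rfl⟩ := hzero 0 a b fun z hz => horth 1 0 (by decide) _ h1 z hz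
    simp
  have hindep : iSupIndep D := by
    intro i
    rw [Submodule.disjoint_def]
    intro x hx hx'
    fin_cases i
    · have hle : (⨆ j, ⨆ (_ : j ≠ (0 : Fin 2)), D j) ≤ D 1 :=
        iSup₂_le fun j hj => by fin_cases j <;> simp at hj ⊢
      exact Submodule.disjoint_def.mp hdisj x hx (hle hx')
    · have hle : (⨆ j, ⨆ (_ : j ≠ (1 : Fin 2)), D j) ≤ D 0 :=
        iSup₂_le fun j hj => by fin_cases j <;> simp at hj ⊢
      exact Submodule.disjoint_def.mp hdisj x (hle hx') hx
  refine ⟨⟨le_rfl, by norm_num, hfin, hindep, ?_⟩, hnd, horth⟩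
  refine Submodule.eq_top_of_finrank_eq ?_
  have h := Submodule.finrank_sup_add_finrank_inf_eq (D 0) (D 1)
  rw [hdisj.eq_bot, finrank_bot, hfin, hfin] at h
  have hle : D 0 ⊔ D 1 ≤ iSup D := sup_le (le_iSup D 0) (le_iSup D 1)
  have h' := Submodule.finrank_mono hle
  have h'' := Submodule.finrank_le (iSup D)
  rw [Module.finrank_fintype_fun_eq_card, Fintype.card_sum, Fintype.card_fin] at h'' ⊢
  omega

/-- Over three elements the stabiliser of two complementary totally isotropic planes fixes an orthogonal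
decomposition into non-degenerate planes. -/
theorem ts_pair_le [Fintype F] (hq : Fintype.card F = 3) {D : Fin 2 → Submodule F (ι₄ → F)}
    (hD : IsMDecomposition 2 D) (hts : ∀ i, IsTotallySingularFor ff (D i)) :
    ∃ D' : Fin 2 → Submodule F (ι₄ → F), IsNondegenerateMDecomposition ff 2 D' ∧
      decompositionStabilizer D ⊓ spGL 2 F ≤ decompositionStabilizer D' := by
  classical
  haveI : CharP F 3 := PauliTensor.charP_three hq
  have h2 : (2 : F) ≠ 0 := PauliTensor.two_ne_zero'
  have hunit : ∀ x : F, x ≠ 0 → x = 1 ∨ x = -1 := fun x hx => by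
    have h := FiniteField.pow_card_sub_one_eq_one x hx
    rw [hq] at h
    have : (x - 1) * (x + 1) = 0 := by linear_combination h
    rcases mul_eq_zero.mp this with h' | h'
    · exact Or.inl (sub_eq_zero.mp h')
    · exact Or.inr (eq_neg_of_add_eq_zero_left h')
  let bb := Module.finBasisOfFinrankEq F (D 0) (hD.finrank_eq 0)
  set b : Fin 2 → (ι₄ → F) := fun i => (bb i : ι₄ → F) with hb
  have hbD : ∀ i, b i ∈ D 0 := fun i => (bb i).2
  have hb0 : ∀ i j, ff (b i) (b j) = 0 := fun i j => hts 0 _ (hbD i) _ (hbD j)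
  have hsplit : ∀ x : ι₄ → F, ∃ u ∈ D 0, ∃ v ∈ D 1, u + v = x := by
    intro x
    have htop : D 0 ⊔ D 1 = ⊤ := by
      rw [eq_top_iff, ← hD.iSup_eq_top]
      exact iSup_le fun i => by fin_cases i <;> simp
    exact Submodule.mem_sup.mp (htop ▸ Submodule.mem_top : x ∈ D 0 ⊔ D 1)
  have hspan0 : ∀ u ∈ D 0, ∃ s t : F, s • b 0 + t • b 1 = u := by
    intro u hu
    have h := congrArg Subtype.val (bb.sum_repr ⟨u, hu⟩)
    rw [Fin.sum_univ_two] at h
    exact ⟨_, _, h⟩
  let φ : D 1 →ₗ[F] (Fin 2 → F) :=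
    { toFun := fun v i => ff (b i) (v : ι₄ → F)
      map_add' := fun v w => by funext i; simp [sympForm_add_right]
      map_smul' := fun c v => by funext i; simp [sympForm_smul_right] }
  have hφi : Function.Injective φ := by
    rw [← LinearMap.ker_eq_bot, LinearMap.ker_eq_bot']
    intro v hv
    by_contra hv0
    obtain ⟨x, hx⟩ := sympForm_nondeg (v := (v : ι₄ → F)) (fun h => hv0 (Subtype.ext h))
    apply hx
    obtain ⟨u, hu, w, hw, rfl⟩ := hsplit x
    obtain ⟨s, t, rfl⟩ := hspan0 u hu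
    have h0 : ff (b 0) (v : ι₄ → F) = 0 := congrFun hv 0
    have h1 : ff (b 1) (v : ι₄ → F) = 0 := congrFun hv 1
    rw [sympForm_add_left, sympForm_add_left, sympForm_smul_left, sympForm_smul_left, h0, h1, hts 1 w hw _ v.2]
    ring
  have hφs : Function.Surjective φ :=
    (LinearMap.injective_iff_surjective_of_finrank_eq_finrank
      (by rw [hD.finrank_eq, Module.finrank_fintype_fun_eq_card, Fintype.card_fin])).mp hφi
  choose cc hcc using fun j : Fin 2 => hφs (Pi.single j 1)
  set c : Fin 2 → (ι₄ → F) := fun j => (cc j : ι₄ → F) with hc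
  have hcD : ∀ j, c j ∈ D 1 := fun j => (cc j).2
  have hc0 : ∀ i j, ff (c i) (c j) = 0 := fun i j => hts 1 _ (hcD i) _ (hcD j)
  have hbc : ∀ i j, ff (b i) (c j) = if i = j then 1 else 0 := fun i j => by
    rw [show ff (b i) (c j) = φ (cc j) i from rfl, hcc, Pi.single_apply]
  have hcb : ∀ i j, ff (c j) (b i) = -(if i = j then 1 else 0) := fun i j => by rw [sympForm_skew, hbc]
  have hspan1 : ∀ v ∈ D 1, v = ff (b 0) v • c 0 + ff (b 1) v • c 1 := by
    intro v hv
    have h : φ ⟨v, hv⟩ = φ (ff (b 0) v • cc 0 + ff (b 1) v • cc 1) := by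
      rw [map_add, map_smul, map_smul, hcc, hcc]
      funext i
      fin_cases i <;> simp [φ]
    exact congrArg Subtype.val (hφi h)
  have hspan0' : ∀ u ∈ D 0, u = ff u (c 0) • b 0 + ff u (c 1) • b 1 := by
    intro u hu
    obtain ⟨s, t, rfl⟩ := hspan0 u hu
    simp [sympForm_add_left, sympForm_smul_left, hbc]
  let sg : Fin 2 → F := ![1, -1]
  let p : Fin 2 → Fin 2 → (ι₄ → F) := fun i => ![b 0 - sg i • c 1, b 1 + sg i • c 0]
  have hdec : IsNondegenerateMDecomposition ff 2 (fun i => Submodule.span F (Set.range (p i))) := by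
    refine decomp_of_pairs (fun x y => ?_) (fun i => ?_)
    · fin_cases x <;> fin_cases y <;>
        simp [p, sg, sub_eq_add_neg, ← neg_smul, sympForm_add_left, sympForm_add_right, sympForm_smul_left,
          sympForm_smul_right, hb0, hc0, hbc, hcb]
    · fin_cases i <;>
        simp [p, sg, sub_eq_add_neg, ← neg_smul, sympForm_add_left, sympForm_add_right, sympForm_smul_left,
          sympForm_smul_right, hb0, hc0, hbc, hcb] <;>
        intro h <;> first
          | exact h2 (by linear_combination h)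
          | exact h2 (by linear_combination -h)
  set D' : Fin 2 → Submodule F (ι₄ → F) := fun i => Submodule.span F (Set.range (p i)) with hD'
  refine ⟨D', hdec, ?_⟩
  rintro g ⟨⟨σ, hσ⟩, hg⟩
  let L : (ι₄ → F) →ₗ[F] (ι₄ → F) := Matrix.toLin' (g : Matrix ι₄ ι₄ F)
  have hiso : ∀ x y, ff (L x) (L y) = ff x y := fun x y => by
    simp only [L, Matrix.toLin'_apply]; exact hg x y
  have hLmem : ∀ i x, x ∈ D i → L x ∈ D (σ i) := fun i x hx => by
    rw [← hσ i]; exact Submodule.mem_map_of_mem hx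
  have hLinj : Function.Injective L := by
    intro x y h
    simp only [L, Matrix.toLin'_apply] at h
    have := congrArg (fun z => ((g⁻¹ : GL ι₄ F) : Matrix ι₄ ι₄ F) *ᵥ z) h
    simpa [Matrix.mulVec_mulVec] using this
  have hmemD' : ∀ (i : Fin 2) (s t : F), s • p i 0 + t • p i 1 ∈ D' i := fun i s t =>
    Submodule.add_mem _ (Submodule.smul_mem _ _ (Submodule.subset_span ⟨0, rfl⟩))
      (Submodule.smul_mem _ _ (Submodule.subset_span ⟨1, rfl⟩))
  -- a scalar `Δ = ±1` with `L` sending the plane of sign `s` into the plane of sign `sΔ`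
  obtain ⟨Δ, hΔ, hmove⟩ : ∃ Δ : F, (Δ = 1 ∨ Δ = -1) ∧ ∀ i, ∃ j, sg j = sg i * Δ ∧
      ∀ k, L (p i k) ∈ D' j := by
    have hsg : ∀ (i : Fin 2) (Δ : F), Δ = 1 ∨ Δ = -1 → ∃ j, sg j = sg i * Δ := by
      intro i Δ hΔ
      rcases hΔ with rfl | rfl
      · exact ⟨i, (mul_one _).symm⟩
      · exact ⟨Equiv.swap 0 1 i, by fin_cases i <;> simp [sg]⟩
    have hsg2 : ∀ i, sg i * sg i = 1 := fun i => by fin_cases i <;> simp [sg]
    rcases (show σ 0 = 0 ∨ σ 0 = 1 by generalize σ 0 = x; fin_cases x <;> simp) with h0 | h0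
    · have h1 : σ 1 = 1 := by
        rcases (show σ 1 = 0 ∨ σ 1 = 1 by generalize σ 1 = x; fin_cases x <;> simp) with h | h
        · exact absurd (σ.injective (h.trans h0.symm)) (by decide)
        · exact h
      have hL0 : ∀ x ∈ D 0, L x ∈ D 0 := fun x hx => by have := hLmem 0 x hx; rwa [h0] at this
      have hL1 : ∀ x ∈ D 1, L x ∈ D 1 := fun x hx => by have := hLmem 1 x hx; rwa [h1] at this
      set a := ff (L (b 0)) (c 0)
      set γ := ff (L (b 0)) (c 1)
      set β := ff (L (b 1)) (c 0)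
      set δ := ff (L (b 1)) (c 1)
      set x₀ := ff (b 0) (L (c 0))
      set x₁ := ff (b 1) (L (c 0))
      set y₀ := ff (b 0) (L (c 1))
      set y₁ := ff (b 1) (L (c 1))
      have hgb0 : L (b 0) = a • b 0 + γ • b 1 := hspan0' _ (hL0 _ (hbD 0))
      have hgb1 : L (b 1) = β • b 0 + δ • b 1 := hspan0' _ (hL0 _ (hbD 1))
      have hgc0 : L (c 0) = x₀ • c 0 + x₁ • c 1 := hspan1 _ (hL1 _ (hcD 0))
      have hgc1 : L (c 1) = y₀ • c 0 + y₁ • c 1 := hspan1 _ (hL1 _ (hcD 1))
      have e00 : a * x₀ + γ * x₁ = 1 := by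
        have := hiso (b 0) (c 0)
        rw [hgb0, hgc0] at this
        simp [sympForm_add_left, sympForm_add_right, sympForm_smul_left, sympForm_smul_right, hbc] at this
        linear_combination this
      have e01 : a * y₀ + γ * y₁ = 0 := by
        have := hiso (b 0) (c 1)
        rw [hgb0, hgc1] at this
        simp [sympForm_add_left, sympForm_add_right, sympForm_smul_left, sympForm_smul_right, hbc] at this
        linear_combination this
      have e10 : β * x₀ + δ * x₁ = 0 := by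
        have := hiso (b 1) (c 0)
        rw [hgb1, hgc0] at this
        simp [sympForm_add_left, sympForm_add_right, sympForm_smul_left, sympForm_smul_right, hbc] at this
        linear_combination this
      have e11 : β * y₀ + δ * y₁ = 1 := by
        have := hiso (b 1) (c 1)
        rw [hgb1, hgc1] at this
        simp [sympForm_add_left, sympForm_add_right, sympForm_smul_left, sympForm_smul_right, hbc] at this
        linear_combination this
      have hne : a * δ - β * γ ≠ 0 := by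
        intro hz
        have : (a * δ - β * γ) * (x₀ * y₁ - x₁ * y₀) = 1 := by
          linear_combination (β * y₀ + δ * y₁) * e00 + e11 - (β * x₀ + δ * x₁) * e01
        rw [hz, zero_mul] at this
        exact zero_ne_one this
      refine ⟨a * δ - β * γ, hunit _ hne, fun i => ?_⟩
      obtain ⟨j, hj⟩ := hsg i _ (hunit _ hne)
      have hΔ2 : (a * δ - β * γ) * (a * δ - β * γ) = 1 := by rcases hunit _ hne with h | h <;> rw [h] <;> ring
      have x0e : x₀ = (a * δ - β * γ) * δ := by
        linear_combination (a * δ - β * γ) * δ * e00 - (a * δ - β * γ) * γ * e10 - x₀ * hΔ2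
      have x1e : x₁ = -((a * δ - β * γ) * β) := by
        linear_combination -(a * δ - β * γ) * β * e00 + (a * δ - β * γ) * a * e10 - x₁ * hΔ2
      have y0e : y₀ = -((a * δ - β * γ) * γ) := by
        linear_combination (a * δ - β * γ) * δ * e01 - (a * δ - β * γ) * γ * e11 - y₀ * hΔ2
      have y1e : y₁ = (a * δ - β * γ) * a := by
        linear_combination -(a * δ - β * γ) * β * e01 + (a * δ - β * γ) * a * e11 - y₁ * hΔ2
      refine ⟨j, hj, fun k => ?_⟩
      have hk : L (p i k) = ![a, β] k • p j 0 + ![γ, δ] k • p j 1 := by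
        fin_cases k <;>
          · simp only [p, Matrix.cons_val_zero, Matrix.cons_val_one, Fin.zero_eta, Fin.mk_one, Fin.isValue,
              map_sub, map_add, map_smul, hgb0, hgb1, hgc0, hgc1, hj, x0e, x1e, y0e, y1e]
            module
      rw [hk]
      exact hmemD' j _ _
    · have h1 : σ 1 = 0 := by
        rcases (show σ 1 = 0 ∨ σ 1 = 1 by generalize σ 1 = x; fin_cases x <;> simp) with h | h
        · exact h
        · exact absurd (σ.injective (h.trans h0.symm)) (by decide)
      set a := ff (b 0) (L (b 0))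
      set γ := ff (b 1) (L (b 0))
      set β := ff (b 0) (L (b 1))
      set δ := ff (b 1) (L (b 1))
      set x₀ := ff (L (c 0)) (c 0)
      set x₁ := ff (L (c 0)) (c 1)
      set z₀ := ff (L (c 1)) (c 0)
      set z₁ := ff (L (c 1)) (c 1)
      have hL0 : ∀ x ∈ D 0, L x ∈ D 1 := fun x hx => by have := hLmem 0 x hx; rwa [h0] at this
      have hL1 : ∀ x ∈ D 1, L x ∈ D 0 := fun x hx => by have := hLmem 1 x hx; rwa [h1] at this
      have hgb0 : L (b 0) = a • c 0 + γ • c 1 := hspan1 _ (hL0 _ (hbD 0))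
      have hgb1 : L (b 1) = β • c 0 + δ • c 1 := hspan1 _ (hL0 _ (hbD 1))
      have hgc0 : L (c 0) = x₀ • b 0 + x₁ • b 1 := hspan0' _ (hL1 _ (hcD 0))
      have hgc1 : L (c 1) = z₀ • b 0 + z₁ • b 1 := hspan0' _ (hL1 _ (hcD 1))
      have e00 : -(a * x₀ + γ * x₁) = 1 := by
        have := hiso (b 0) (c 0)
        rw [hgb0, hgc0] at this
        simp [sympForm_add_left, sympForm_add_right, sympForm_smul_left, sympForm_smul_right, hcb, hbc] at this
        linear_combination this
      have e01 : -(a * z₀ + γ * z₁) = 0 := by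
        have := hiso (b 0) (c 1)
        rw [hgb0, hgc1] at this
        simp [sympForm_add_left, sympForm_add_right, sympForm_smul_left, sympForm_smul_right, hcb, hbc] at this
        linear_combination this
      have e10 : -(β * x₀ + δ * x₁) = 0 := by
        have := hiso (b 1) (c 0)
        rw [hgb1, hgc0] at this
        simp [sympForm_add_left, sympForm_add_right, sympForm_smul_left, sympForm_smul_right, hcb, hbc] at this
        linear_combination this
      have e11 : -(β * z₀ + δ * z₁) = 1 := by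
        have := hiso (b 1) (c 1)
        rw [hgb1, hgc1] at this
        simp [sympForm_add_left, sympForm_add_right, sympForm_smul_left, sympForm_smul_right, hcb, hbc] at this
        linear_combination this
      have hne : a * δ - β * γ ≠ 0 := by
        intro hz
        have : (a * δ - β * γ) * (x₀ * z₁ - x₁ * z₀) = 1 := by
          linear_combination -(β * z₀ + δ * z₁) * -1 * (-1) * e00 + e11 + (β * x₀ + δ * x₁) * e01
        rw [hz, zero_mul] at this
        exact zero_ne_one this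
      refine ⟨a * δ - β * γ, hunit _ hne, fun i => ?_⟩
      obtain ⟨j, hj⟩ := hsg i _ (hunit _ hne)
      have hΔ2 : (a * δ - β * γ) * (a * δ - β * γ) = 1 := by rcases hunit _ hne with h | h <;> rw [h] <;> ring
      have x0e : x₀ = -((a * δ - β * γ) * δ) := by
        linear_combination -(a * δ - β * γ) * δ * e00 + (a * δ - β * γ) * γ * e10 - x₀ * hΔ2
      have x1e : x₁ = (a * δ - β * γ) * β := by
        linear_combination (a * δ - β * γ) * β * e00 - (a * δ - β * γ) * a * e10 - x₁ * hΔ2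
      have z0e : z₀ = (a * δ - β * γ) * γ := by
        linear_combination -(a * δ - β * γ) * δ * e01 + (a * δ - β * γ) * γ * e11 - z₀ * hΔ2
      have z1e : z₁ = -((a * δ - β * γ) * a) := by
        linear_combination (a * δ - β * γ) * β * e01 - (a * δ - β * γ) * a * e11 - z₁ * hΔ2
      refine ⟨j, hj, fun k => ?_⟩
      have hk : L (p i k) = (-(sg j) * ![γ, δ] k) • p j 0 + (sg j * ![a, β] k) • p j 1 := by
        have := hsg2 j
        fin_cases k <;>
          · simp only [p, Matrix.cons_val_zero, Matrix.cons_val_one, Fin.zero_eta, Fin.mk_one, Fin.isValue,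
              map_sub, map_add, map_smul, hgb0, hgb1, hgc0, hgc1, x0e, x1e, z0e, z1e]
            rcases hunit _ hne with h | h <;> rw [h] at hj ⊢ <;>
              fin_cases i <;> fin_cases j <;> simp [sg] at hj ⊢ <;>
              first
                | module
                | exact absurd hj (fun h => h2 (by linear_combination h))
                | exact absurd hj (fun h => h2 (by linear_combination -h))
      rw [hk]
      exact hmemD' j _ _
  refine ⟨if Δ = 1 then 1 else Equiv.swap 0 1, fun i => ?_⟩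
  obtain ⟨j, hj, hk⟩ := hmove i
  have hji : j = (if Δ = 1 then (1 : Equiv.Perm (Fin 2)) else Equiv.swap 0 1) i := by
    have hne : (1 : F) ≠ -1 := fun h => h2 (by linear_combination h)
    rcases hΔ with rfl | rfl
    · rw [if_pos rfl]
      clear hk
      revert hj
      fin_cases i <;> fin_cases j <;> simp [sg, hne, hne.symm]
    · rw [if_neg hne.symm]
      clear hk
      revert hj
      fin_cases i <;> fin_cases j <;> simp [sg, hne, hne.symm]
  rw [← hji]
  refine Submodule.eq_of_le_of_finrank_eq (Submodule.map_le_iff_le_comap.mpr (Submodule.span_le.mpr ?_)) ?_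
  · rintro _ ⟨k, rfl⟩
    exact hk k
  · rw [(Submodule.equivMapOfInjective L hLinj (D' i)).finrank_eq.symm, hdec.decomp.finrank_eq, hdec.decomp.finrank_eq]

/-! ### The unitary field of degree two -/

/-- Binary digits of an element of `Fin 4`. -/
def ix : Fin 4 → Fin 2 → Fin 2 := ![![0, 0], ![0, 1], ![1, 0], ![1, 1]]

/-- A quaternion times a dihedral matrix in degree four. -/
def kq (x y : Fin 4) : Matrix (Fin 4) (Fin 4) (ZMod 3) :=
  Matrix.of fun i j => PauliTensor.pm true x (ix i 0) (ix j 0) * PauliTensor.pm false y (ix i 1) (ix j 1)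

/-- The form preserved by the unitary group in degree four. -/
def gq : Matrix (Fin 4) (Fin 4) (ZMod 3) :=
  Matrix.of fun i j => PauliTensor.pg true (ix i 0) (ix j 0) * PauliTensor.pg false (ix i 1) (ix j 1)

/-- A unitary matrix of degree two over nine elements, written over three elements. -/
def uq (p q r s p' q' r' s' : ZMod 3) : Matrix (Fin 4) (Fin 4) (ZMod 3) :=
  !![p, p', -r, -r'; q, q', -s, -s'; r, r', p, p'; s, s', q, q']

set_option synthInstance.maxSize 1000 in
set_option synthInstance.maxHeartbeats 200000 in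
lemma unitary_normalises : ∀ p q r s : ZMod 3, p * p + q * q + r * r + s * s = 1 →
    ∀ p' q' r' s' : ZMod 3, p' * p' + q' * q' + r' * r' + s' * s' = 1 →
      p * p' + q * q' + r * r' + s * s' = 0 → p * r' + q * s' - r * p' - s * q' = 0 →
      ∀ k : Fin 4, ∃ y z : Fin 4,
        uq p q r s p' q' r' s' * kq (![1, 2, 0, 0] k) (![0, 0, 1, 2] k) = kq y z * uq p q r s p' q' r' s' ∨
        uq p q r s p' q' r' s' * kq (![1, 2, 0, 0] k) (![0, 0, 1, 2] k) = -(kq y z * uq p q r s p' q' r' s') := by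
  decide +kernel

lemma gq_facts : gq * gq = -1 ∧ (kq 2 0)ᵀ * gq * kq 2 0 = gq ∧ kq 2 0 * kq 1 0 = -(kq 1 0 * kq 2 0) := by
  decide +kernel

lemma kq_one : kq 1 0 = !![0, 0, -1, 0; 0, 0, 0, -1; 1, 0, 0, 0; 0, 1, 0, 0] := by decide +kernel

lemma gq_eq : gq = !![0, 0, 1, 0; 0, 0, 0, 1; -1, 0, 0, 0; 0, -1, 0, 0] := by decide +kernel

lemma ix_bijective : Function.Bijective ix := by decide +kernel

/-- A non-degenerate symmetric form that is not identically zero on a subspace takes a non-zero value there. -/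
lemma exists_diag_ne_zero (h2 : (2 : F) ≠ 0) {β : (ι₄ → F) → (ι₄ → F) → F}
    (haddl : ∀ x y v, β (x + y) v = β x v + β y v) (hsymm : ∀ u v, β u v = β v u) {w w' : ι₄ → F}
    (h : β w w' ≠ 0) : β w w ≠ 0 ∨ β w' w' ≠ 0 ∨ β (w + w') (w + w') ≠ 0 := by
  by_contra hc
  push Not at hc
  obtain ⟨h1, h3, h4⟩ := hc
  rw [haddl, hsymm w, hsymm w', haddl, haddl, h1, h3, hsymm w' w] at h4
  exact mul_ne_zero h2 h (by linear_combination h4)

/-- Over three elements the normaliser of a degree-two unitary field normalises a group of symplectic type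
and minus type. -/
theorem unitary_le [Fintype F] [CharP F 3] (hq : Fintype.card F = 3) {K : Subalgebra F (Matrix ι₄ ι₄ F)}
    (hK : IsFieldSubalgebra 2 K) (hac : IsAdjointClosedFor ff K) (hsa : ¬ IsSelfAdjointFor ff K) :
    ∃ (e : ι₄ ≃ (Fin 2 → Fin 2)) (P : GL ι₄ F),
      subalgebraNormalizer K ⊓ spGL 2 F ≤ subgroupNormalizer (PauliTensor.pauliGroup ![true, false] e P) ∧
      PauliTensor.pauliGroup ![true, false] e P ≤ similarityGroup ff := by
  classical
  have h2 : (2 : F) ≠ 0 := PauliTensor.two_ne_zero'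
  have hbij : Function.Bijective (PauliTensor.toF (F := F)) :=
    (Fintype.bijective_iff_injective_and_card _).mpr ⟨PauliTensor.toF_injective, by rw [hq, ZMod.card]⟩
  have hthree : ∀ c : F, c = 0 ∨ c = 1 ∨ c = -1 := fun c => by
    obtain ⟨z, rfl⟩ := hbij.2 c
    rcases (show z = 0 ∨ z = 1 ∨ z = -1 by revert z; decide) with rfl | rfl | rfl <;> simp
  have hdom : ∀ x ∈ K, ∀ y ∈ K, x * y = 0 → x = 0 ∨ y = 0 := fun x hx y hy hxy => by
    by_contra hc
    push Not at hc
    obtain ⟨z, -, hz⟩ := hK.inv x hx hc.1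
    have hzx : z * x = 1 := mul_eq_one_comm.mp hz
    exact hc.2 (by rw [← one_mul y, ← hzx, mul_assoc, hxy, mul_zero])
  haveI : Nontrivial (Matrix ι₄ ι₄ F) := inferInstance
  -- a square root of `-1`
  obtain ⟨J, hJK, hJJ, hKspan⟩ : ∃ J ∈ K, J * J = -1 ∧ ∀ k ∈ K, ∃ a b : F, k = a • 1 + b • J := by
    obtain ⟨x, hxK, hx⟩ : ∃ x ∈ K, ∀ a : F, x ≠ a • 1 := by
      by_contra hc
      push Not at hc
      have hle : (Subalgebra.toSubmodule K) ≤ F ∙ (1 : Matrix ι₄ ι₄ F) := fun k hk => by
        obtain ⟨a, rfl⟩ := hc k hk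
        exact Submodule.mem_span_singleton.mpr ⟨a, rfl⟩
      have h := Submodule.finrank_mono hle
      rw [finrank_span_singleton (one_ne_zero (α := Matrix ι₄ ι₄ F))] at h
      rw [Subalgebra.finrank_toSubmodule] at h
      have := hK.finrank_eq
      omega
    have hspanx : ∀ k ∈ K, ∃ a b : F, k = a • 1 + b • x := by
      have hli : LinearIndependent F ![(⟨1, K.one_mem⟩ : K), ⟨x, hxK⟩] := by
        rw [LinearIndependent.pair_iff]
        intro a b hab
        have hab' : a • (1 : Matrix ι₄ ι₄ F) + b • x = 0 := congrArg Subtype.val hab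
        by_cases hb : b = 0
        · rw [hb, zero_smul, add_zero, smul_eq_zero] at hab'
          exact ⟨hab'.resolve_right one_ne_zero, hb⟩
        · refine absurd ?_ (hx (-(b⁻¹ * a)))
          rw [neg_smul, mul_smul, eq_neg_iff_add_eq_zero, ← inv_smul_smul₀ hb x, ← smul_add, add_comm, hab',
            smul_zero]
      have hcard : Fintype.card (Fin 2) = Module.finrank F K := by rw [Fintype.card_fin, hK.finrank_eq]
      intro k hk
      let B := basisOfLinearIndependentOfCardEqFinrank hli hcard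
      have h := congrArg Subtype.val (B.sum_repr ⟨k, hk⟩)
      rw [Fin.sum_univ_two, coe_basisOfLinearIndependentOfCardEqFinrank] at h
      exact ⟨_, _, h.symm⟩
    obtain ⟨a, b, hab⟩ := hspanx _ (K.mul_mem hxK hxK)
    set J := x - (b / 2) • (1 : Matrix ι₄ ι₄ F) with hJ
    have hJK : J ∈ K := K.sub_mem hxK (K.smul_mem K.one_mem _)
    have hJJ : J * J = (a + b * b / 4) • 1 := by
      simp only [hJ, sub_mul, mul_sub, Matrix.smul_mul, Matrix.mul_smul, one_mul, mul_one, hab, smul_smul]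
      have h4 : (4 : F) ≠ 0 := by
        rw [show (4 : F) = 2 * 2 by norm_num]; exact mul_ne_zero h2 h2
      have e1 : a + b * b / 4 = a - b / 2 * (b / 2) + 2 * (b / 2 * (b / 2)) := by field_simp; ring
      have e2 : b = b / 2 + b / 2 := by field_simp; ring
      rw [e1]
      nth_rewrite 1 [e2]
      module
    refine ⟨J, hJK, ?_, fun k hk => ?_⟩
    · rcases hthree (a + b * b / 4) with h | h | h <;> rw [h] at hJJ
      · rw [zero_smul] at hJJ
        have : J = 0 := (hdom J hJK J hJK hJJ).elim id id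
        exact absurd (sub_eq_zero.mp this) (hx _)
      · rw [one_smul] at hJJ
        have : (J - 1) * (J + 1) = 0 := by
          rw [sub_mul, mul_add, one_mul, mul_one, hJJ]; abel
        rcases hdom _ (K.sub_mem hJK K.one_mem) _ (K.add_mem hJK K.one_mem) this with h' | h'
        · refine absurd ?_ (hx (b / 2 + 1))
          have hJ1 := sub_eq_zero.mp h'
          rw [hJ, sub_eq_iff_eq_add] at hJ1
          rw [hJ1, add_smul, one_smul, add_comm]
        · refine absurd ?_ (hx (b / 2 - 1))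
          have hJ1 := eq_neg_of_add_eq_zero_left h'
          rw [hJ, sub_eq_iff_eq_add] at hJ1
          rw [hJ1, sub_smul, one_smul]
          abel
      · rw [hJJ, neg_one_smul]
    · obtain ⟨c, d, rfl⟩ := hspanx k hk
      exact ⟨c + d * (b / 2), d, by rw [hJ]; module⟩
  have hsq : ∀ y ∈ K, y * y = -1 → y = J ∨ y = -J := fun y hy hyy => by
    have : (y - J) * (y + J) = 0 := by
      rw [sub_mul, mul_add, mul_add, hyy, hJJ, hK.comm y hy J hJK]; abel
    rcases hdom _ (K.sub_mem hy hJK) _ (K.add_mem hy hJK) this with h | h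
    · exact Or.inl (sub_eq_zero.mp h)
    · exact Or.inr (eq_neg_of_add_eq_zero_left h)
  have hJv : ∀ v : ι₄ → F, J *ᵥ (J *ᵥ v) = -v := fun v => by
    rw [Matrix.mulVec_mulVec, hJJ, Matrix.neg_mulVec, Matrix.one_mulVec]
  have hneg : ∀ u v : ι₄ → F, ff u (-v) = -ff u v := fun u v => by
    rw [← neg_one_smul F v, sympForm_smul_right]; ring
  have hnegl : ∀ u v : ι₄ → F, ff (-u) v = -ff u v := fun u v => by
    rw [← neg_one_smul F u, sympForm_smul_left]; ring
  have hadj : ∀ u v, ff (J *ᵥ u) v = -ff u (J *ᵥ v) := by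
    obtain ⟨J', hJ', hJadj⟩ := hac J hJK
    have hJ'2 : J' * J' = -1 := by
      refine Matrix.toLin'.injective (LinearMap.ext fun v => ?_)
      rw [Matrix.toLin'_apply, Matrix.toLin'_apply, Matrix.neg_mulVec, Matrix.one_mulVec, ← Matrix.mulVec_mulVec,
        ← sub_eq_zero]
      by_contra h0
      obtain ⟨x, hx⟩ := sympForm_nondeg h0
      apply hx
      rw [sub_eq_add_neg, neg_neg, sympForm_add_right, ← hJadj, ← hJadj, hJv, hnegl]
      ring
    rcases hsq J' hJ' hJ'2 with rfl | rfl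
    · exfalso
      apply hsa
      intro k hk u v
      obtain ⟨a, b, rfl⟩ := hKspan k hk
      simp only [Matrix.add_mulVec, Matrix.smul_mulVec, Matrix.one_mulVec, sympForm_add_left, sympForm_add_right,
        sympForm_smul_left, sympForm_smul_right, hJadj]
    · exact fun u v => by rw [hJadj, Matrix.neg_mulVec, hneg]
  -- the hermitian form and an orthonormal pair
  let β : (ι₄ → F) → (ι₄ → F) → F := fun u v => ff (J *ᵥ u) v
  have haddl : ∀ x y v, β (x + y) v = β x v + β y v := fun x y v => by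
    simp only [β, Matrix.mulVec_add, sympForm_add_left]
  have haddr : ∀ u x y, β u (x + y) = β u x + β u y := fun u x y => by simp only [β, sympForm_add_right]
  have hsmull : ∀ (c : F) x v, β (c • x) v = c * β x v := fun c x v => by
    simp only [β, Matrix.mulVec_smul, sympForm_smul_left]
  have hsmulr : ∀ (c : F) u x, β u (c • x) = c * β u x := fun c u x => by simp only [β, sympForm_smul_right]
  have hsymm : ∀ u v, β u v = β v u := fun u v => by
    show ff (J *ᵥ u) v = ff (J *ᵥ v) u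
    rw [hadj v u, ← sympForm_skew]
  have hJβ : ∀ u v, β (J *ᵥ u) v = -β u (J *ᵥ v) := fun u v => hadj _ _
  have hβJ : ∀ u, β u (J *ᵥ u) = 0 := fun u => sympForm_self _
  have hnorm : ∀ u, β u u ≠ 0 → β u u = 1 ∨ β (u + J *ᵥ u) (u + J *ᵥ u) = 1 := fun u hu => by
    rcases hthree (β u u) with h | h | h
    · exact absurd h hu
    · exact Or.inl h
    · refine Or.inr ?_
      rw [haddl, haddr, haddr, hsymm (J *ᵥ u) u, hβJ, hJβ u (J *ᵥ u), hJv]
      rw [show β u (-u) = -β u u by rw [← neg_one_smul F u, hsmulr]; ring, h]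
      have h3 : (3 : F) = 0 := CharP.cast_eq_zero F 3
      linear_combination -h3
  haveI : Nonempty ι₄ := ⟨Sum.inl 0⟩
  obtain ⟨u₁, hu₁⟩ : ∃ u, β u u = 1 := by
    have hw : (Pi.single (Sum.inl 0) 1 : ι₄ → F) ≠ 0 := by simp
    obtain ⟨x, hx⟩ := sympForm_nondeg' (v := J *ᵥ (Pi.single (Sum.inl 0) 1 : ι₄ → F)) (fun h => hw (by
      have := congrArg (fun v => J *ᵥ v) h
      rwa [hJv, Matrix.mulVec_zero, neg_eq_zero] at this))
    rcases exists_diag_ne_zero h2 haddl hsymm hx with h | h | h <;>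
      rcases hnorm _ h with h' | h' <;> exact ⟨_, h'⟩
  let pr : (ι₄ → F) → (ι₄ → F) := fun v => v + (-β u₁ v) • u₁ + (-β (J *ᵥ u₁) v) • (J *ᵥ u₁)
  have hJu₁ : β (J *ᵥ u₁) (J *ᵥ u₁) = 1 := by
    rw [hJβ, hJv, ← neg_one_smul F u₁, hsmulr, hu₁]; ring
  have hpr : ∀ v, β u₁ (pr v) = 0 ∧ β (J *ᵥ u₁) (pr v) = 0 := fun v => by
    simp only [pr, haddr, hsmulr, hu₁, hJu₁, hsymm (J *ᵥ u₁) u₁, hβJ]
    constructor <;> ring
  obtain ⟨w, hw0, hw1, hw2⟩ : ∃ w, w ≠ 0 ∧ β u₁ w = 0 ∧ β (J *ᵥ u₁) w = 0 := by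
    by_contra hc
    push Not at hc
    have hle : (⊤ : Submodule F (ι₄ → F)) ≤ Submodule.span F (Set.range ![u₁, J *ᵥ u₁]) := fun v _ => by
      have hz : pr v = 0 := by
        by_contra hne
        exact hc _ hne (hpr v).1 (hpr v).2
      rw [show v = β u₁ v • u₁ + β (J *ᵥ u₁) v • (J *ᵥ u₁) from by
        rw [← sub_eq_zero, ← hz]; simp only [pr]; module]
      exact Submodule.add_mem _ (Submodule.smul_mem _ _ (Submodule.subset_span ⟨0, rfl⟩))
        (Submodule.smul_mem _ _ (Submodule.subset_span ⟨1, rfl⟩))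
    have h := Submodule.finrank_mono hle
    have h' := finrank_range_le_card (R := F) ![u₁, J *ᵥ u₁]
    rw [finrank_top, Module.finrank_fintype_fun_eq_card, Fintype.card_sum, Fintype.card_fin] at h
    rw [Set.finrank, Fintype.card_fin] at h'
    omega
  obtain ⟨u₂, hu₂, hu12, hJu12⟩ : ∃ u₂, β u₂ u₂ = 1 ∧ β u₁ u₂ = 0 ∧ β (J *ᵥ u₁) u₂ = 0 := by
    obtain ⟨x, hx⟩ := sympForm_nondeg' (v := J *ᵥ w) (fun h => hw0 (by
      have := congrArg (fun v => J *ᵥ v) h
      rwa [hJv, Matrix.mulVec_zero, neg_eq_zero] at this))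
    have hx' : β w (pr x) ≠ 0 := by
      simp only [pr, haddr, hsmulr, hsymm w u₁, hw1, hsymm w (J *ᵥ u₁), hw2, mul_zero, add_zero]
      exact hx
    obtain ⟨v, hv, hv1, hv2⟩ : ∃ v, β v v ≠ 0 ∧ β u₁ v = 0 ∧ β (J *ᵥ u₁) v = 0 := by
      rcases exists_diag_ne_zero h2 haddl hsymm hx' with h | h | h
      · exact ⟨w, h, hw1, hw2⟩
      · exact ⟨_, h, (hpr x).1, (hpr x).2⟩
      · exact ⟨_, h, by rw [haddr, hw1, (hpr x).1, add_zero], by rw [haddr, hw2, (hpr x).2, add_zero]⟩
    rcases hnorm v hv with h | h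
    · exact ⟨v, h, hv1, hv2⟩
    · refine ⟨_, h, ?_, ?_⟩
      · rw [haddr, hv1, show β u₁ (J *ᵥ v) = -β (J *ᵥ u₁) v by rw [hJβ, neg_neg], hv2]; ring
      · rw [haddr, hv2, hJβ, hJv, ← neg_one_smul F v, hsmulr, hv1]; ring
  -- the frame
  let ε : ι₄ ≃ Fin 4 := finSumFinEquiv
  let q : Fin 4 ≃ (Fin 2 → Fin 2) := Equiv.ofBijective ix ix_bijective
  let V : Fin 4 → (ι₄ → F) := ![u₁, u₂, J *ᵥ u₁, J *ᵥ u₂]
  set GF : Matrix (Fin 4) (Fin 4) F := gq.map PauliTensor.toF with hGF
  have hfJ : ∀ u v, ff u (J *ᵥ v) = -β u v := fun u v => by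
    show _ = -ff (J *ᵥ u) v
    rw [hadj, neg_neg]
  have hff : ∀ u v, ff u v = β u (J *ᵥ v) := fun u v => by
    show _ = ff (J *ᵥ u) (J *ᵥ v)
    rw [hadj, hJv, hneg, neg_neg]
  have hgram : ∀ a b, ff (V a) (V b) = -GF a b := by
    have h21 : β u₂ u₁ = 0 := by rw [hsymm, hu12]
    have hJ21 : β u₂ (J *ᵥ u₁) = 0 := by rw [hsymm, hJu12]
    have h1J2 : β u₁ (J *ᵥ u₂) = 0 := by
      rw [show β u₁ (J *ᵥ u₂) = -β (J *ᵥ u₁) u₂ by rw [hJβ, neg_neg], hJu12, neg_zero]
    have hJ11 : β (J *ᵥ u₁) u₁ = 0 := by rw [hsymm, hβJ]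
    have hJ22 : β (J *ᵥ u₂) u₂ = 0 := by rw [hsymm, hβJ]
    have hJ2u1 : β (J *ᵥ u₂) u₁ = 0 := by rw [hsymm, h1J2]
    intro a b
    fin_cases a <;> fin_cases b <;>
      simp [V, GF, gq_eq, hfJ, hadj, hJv, hneg, hff u₁ u₁, hff u₁ u₂, hff u₂ u₁, hff u₂ u₂, hu₁, hu₂,
        hu12, h21, hβJ, hJ21, h1J2, hJu12, hJ11, hJ22, hJ2u1, sympForm_self]
  let Pm : Matrix ι₄ ι₄ F := Matrix.of fun r s => V (ε s) r
  have hPm : ∀ u : Fin 4 → F, Pm *ᵥ (u ∘ ε) = ∑ a, u a • V a := fun u => by
    funext r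
    simp only [Matrix.mulVec, dotProduct, Pm, Matrix.of_apply, Function.comp_apply, Finset.sum_apply, Pi.smul_apply,
      smul_eq_mul]
    rw [← ε.sum_comp (fun a => u a * V a r)]
    exact Finset.sum_congr rfl fun s _ => mul_comm _ _
  have hform : ∀ u v : Fin 4 → F, ff (Pm *ᵥ (u ∘ ε)) (Pm *ᵥ (v ∘ ε)) = (-1) * (u ⬝ᵥ (GF *ᵥ v)) := fun u v => by
    simp only [hPm, sympForm_sum_left, sympForm_smul_left, sympForm_sum_right, sympForm_smul_right, hgram,
      dotProduct, Matrix.mulVec, Finset.mul_sum]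
    rw [Finset.sum_comm]
    exact Finset.sum_congr rfl fun a _ => Finset.sum_congr rfl fun b _ => by ring
  have hPu : IsUnit Pm := by
    rw [← Matrix.mulVec_injective_iff_isUnit, ← Matrix.coe_mulVecLin, ← LinearMap.ker_eq_bot, LinearMap.ker_eq_bot']
    intro x hx
    rw [Matrix.mulVecLin_apply] at hx
    have hx' : x = (x ∘ ε.symm) ∘ ε := by funext i; simp
    rw [hx'] at hx
    have h : (x ∘ ε.symm) ᵥ* GF = 0 := by
      funext b
      have h := hform (x ∘ ε.symm) (Pi.single b 1)
      rw [hx, sympForm_zero_left, Matrix.dotProduct_mulVec, dotProduct_single_one] at h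
      simpa using h.symm
    have h2' := congrArg (fun z => z ᵥ* GF) h
    simp only [Matrix.zero_vecMul, Matrix.vecMul_vecMul] at h2'
    rw [hGF, ← Matrix.map_mul, gq_facts.1, Matrix.map_neg _ (map_neg _), Matrix.map_one _ (map_zero _) (map_one _),
      Matrix.vecMul_neg, Matrix.vecMul_one, neg_eq_zero] at h2'
    rw [hx', h2']
    rfl
  let P : GL ι₄ F := hPu.unit
  have hPv : (P : Matrix ι₄ ι₄ F) = Pm := rfl
  let Φ := framed ε P
  let e : ι₄ ≃ (Fin 2 → Fin 2) := ε.trans q
  have hΦ : ∀ (A : Matrix (Fin 4) (Fin 4) F) (u : Fin 4 → F),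
      Φ A *ᵥ (Pm *ᵥ (u ∘ ε)) = Pm *ᵥ ((A *ᵥ u) ∘ ε) := fun A u => by
    rw [framed_apply, ← hPv, Matrix.mulVec_mulVec, mul_assoc, Units.inv_mul, mul_one, ← Matrix.mulVec_mulVec,
      Matrix.submatrix_mulVec_equiv, Function.comp_assoc, Equiv.self_comp_symm, Function.comp_id]
  have hmemSp : ∀ (g : GL ι₄ F) (A : Matrix (Fin 4) (Fin 4) F), (g : Matrix ι₄ ι₄ F) = Φ A →
      (g ∈ spGL 2 F ↔ Aᵀ * GF * A = GF) := by
    intro g A hg
    have key : ∀ u v : Fin 4 → F, ff ((g : Matrix ι₄ ι₄ F) *ᵥ (Pm *ᵥ (u ∘ ε))) ((g : Matrix ι₄ ι₄ F) *ᵥ (Pm *ᵥ (v ∘ ε))) =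
        (-1) * (u ⬝ᵥ ((Aᵀ * GF * A) *ᵥ v)) := fun u v => by
      rw [hg, hΦ, hΦ, hform, Matrix.mulVec_mulVec, Matrix.dotProduct_mulVec, ← Matrix.vecMul_transpose,
        Matrix.vecMul_vecMul, ← Matrix.dotProduct_mulVec, mul_assoc]
    constructor
    · intro hmem
      ext i j
      have h : ff ((g : Matrix ι₄ ι₄ F) *ᵥ (Pm *ᵥ (Pi.single i (1 : F) ∘ ε)))
          ((g : Matrix ι₄ ι₄ F) *ᵥ (Pm *ᵥ (Pi.single j (1 : F) ∘ ε))) =
          ff (Pm *ᵥ (Pi.single i (1 : F) ∘ ε)) (Pm *ᵥ (Pi.single j (1 : F) ∘ ε)) := hmem _ _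
      rw [key, hform] at h
      simpa using h
    · intro hA x y
      have hxy : ∀ z : ι₄ → F, ∃ u, z = Pm *ᵥ (u ∘ ε) := fun z =>
        ⟨(((P⁻¹ : GL ι₄ F) : Matrix ι₄ ι₄ F) *ᵥ z) ∘ ε.symm, by
          rw [Function.comp_assoc, Equiv.symm_comp_self, Function.comp_id, ← hPv, Matrix.mulVec_mulVec, Units.mul_inv,
            Matrix.one_mulVec]⟩
      obtain ⟨u, rfl⟩ := hxy x
      obtain ⟨v, rfl⟩ := hxy y
      show ff ((g : Matrix ι₄ ι₄ F) *ᵥ _) ((g : Matrix ι₄ ι₄ F) *ᵥ _) = _
      rw [key, hA, hform]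
  let ty : Fin 2 → Bool := ![true, false]
  have hpB : ∀ x : Fin 2 → Fin 4, PauliTensor.pB ty e P x = Φ ((kq (x 0) (x 1)).map PauliTensor.toF) := fun x => by
    have h : (PauliTensor.pT (F := F) ty x).submatrix q q = (kq (x 0) (x 1)).map PauliTensor.toF := by
      ext i j
      simp [PauliTensor.pT, pureTensor, Fin.prod_univ_two, kq, q, ty, Matrix.map_apply]
    rw [PauliTensor.pB, framed_apply, framed_apply, ← h, Matrix.submatrix_submatrix]
    rfl
  have hJΦ : J = Φ ((kq 1 0).map PauliTensor.toF) := by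
    refine Matrix.toLin'.injective (LinearMap.ext fun z => ?_)
    rw [Matrix.toLin'_apply, Matrix.toLin'_apply]
    obtain ⟨u, rfl⟩ : ∃ u, z = Pm *ᵥ (u ∘ ε) := ⟨(((P⁻¹ : GL ι₄ F) : Matrix ι₄ ι₄ F) *ᵥ z) ∘ ε.symm, by
      rw [Function.comp_assoc, Equiv.symm_comp_self, Function.comp_id, ← hPv, Matrix.mulVec_mulVec, Units.mul_inv,
        Matrix.one_mulVec]⟩
    rw [hΦ, hPm, hPm, Fin.sum_univ_four, Fin.sum_univ_four]
    simp [V, kq_one, Matrix.mulVec, dotProduct, Fin.sum_univ_four, Matrix.mulVec_add,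
      Matrix.mulVec_smul, hJv]
    module
  refine ⟨e, P, ?_, ?_⟩
  swap
  · refine PauliTensor.le_similarityGroup _ e P (c := -1) fun u v => ?_
    have h := hform (u ∘ q) (v ∘ q)
    rw [Function.comp_assoc, Function.comp_assoc] at h
    rw [show (P : Matrix ι₄ ι₄ F) = Pm from rfl, show (⇑e) = (⇑q ∘ ⇑ε) from rfl, h]
    congr 1
    simp only [dotProduct, Matrix.mulVec]
    rw [← q.sum_comp]
    refine Finset.sum_congr rfl fun a _ => ?_
    rw [← q.sum_comp]
    congr 1
    refine Finset.sum_congr rfl fun b _ => ?_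
    simp [GF, gq, q, pureTensor, Fin.prod_univ_two, Matrix.map_apply]
  set R := PauliTensor.pauliGroup ty e P
  have hcomm : ∀ g : GL ι₄ F, g ∈ spGL 2 F → (g : Matrix ι₄ ι₄ F) * J = J * (g : Matrix ι₄ ι₄ F) →
      g ∈ subgroupNormalizer R := by
    intro g hg hgJ
    obtain ⟨A, hA⟩ : ∃ A, (g : Matrix ι₄ ι₄ F) = Φ A := ⟨Φ.symm g, (Φ.apply_symm_apply _).symm⟩
    choose f hf using fun p : Fin 4 × Fin 4 => hbij.2 (A p.1 p.2)
    set Z : Matrix (Fin 4) (Fin 4) (ZMod 3) := Matrix.of fun i j => f (i, j) with hZ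
    have hZA : Z.map PauliTensor.toF = A := by ext i j; simp [Z, hf]
    have hinj : ∀ M N : Matrix (Fin 4) (Fin 4) (ZMod 3),
        M.map (PauliTensor.toF (F := F)) = N.map PauliTensor.toF → M = N := fun M N h =>
      Matrix.map_injective PauliTensor.toF_injective h
    have hZJ : Z * kq 1 0 = kq 1 0 * Z := hinj _ _ (by
      rw [Matrix.map_mul, Matrix.map_mul, hZA]
      apply Φ.injective
      rw [map_mul, map_mul, ← hJΦ, ← hA, hgJ])
    have hZG : Zᵀ * gq * Z = gq := hinj _ _ (by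
      rw [Matrix.map_mul, Matrix.map_mul, Matrix.transpose_map, hZA, ← hGF]
      exact (hmemSp g A hA).mp hg)
    have ej : ∀ i j, (Z * kq 1 0) i j = (kq 1 0 * Z) i j := fun i j => by rw [hZJ]
    have n : ∀ i j, (Zᵀ * gq * Z) i j = gq i j := fun i j => by rw [hZG]
    have j00 := ej 0 0; have j01 := ej 0 1; have j10 := ej 1 0; have j11 := ej 1 1
    have j20 := ej 2 0; have j21 := ej 2 1; have j30 := ej 3 0; have j31 := ej 3 1
    simp [Matrix.mul_apply, Fin.sum_univ_four, kq_one] at j00 j01 j10 j11 j20 j21 j30 j31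
    have hshape : Z = uq (Z 0 0) (Z 1 0) (Z 2 0) (Z 3 0) (Z 0 1) (Z 1 1) (Z 2 1) (Z 3 1) := by
      ext i j
      fin_cases i <;> fin_cases j <;> simp [uq] <;> first | assumption | exact neg_eq_iff_eq_neg.mp j00.symm
    have n02 := n 0 2; have n13 := n 1 3; have n03 := n 0 3; have n01 := n 0 1
    simp [Matrix.mul_apply, Fin.sum_univ_four, gq_eq, j00, j01, j10, j11, j20, j21, j30, j31]
      at n02 n13 n03 n01
    have hgen := unitary_normalises (Z 0 0) (Z 1 0) (Z 2 0) (Z 3 0) (by linear_combination n02)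
      (Z 0 1) (Z 1 1) (Z 2 1) (Z 3 1) (by linear_combination n13)
      (by linear_combination n03) (by linear_combination n01)
    rw [← hshape] at hgen
    let Good : (Fin 2 → Fin 4) → Prop := fun x => ∃ (s : F) (y : Fin 2 → Fin 4), (s = 1 ∨ s = -1) ∧
      (g : Matrix ι₄ ι₄ F) * PauliTensor.pB ty e P x = (s • PauliTensor.pB ty e P y) * (g : Matrix ι₄ ι₄ F)
    have hk : ∀ k : Fin 4, Good ![![1, 2, 0, 0] k, ![0, 0, 1, 2] k] := fun k => by
      obtain ⟨y, z, h | h⟩ := hgen k
      · refine ⟨1, ![y, z], Or.inl rfl, ?_⟩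
        rw [one_smul, hpB, hpB, hA, ← map_mul, ← map_mul]
        congr 1
        rw [← hZA, ← Matrix.map_mul, ← Matrix.map_mul]
        simp only [Matrix.cons_val_zero, Matrix.cons_val_one, h]
      · refine ⟨-1, ![y, z], Or.inr rfl, ?_⟩
        rw [neg_one_smul, hpB, hpB, hA, neg_mul, ← map_mul, ← map_mul, ← map_neg]
        congr 1
        rw [← hZA, ← Matrix.map_mul, ← Matrix.map_mul, ← Matrix.map_neg _ (map_neg _)]
        simp only [Matrix.cons_val_zero, Matrix.cons_val_one, h]
    have hmul : ∀ x x', Good x → Good x' → Good (fun i => PauliTensor.xr (x i) (x' i)) := by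
      rintro x x' ⟨s, y, hs, hy⟩ ⟨s', y', hs', hy'⟩
      have ht : PauliTensor.tsgn (F := F) ty x x' ≠ 0 := by
        rcases PauliTensor.tsgn_cases (F := F) ty x x' with h | h <;> rw [h] <;> simp
      refine ⟨(PauliTensor.tsgn ty x x')⁻¹ * (s * s' * PauliTensor.tsgn ty y y'), fun i => PauliTensor.xr (y i) (y' i),
        ?_, ?_⟩
      · rcases hs with rfl | rfl <;> rcases hs' with rfl | rfl <;>
          rcases PauliTensor.tsgn_cases (F := F) ty x x' with h | h <;>
          rcases PauliTensor.tsgn_cases (F := F) ty y y' with h' | h' <;> simp [h, h']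
      · have h : (g : Matrix ι₄ ι₄ F) * (PauliTensor.pB ty e P x * PauliTensor.pB ty e P x') =
            (s * s') • (PauliTensor.pB ty e P y * PauliTensor.pB ty e P y') * (g : Matrix ι₄ ι₄ F) := by
          rw [← mul_assoc, hy, mul_assoc, hy', ← mul_assoc, Matrix.smul_mul, Matrix.mul_smul, smul_smul]
        rw [PauliTensor.pB_mul, PauliTensor.pB_mul, Matrix.mul_smul, smul_smul] at h
        rw [mul_smul, Matrix.smul_mul, ← h, smul_smul, inv_mul_cancel₀ ht, one_smul]
    have h0 : Good 0 := ⟨1, 0, Or.inl rfl, by rw [PauliTensor.pB_zero, one_smul, one_mul, mul_one]⟩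
    refine PauliTensor.mem_normalizer_of_conj ty e P fun x => ?_
    show Good x
    have hleft : ∀ a : Fin 4, Good ![a, 0] := by
      intro a
      fin_cases a
      · convert h0 using 1; funext i; fin_cases i <;> rfl
      · exact hk 0
      · exact hk 1
      · convert hmul _ _ (hk 0) (hk 1) using 1; funext i; fin_cases i <;> rfl
    have hright : ∀ a : Fin 4, Good ![0, a] := by
      intro a
      fin_cases a
      · convert h0 using 1; funext i; fin_cases i <;> rfl
      · exact hk 2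
      · exact hk 3
      · convert hmul _ _ (hk 2) (hk 3) using 1; funext i; fin_cases i <;> rfl
    convert hmul _ _ (hleft (x 0)) (hright (x 1)) using 1
    funext i
    have hz : ∀ a, PauliTensor.xr a 0 = a ∧ PauliTensor.xr 0 a = a := by decide
    fin_cases i
    · exact (hz (x 0)).1.symm
    · exact (hz (x 1)).2.symm
  rintro g ⟨hgK, hg⟩
  have hc : (g : Matrix ι₄ ι₄ F) * J * ((g⁻¹ : GL ι₄ F) : Matrix ι₄ ι₄ F) ∈ K := (hgK J).mp hJK
  have hc2 : ((g : Matrix ι₄ ι₄ F) * J * ((g⁻¹ : GL ι₄ F) : Matrix ι₄ ι₄ F)) *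
      ((g : Matrix ι₄ ι₄ F) * J * ((g⁻¹ : GL ι₄ F) : Matrix ι₄ ι₄ F)) = -1 := by
    simp only [mul_assoc]
    rw [← mul_assoc (((g⁻¹ : GL ι₄ F) : Matrix ι₄ ι₄ F)), Units.inv_mul, one_mul, ← mul_assoc J J, hJJ, neg_mul,
      one_mul, mul_neg, Units.mul_inv]
  have hgi : ∀ M : Matrix ι₄ ι₄ F, (g : Matrix ι₄ ι₄ F) * J * ((g⁻¹ : GL ι₄ F) : Matrix ι₄ ι₄ F) = M →
      (g : Matrix ι₄ ι₄ F) * J = M * (g : Matrix ι₄ ι₄ F) := fun M h => by
    rw [← h, mul_assoc _ _ (g : Matrix ι₄ ι₄ F), Units.inv_mul, mul_one]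
  rcases hsq _ hc hc2 with h | h
  · exact hcomm g hg (hgi _ h)
  · let r : GL ι₄ F := PauliTensor.pU ty e P true ![2, 0]
    have hr : (r : Matrix ι₄ ι₄ F) = Φ ((kq 2 0).map PauliTensor.toF) := by
      show (if true then (1 : F) else -1) • PauliTensor.pB ty e P ![2, 0] = _
      rw [if_pos rfl, one_smul, hpB]
      rfl
    have hrN : r ∈ subgroupNormalizer R := Subgroup.le_normalizer (PauliTensor.pU_mem ty e P true ![2, 0])
    have hrSp : r ∈ spGL 2 F := (hmemSp r _ hr).mpr (by
      rw [hGF, ← Matrix.transpose_map, ← Matrix.map_mul, ← Matrix.map_mul, gq_facts.2.1])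
    have hrJ : (r : Matrix ι₄ ι₄ F) * J = -(J * (r : Matrix ι₄ ι₄ F)) := by
      rw [hr, hJΦ, ← map_mul, ← map_mul, ← map_neg, ← Matrix.map_mul, ← Matrix.map_mul,
        ← Matrix.map_neg _ (map_neg _), gq_facts.2.2]
    have hmem := hcomm (r * g) (Subgroup.mul_mem _ hrSp hg) (by
      rw [Units.val_mul, mul_assoc, hgi _ h, neg_mul, mul_neg, ← mul_assoc, hrJ, neg_mul, neg_neg, mul_assoc])
    simpa using Subgroup.mul_mem _ (Subgroup.inv_mem _ hrN) hmem

end Cfsg.Agent.Lib.MaxClass.SympFourThree
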