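import Mathlib
import Cfsg.Prelude.Def_GeometricClasses
import Cfsg.Agent.Lib.Aschbacher.Symplectic
import Cfsg.Agent.Lib.MaxClass.LinearMax
import Cfsg.Agent.Lib.MaxClass.SympSmall

/-!
Maximal subgroups of the symplectic groups: one of the geometric types, with the parameters that can
occur, or in the residual class.
-/

set_option autoImplicit false
set_option linter.style.haveILetI false

namespace Cfsg.Agent.Lib.MaxClass

open Cfsg Cfsg.Geo Matrix
open Cfsg.Agent.Lib.Aschbacher

variable {F : Type*} [Field F] {m : ℕ}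

local notation "ιS" => (Fin m ⊕ Fin m)

/-- A non-degenerate subspace of a symplectic space has even dimension. -/
theorem even_finrank_of_nondegenerateOn {W : Submodule F (ιS → F)}
    (hW : IsNondegenerateOn (sympForm m F) W) : Even (Module.finrank F W) := by
  classical
  let b := Module.finBasis F W
  set d := Module.finrank F W with hd
  let G : Matrix (Fin d) (Fin d) F := Matrix.of fun i j => sympForm m F (b i : ιS → F) (b j : ιS → F)
  have hG : ∀ u v : Fin d → F, u ⬝ᵥ (G *ᵥ v) =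
      sympForm m F ((∑ i, u i • b i : W) : ιS → F) ((∑ j, v j • b j : W) : ιS → F) := by
    intro u v
    simp only [Submodule.coe_sum, Submodule.coe_smul, sympForm_sum_left, sympForm_smul_left, sympForm_sum_right,
      sympForm_smul_right, dotProduct, Matrix.mulVec, G, Matrix.of_apply, Finset.mul_sum]
    rw [Finset.sum_comm]
    refine Finset.sum_congr rfl fun i _ => Finset.sum_congr rfl fun j _ => ?_
    ring
  have halt : ∀ v : Fin d → F, v ⬝ᵥ (G *ᵥ v) = 0 := fun v => by rw [hG, sympForm_self]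
  have hu : IsUnit G := by
    rw [Matrix.isUnit_iff_isUnit_det, isUnit_iff_ne_zero]
    intro h0
    obtain ⟨v, hv0, hv⟩ := Matrix.exists_mulVec_eq_zero_iff.mpr h0
    set w : W := ∑ j, v j • b j with hw
    have hw0 : (w : ιS → F) ≠ 0 := by
      intro h
      apply hv0
      funext j
      exact Fintype.linearIndependent_iff.mp b.linearIndependent v (Subtype.ext h) j
    obtain ⟨⟨x, hx, hxw⟩, -⟩ := hW w w.2 hw0
    apply hxw
    have := hG (fun i => b.repr ⟨x, hx⟩ i) v
    rw [hv, dotProduct_zero, b.sum_repr] at this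
    exact this.symm
  have h := Cfsg.Agent.Lib.AlternatingRank.even_rank_of_alt G halt
  rwa [Matrix.rank_of_isUnit _ hu, Fintype.card_fin] at h

/-- Maximal subgroups of `Sp_2m(F)`, `m ≥ 2`. -/
theorem symplectic_max [Fintype F] (hm : 2 ≤ m) {H : Subgroup (GL ιS F)}
    (hH : IsMaximalIn (spGL m F) H) :
    (∃ W : Submodule F (ιS → F), W ≠ ⊥ ∧ IsTotallySingularFor (sympForm m F) W ∧
      H = subspaceStabilizer W ⊓ spGL m F) ∨
    (∃ W : Submodule F (ιS → F), W ≠ ⊥ ∧ IsNondegenerateOn (sympForm m F) W ∧ Module.finrank F W < m ∧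
      Even (Module.finrank F W) ∧ H = subspaceStabilizer W ⊓ spGL m F) ∨
    (∃ (t k : ℕ) (D : Fin t → Submodule F (ιS → F)), IsNondegenerateMDecomposition (sympForm m F) k D ∧
      2 ≤ t ∧ Even k ∧ t * k = m + m ∧ (k = 2 → 3 ≤ Fintype.card F) ∧
      H = decompositionStabilizer D ⊓ spGL m F) ∨
    (∃ D : Fin 2 → Submodule F (ιS → F), Odd (Fintype.card F) ∧ IsMDecomposition m D ∧
      (∀ i, IsTotallySingularFor (sympForm m F) (D i)) ∧ H = decompositionStabilizer D ⊓ spGL m F) ∨
    (∃ (r : ℕ) (K : Subalgebra F (Matrix ιS ιS F)), r.Prime ∧ r ∣ m ∧ IsFieldSubalgebra r K ∧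
      IsSelfAdjointFor (sympForm m F) K ∧ (∀ k ∈ K, ∀ v : ιS → F, sympForm m F (k *ᵥ v) v = 0) ∧
      H = subalgebraNormalizer K ⊓ spGL m F) ∨
    (∃ K : Subalgebra F (Matrix ιS ιS F), Odd (Fintype.card F) ∧ IsFieldSubalgebra 2 K ∧
      IsAdjointClosedFor (sympForm m F) K ∧ ¬ IsSelfAdjointFor (sympForm m F) K ∧
      H = subalgebraNormalizer K ⊓ spGL m F) ∨
    (∃ (n₁ n₂ : ℕ) (e : ιS ≃ Fin n₁ × Fin n₂) (P : GL ιS F)
      (f₁ : (Fin n₁ → F) → (Fin n₁ → F) → F) (f₂ : (Fin n₂ → F) → (Fin n₂ → F) → F),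
      Odd (Fintype.card F) ∧ 3 ≤ n₂ ∧ 2 ≤ n₁ ∧ Even n₁ ∧ n₁ * n₂ = m + m ∧ (n₂ = 3 → 5 ≤ Fintype.card F) ∧
      IsSymplecticForm f₁ ∧ IsSymmetricForm f₂ ∧ IsTensorFormStructure id (sympForm m F) f₁ f₂ e P ∧
      H = tensorProductSubgroup n₁ n₂ e P ⊓ spGL m F) ∨
    (∃ (F₀ : Subfield F) (r : ℕ) (P : GL ιS F) (ζ : F), r.Prime ∧ Fintype.card F = Nat.card F₀ ^ r ∧ ζ ≠ 0 ∧
      IsFormRationalStructure (sympForm m F) F₀ ζ P ∧ H = subfieldSubgroup F₀ P ⊓ spGL m F) ∨
    (∃ (p : ℕ) (R : Subgroup (GL ιS F)) (k : ℕ), p.Prime ∧ Odd p ∧ Fintype.card F = p ∧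
      IsSymplecticTypeGroup 2 R ∧ ActsAbsolutelyIrreducibly (matrixSet R) ∧ R ≤ similarityGroup (sympForm m F) ∧
      Nat.card R = 2 ^ (1 + 2 * k) ∧ m + m = 2 ^ k ∧ Nat.card (Subgroup.center R) = 2 ∧ IsOfMinusType k R ∧
      H = subgroupNormalizer R ⊓ spGL m F) ∨
    (∃ (k t : ℕ) (e : ιS ≃ (Fin t → Fin k)) (P : GL ιS F) (f₁ : (Fin k → F) → (Fin k → F) → F),
      Odd (Fintype.card F) ∧ Odd t ∧ 3 ≤ t ∧ 2 ≤ k ∧ Even k ∧ k ^ t = m + m ∧ ¬ (Fintype.card F = 3 ∧ k = 2) ∧
      IsSymplecticForm f₁ ∧ IsTensorPowerFormStructure id (sympForm m F) f₁ e P ∧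
      H = tensorWreathSubgroup k t e P ⊓ spGL m F) ∨
    (∃ Q : (ιS → F) → F, ¬ Odd (Fintype.card F) ∧ IsNondegenerateQuadraticForm Q ∧
      (∀ u v, QuadraticMap.polar Q u v = sympForm m F u v) ∧ H = quadSimilarityGroup Q ⊓ spGL m F) ∨
    InSymplecticResidualClass H := by
  classical
  haveI : Nonempty ιS := ⟨Sum.inl ⟨0, by omega⟩⟩
  have hcardι : Fintype.card ιS = m + m := by rw [Fintype.card_sum, Fintype.card_fin]
  rcases symplectic_class_or_residual (by omega) H hH.1.le with ⟨M, hM, hle⟩ | hres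
  swap
  · right; right; right; right; right; right; right; right; right; right; right
    exact hres
  -- replace `H` by any group above it not containing `Sp`
  have heq : ∀ X : Subgroup (GL ιS F), H ≤ X → ¬ spGL m F ≤ X → H = X ⊓ spGL m F := fun X h1 h2 =>
    eq_inf_of_maximal_le hH h1 h2
  have h2q : ¬ Odd (Fintype.card F) → (2 : F) = 0 := two_eq_zero_of_not_odd
  rcases hM with (h | h | h | h | h | h | h) | h | h | h | h
  · obtain ⟨W, h0, hts, rfl⟩ := h
    have h1 : W ≠ ⊤ := by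
      rintro rfl
      obtain ⟨w, -, hw⟩ := (⊤ : Submodule F (ιS → F)).ne_bot_iff.mp h0
      obtain ⟨x, hx⟩ := sympForm_nondeg hw
      exact hx (hts x trivial w trivial)
    exact Or.inl ⟨W, h0, hts, heq _ (hle.trans inf_le_left) (sp_not_le_subspaceStabilizer h0 h1)⟩
  · obtain ⟨W, h0, hnd, hlt, rfl⟩ := h
    have h1 : W ≠ ⊤ := by
      rintro rfl
      rw [finrank_top, Module.finrank_fintype_fun_eq_card, hcardι] at hlt
      omega
    exact Or.inr (Or.inl ⟨W, h0, hnd, hlt, even_finrank_of_nondegenerateOn hnd,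
      heq _ (hle.trans inf_le_left) (sp_not_le_subspaceStabilizer h0 h1)⟩)
  · obtain ⟨t, k, D, hD, rfl⟩ := h
    have htk : t * k = m + m := by rw [isMDecomposition_card hD.decomp, hcardι]
    have hkev : Even k := by
      let i : Fin t := ⟨0, lt_of_lt_of_le Nat.zero_lt_two hD.decomp.two_le⟩
      have h := even_finrank_of_nondegenerateOn (hD.nondegenerate i)
      rwa [hD.decomp.finrank_eq] at h
    by_cases h22 : k = 2 ∧ Fintype.card F = 2
    · obtain ⟨rfl, hq⟩ := h22
      obtain ⟨Q, hQ, hpol, hQle⟩ := sp_planes_card_two hq hD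
      right; right; right; right; right; right; right; right; right; right; left
      exact ⟨Q, by rw [hq]; decide, hQ, hpol, heq _ (hle.trans hQle)
        (sp_not_le_quadSimilarityGroup hm (h2q (by rw [hq]; decide)) hQ hpol)⟩
    have hq1 : 1 < Fintype.card F := Fintype.one_lt_card
    exact Or.inr (Or.inr (Or.inl ⟨t, k, D, hD, hD.decomp.two_le, hkev, htk, fun hk => by omega,
      heq _ (hle.trans inf_le_left) (sp_not_le_decompositionStabilizer hD.decomp)⟩))
  · obtain ⟨D, hodd, hD, hts, rfl⟩ := h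
    exact Or.inr (Or.inr (Or.inr (Or.inl ⟨D, hodd, hD, hts,
      heq _ (hle.trans inf_le_left) (sp_not_le_decompositionStabilizer hD)⟩)))
  · obtain ⟨F₀, r, P, ζ, hr, hcard, hζ, hstr, rfl⟩ := h
    right; right; right; right; right; right; right; left
    refine ⟨F₀, r, P, ζ, hr, hcard, hζ, hstr,
      heq _ (hle.trans inf_le_left) (sp_not_le_subfieldSubgroup (by omega) ?_ P)⟩
    rintro rfl
    have htop : Nat.card (⊤ : Subfield F) = Fintype.card F := by
      rw [← Nat.card_eq_fintype_card]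
      exact Nat.card_congr Subfield.topEquiv.toEquiv
    rw [htop] at hcard
    have hlt := Nat.pow_lt_pow_right (Fintype.one_lt_card (α := F)) hr.one_lt
    rw [pow_one] at hlt
    exact hlt.ne hcard
  · obtain ⟨R, p, k, hR, hirr, hsim, hp, hodd, hcard, hRc, hz, hminus, rfl⟩ := h
    haveI : Fact p.Prime := ⟨hp⟩
    haveI : CharP F p := charP_of_card_eq_prime (by rw [hcard])
    right; right; right; right; right; right; right; right; left
    exact ⟨p, R, k, hp, hodd, hcard, hR, hirr, hsim, hRc, sympType_two_degree (by omega) hodd hR hirr hz hRc, hz,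
      hminus, heq _ (hle.trans inf_le_left) (sp_not_le_subgroupNormalizer hm hodd hR hirr hsim hz hRc)⟩
  · obtain ⟨Q, hodd, hQ, hpol, rfl⟩ := h
    right; right; right; right; right; right; right; right; right; right; left
    exact ⟨Q, hodd, hQ, hpol, heq _ (hle.trans inf_le_left)
      (sp_not_le_quadSimilarityGroup hm (h2q hodd) hQ hpol)⟩
  · obtain ⟨r, K, hr, hK, hsa, halt, rfl⟩ := h
    right; right; right; right; left
    exact ⟨r, K, hr, degree_dvd_of_selfAdjoint hK hsa halt, hK, hsa, halt,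
      heq _ (hle.trans inf_le_left) (sp_not_le_subalgebraNormalizer hm hr.two_le hK)⟩
  · obtain ⟨K, hodd, hK, hac, hsa, rfl⟩ := h
    right; right; right; right; right; left
    exact ⟨K, hodd, hK, hac, hsa, heq _ (hle.trans inf_le_left) (sp_not_le_subalgebraNormalizer hm le_rfl hK)⟩
  · obtain ⟨n₁, n₂, e, P, f₁, f₂, hodd, hn₂, hf₁, hf₂, hstr, rfl⟩ := h
    have hnn : n₁ * n₂ = m + m := by
      have h := Fintype.card_congr e
      rw [hcardι, Fintype.card_prod, Fintype.card_fin, Fintype.card_fin] at h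
      exact h.symm
    have hn₁e : Even n₁ := by
      have h := even_of_isSymplecticForm hf₁
      rwa [Fintype.card_fin] at h
    have hn₁ : 2 ≤ n₁ := by
      obtain ⟨j, hj⟩ := hn₁e
      rcases Nat.eq_zero_or_pos n₁ with h0 | h0
      · rw [h0, zero_mul] at hnn; omega
      · omega
    by_cases h33 : n₂ = 3 ∧ Fintype.card F = 3
    · obtain ⟨rfl, hq⟩ := h33
      obtain ⟨D, hD, hDle⟩ := sp_tensor_card_three hq hf₁ hf₂ (by omega) hstr
      exact Or.inr (Or.inr (Or.inl ⟨3, n₁, D, hD, by norm_num, hn₁e, by omega, fun _ => by omega,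
        heq _ (hle.trans hDle) (sp_not_le_decompositionStabilizer hD.decomp)⟩))
    right; right; right; right; right; right; left
    refine ⟨n₁, n₂, e, P, f₁, f₂, hodd, hn₂, hn₁, hn₁e, hnn, fun h3 => ?_, hf₁, hf₂, hstr,
      heq _ (hle.trans inf_le_left) (sp_not_le_tensorProductSubgroup hn₁ (by omega) e P)⟩
    have hq1 : 1 < Fintype.card F := Fintype.one_lt_card
    obtain ⟨j, hj⟩ := hodd
    omega
  · obtain ⟨k, t, e, P, f₁, hodd, htodd, ht, hex, hf₁, hstr, rfl⟩ := h
    have hkt : k ^ t = m + m := by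
      have h := Fintype.card_congr e
      rw [hcardι, Fintype.card_fun, Fintype.card_fin, Fintype.card_fin] at h
      exact h.symm
    have hke : Even k := by
      have h := even_of_isSymplecticForm hf₁
      rwa [Fintype.card_fin] at h
    have hk : 2 ≤ k := by
      obtain ⟨j, hj⟩ := hke
      rcases Nat.eq_zero_or_pos k with h0 | h0
      · rw [h0, zero_pow (by omega)] at hkt; omega
      · omega
    right; right; right; right; right; right; right; right; right; left
    exact ⟨k, t, e, P, f₁, hodd, htodd, ht, hk, hke, hkt, hex, hf₁, hstr,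
      heq _ (hle.trans inf_le_left) (sp_not_le_tensorWreathSubgroup (by omega) hk (by omega) e P)⟩

end Cfsg.Agent.Lib.MaxClass
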