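import Mathlib
import Cfsg.Prelude.Def_GeometricClasses
import Cfsg.Agent.Lib.Aschbacher.UnitarySubfield
import Cfsg.Agent.Lib.MaxClass.NotTop

/-!
Unitary transvections: the special unitary group is in no stabiliser of a subspace or of a
decomposition, and in no normaliser of an extension field.
-/

set_option autoImplicit false
set_option linter.style.haveILetI false

namespace Cfsg.Agent.Lib.MaxClass.Unitary

open Cfsg Cfsg.Geo Matrix
open Cfsg.Agent.Lib.Aschbacher
open Cfsg.Agent.Lib.MaxClass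

set_option maxHeartbeats 1000000

variable {F : Type*} [Field F] [Fintype F] {n q : ℕ} {σ : F ≃+* F}

/-- The determinant-one isometries of the standard unitary form, as matrices. -/
abbrev suGL (n : ℕ) (F : Type*) [Field F] (q : ℕ) : Subgroup (GL (Fin n) F) :=
  GU n F q ⊓ specialLinear (Fin n) F

/-! ### The form -/

lemma herm_eq (hσ : IsQAut q σ) (u v : Fin n → F) :
    hermForm n F q u v = (fun i => σ (v i)) ⬝ᵥ u := by
  rw [dotProduct_comm]
  exact Finset.sum_congr rfl fun i _ => by simp only [hσ.eq_pow]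

lemma herm_add_left (hσ : IsQAut q σ) (x y v : Fin n → F) :
    hermForm n F q (x + y) v = hermForm n F q x v + hermForm n F q y v := by
  simp only [herm_eq hσ, dotProduct_add]

lemma herm_smul_left (hσ : IsQAut q σ) (c : F) (x v : Fin n → F) :
    hermForm n F q (c • x) v = c * hermForm n F q x v := by
  simp only [herm_eq hσ, dotProduct_smul, smul_eq_mul]

lemma herm_zero_left (hσ : IsQAut q σ) (v : Fin n → F) : hermForm n F q 0 v = 0 := by
  simp [herm_eq hσ]

lemma herm_comm (hσ : IsQAut q σ) (u v : Fin n → F) : σ (hermForm n F q v u) = hermForm n F q u v := by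
  simp only [herm_eq hσ, dotProduct, map_sum, map_mul, hσ.invol]
  exact Finset.sum_congr rfl fun i _ => mul_comm _ _

lemma herm_add_right (hσ : IsQAut q σ) (v x y : Fin n → F) :
    hermForm n F q v (x + y) = hermForm n F q v x + hermForm n F q v y := by
  rw [← herm_comm hσ, herm_add_left hσ, map_add, herm_comm hσ, herm_comm hσ]

lemma herm_smul_right (hσ : IsQAut q σ) (c : F) (v x : Fin n → F) :
    hermForm n F q v (c • x) = σ c * hermForm n F q v x := by
  rw [← herm_comm hσ, herm_smul_left hσ, map_mul, herm_comm hσ]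

lemma herm_single_left (hσ : IsQAut q σ) (i : Fin n) (c : F) (v : Fin n → F) :
    hermForm n F q (Pi.single i c) v = c * σ (v i) := by
  rw [herm_eq hσ, dotProduct_single, mul_comm]

lemma herm_single_right (hσ : IsQAut q σ) (i : Fin n) (c : F) (v : Fin n → F) :
    hermForm n F q v (Pi.single i c) = v i * σ c := by
  rw [← herm_comm hσ, herm_single_left hσ, map_mul, hσ.invol, mul_comm]

lemma eq_zero_of_herm (hσ : IsQAut q σ) {w : Fin n → F} (h : ∀ v, hermForm n F q v w = 0) : w = 0 := by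
  funext i
  have h1 := h (Pi.single i 1)
  rw [herm_single_left hσ, one_mul, map_eq_zero_iff σ σ.injective] at h1
  exact h1

/-! ### Scalars -/

lemma exists_skew (hσ : IsQAut q σ) : ∃ a : F, a ≠ 0 ∧ a + σ a = 0 := by
  obtain ⟨x, hx⟩ : ∃ x, σ x ≠ x := by
    by_contra h
    push Not at h
    exact hσ.ne_refl (RingEquiv.ext h)
  exact ⟨σ x - x, sub_ne_zero.mpr hx, by rw [map_sub, hσ.invol]; ring⟩

lemma exists_norm (hσ : IsQAut q σ) {c : F} (hc : σ c = c) : ∃ x : F, x * σ x = c :=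
  Cfsg.Agent.Lib.Forms.exists_norm_eq (σ := (σ : F →+* F))
    (fun h => hσ.ne_refl (RingEquiv.ext fun z => RingHom.congr_fun h z)) hσ.invol hc

lemma exists_rho (hσ : IsQAut q σ) : ∃ ρ : F, ρ * σ ρ = 1 ∧ σ ρ ≠ ρ ∧ ρ ≠ 1 := by
  obtain ⟨x, hx, hx'⟩ : ∃ x, σ x ≠ x ∧ σ x ≠ -x := by
    obtain ⟨x, hx⟩ : ∃ x, σ x ≠ x := by
      by_contra h
      push Not at h
      exact hσ.ne_refl (RingEquiv.ext h)
    by_cases hx' : σ x = -x
    · refine ⟨x + 1, fun h => hx ?_, fun h => hx ?_⟩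
      · rw [map_add, map_one] at h
        exact add_right_cancel h
      · rw [map_add, map_one, hx'] at h
        rw [hx']
        linear_combination (-x) * h
    · exact ⟨x, hx, hx'⟩
  have hx0 : x ≠ 0 := fun h => hx (by rw [h, map_zero])
  have hσx : σ x ≠ 0 := (map_ne_zero σ).mpr hx0
  have hmul : σ x / x * σ (σ x / x) = 1 := by
    rw [map_div₀, hσ.invol]
    field_simp
  refine ⟨σ x / x, hmul, fun h => ?_, fun h => hx ((div_eq_one_iff_eq hx0).mp h)⟩
  rw [h] at hmul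
  rcases mul_self_eq_one_iff.mp hmul with h1 | h1
  · exact hx ((div_eq_one_iff_eq hx0).mp h1)
  · rw [div_eq_iff hx0] at h1
    exact hx' (by rw [h1, neg_one_mul])

/-- An element of norm `-1`. -/
lemma exists_lambda (hσ : IsQAut q σ) : ∃ l : F, l ≠ 0 ∧ l * σ l = -1 := by
  obtain ⟨l, hl⟩ := exists_norm hσ (c := (-1 : F)) (by rw [map_neg, map_one])
  exact ⟨l, fun h => by simp [h] at hl, hl⟩

/-! ### Isotropic vectors and transvections -/

/-- The vector `e_i + c e_j`. -/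
def pairVec (i j : Fin n) (c : F) : Fin n → F := Pi.single i 1 + Pi.single j c

lemma herm_pairVec (hσ : IsQAut q σ) {i j : Fin n} (c : F) (x : Fin n → F) :
    hermForm n F q x (pairVec i j c) = x i + x j * σ c := by
  rw [pairVec, herm_add_right hσ, herm_single_right hσ, herm_single_right hσ, map_one, mul_one]

lemma pairVec_iso (hσ : IsQAut q σ) {i j : Fin n} (hij : i ≠ j) {c : F} (hc : c * σ c = -1) :
    hermForm n F q (pairVec i j c) (pairVec i j c) = 0 := by
  rw [herm_pairVec hσ]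
  simp [pairVec, hij, hij.symm, hc]

omit [Fintype F] in
lemma pairVec_ne_zero {i j : Fin n} (hij : i ≠ j) (c : F) : pairVec i j c ≠ 0 := by
  intro h
  have := congrFun h i
  simp [pairVec, hij] at this

/-- The unitary transvection `x ↦ x + a f(x,v) v`. -/
def utv (hσ : IsQAut q σ) (a : F) (v : Fin n → F) (hv : hermForm n F q v v = 0) : GL (Fin n) F :=
  tv v (a • fun i => σ (v i)) (by rw [smul_dotProduct, ← herm_eq hσ, hv, smul_zero])

lemma utv_mulVec (hσ : IsQAut q σ) (a : F) (v : Fin n → F) (hv : hermForm n F q v v = 0) (x : Fin n → F) :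
    (utv hσ a v hv : Matrix (Fin n) (Fin n) F) *ᵥ x = x + (a * hermForm n F q x v) • v := by
  rw [utv, tv_mulVec, smul_dotProduct, smul_eq_mul, ← herm_eq hσ]

lemma coe_utv (hσ : IsQAut q σ) (a : F) (v : Fin n → F) (hv : hermForm n F q v v = 0) :
    (utv hσ a v hv : Matrix (Fin n) (Fin n) F) = 1 + vecMulVec v (a • fun i => σ (v i)) := rfl

lemma utv_mem (hσ : IsQAut q σ) {a : F} (ha : a + σ a = 0) (v : Fin n → F) (hv : hermForm n F q v v = 0) :
    utv hσ a v hv ∈ suGL n F q := by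
  refine ⟨fun x y => ?_, tv_mem_specialLinear _ _ _⟩
  show hermForm n F q ((utv hσ a v hv : Matrix (Fin n) (Fin n) F) *ᵥ x)
    ((utv hσ a v hv : Matrix (Fin n) (Fin n) F) *ᵥ y) = _
  rw [utv_mulVec, utv_mulVec, herm_add_left hσ, herm_add_right hσ, herm_add_right hσ, herm_smul_left hσ,
    herm_smul_left hσ, herm_smul_right hσ, herm_smul_right hσ, hv, map_mul, herm_comm hσ v y]
  linear_combination (hermForm n F q x v * hermForm n F q v y) * ha

/-! ### Subspaces -/

theorem eq_bot_or_top_of_isotropic (hσ : IsQAut q σ) (hn : 2 ≤ n) {W : Submodule F (Fin n → F)}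
    (h : ∀ v, hermForm n F q v v = 0 → v ≠ 0 → v ∈ W ∨ ∀ w ∈ W, hermForm n F q w v = 0) :
    W = ⊥ ∨ W = ⊤ := by
  obtain ⟨l, hl0, hl⟩ := exists_lambda hσ
  obtain ⟨ρ, hρ, hρ', hρ1⟩ := exists_rho hσ
  have hlσ : l * ρ * σ (l * ρ) = -1 := by
    rw [map_mul]
    linear_combination (ρ * σ ρ) * hl - hρ
  have hlσ' : l * (ρ * ρ) * σ (l * (ρ * ρ)) = -1 := by
    rw [map_mul, map_mul]
    linear_combination (ρ * σ ρ * (ρ * σ ρ)) * hl - (1 + ρ * σ ρ) * hρ
  have hne2 : ρ * ρ ≠ 1 := fun h2 => by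
    rcases mul_self_eq_one_iff.mp h2 with h1 | h1
    · exact hρ1 h1
    · exact hρ' (by rw [h1, map_neg, map_one])
  let W' : Submodule F (Fin n → F) :=
    { carrier := {v | ∀ w ∈ W, hermForm n F q w v = 0}
      add_mem' := fun {a b} ha hb w hw => by rw [herm_add_right hσ, ha w hw, hb w hw, add_zero]
      zero_mem' := fun w hw => by rw [← herm_comm hσ, herm_zero_left hσ, map_zero]
      smul_mem' := fun c v hv w hw => by rw [herm_smul_right hσ, hv w hw, mul_zero] }
  have hU : ∀ v, hermForm n F q v v = 0 → v ≠ 0 → v ∈ W ∨ v ∈ W' := h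
  have hpair : ∀ (U : Submodule F (Fin n → F)) (i j : Fin n) (c d : F), c ≠ d →
      pairVec i j c ∈ U → pairVec i j d ∈ U → (Pi.single i (1 : F) : Fin n → F) ∈ U ∧
        (Pi.single j (1 : F) : Fin n → F) ∈ U := by
    intro U i j c d hcd hc hd
    have hj : (Pi.single j (1 : F) : Fin n → F) ∈ U := by
      have h1 := U.smul_mem (c - d)⁻¹ (U.sub_mem hc hd)
      have e : pairVec i j c - pairVec i j d = (c - d) • (Pi.single j (1 : F) : Fin n → F) := by
        rw [pairVec, pairVec, add_sub_add_left_eq_sub, ← Pi.single_sub, ← Pi.single_smul, smul_eq_mul, mul_one]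
      rwa [e, smul_smul, inv_mul_cancel₀ (sub_ne_zero.mpr hcd), one_smul] at h1
    refine ⟨?_, hj⟩
    have h2 := U.sub_mem hc (U.smul_mem c hj)
    simpa [pairVec, ← Pi.single_smul] using h2
  have hboth : ∀ i j : Fin n, i ≠ j → ((Pi.single i (1 : F) : Fin n → F) ∈ W ∧ (Pi.single j (1 : F) : Fin n → F) ∈ W) ∨
      ((Pi.single i (1 : F) : Fin n → F) ∈ W' ∧ (Pi.single j (1 : F) : Fin n → F) ∈ W') := by
    intro i j hij
    have d1 : l ≠ l * ρ := fun e => hρ1 (mul_left_cancel₀ hl0 (by rw [mul_one, ← e]))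
    have d2 : l ≠ l * (ρ * ρ) := fun e => hne2 (mul_left_cancel₀ hl0 (by rw [mul_one, ← e]))
    have d3 : l * ρ ≠ l * (ρ * ρ) := fun e => by
      have h4 : ρ = ρ * ρ := mul_left_cancel₀ hl0 e
      have hρ0 : ρ ≠ 0 := left_ne_zero_of_mul_eq_one hρ
      exact hρ1 (mul_left_cancel₀ hρ0 (by rw [mul_one, ← h4]))
    rcases hU _ (pairVec_iso hσ hij hl) (pairVec_ne_zero hij _) with a | a <;>
      rcases hU _ (pairVec_iso hσ hij hlσ) (pairVec_ne_zero hij _) with b | b
    · exact Or.inl (hpair W i j _ _ d1 a b)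
    · rcases hU _ (pairVec_iso hσ hij hlσ') (pairVec_ne_zero hij _) with c | c
      · exact Or.inl (hpair W i j _ _ d2 a c)
      · exact Or.inr (hpair W' i j _ _ d3 b c)
    · rcases hU _ (pairVec_iso hσ hij hlσ') (pairVec_ne_zero hij _) with c | c
      · exact Or.inl (hpair W i j _ _ d3 b c)
      · exact Or.inr (hpair W' i j _ _ d2 a c)
    · exact Or.inr (hpair W' i j _ _ d1 a b)
  have hdisj : ∀ i : Fin n, (Pi.single i (1 : F) : Fin n → F) ∈ W → (Pi.single i (1 : F) : Fin n → F) ∉ W' := by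
    intro i h1 h2
    have h3 := h2 _ h1
    simp [herm_single_left hσ] at h3
  let i₀ : Fin n := ⟨0, by omega⟩
  let i₁ : Fin n := ⟨1, by omega⟩
  have h01 : i₀ ≠ i₁ := fun h => by simpa [i₀, i₁] using congrArg Fin.val h
  have htop : ∀ U : Submodule F (Fin n → F), (∀ i, (Pi.single i (1 : F) : Fin n → F) ∈ U) → U = ⊤ := by
    intro U hU
    rw [eq_top_iff]
    intro x _
    rw [pi_eq_sum_univ' x]
    exact Submodule.sum_mem _ fun j _ => U.smul_mem _ (hU j)
  rcases hboth i₀ i₁ h01 with ⟨h0, -⟩ | ⟨h0, -⟩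
  · right
    refine htop W fun j => ?_
    by_cases hj : i₀ = j
    · exact hj ▸ h0
    rcases hboth i₀ j hj with ⟨-, h⟩ | ⟨h, -⟩
    · exact h
    · exact absurd h (hdisj i₀ h0)
  · left
    have hW' : W' = ⊤ := htop W' fun j => by
      by_cases hj : i₀ = j
      · exact hj ▸ h0
      rcases hboth i₀ j hj with ⟨h, -⟩ | ⟨-, h⟩
      · exact absurd h0 (hdisj i₀ h)
      · exact h
    rw [Submodule.eq_bot_iff]
    intro w hw
    refine eq_zero_of_herm hσ fun v => ?_
    have hv : v ∈ W' := by rw [hW']; trivial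
    rw [← herm_comm hσ, hv w hw, map_zero]

/-- Subspaces stable under all the transvections. -/
theorem eq_bot_or_top_of_stable (hσ : IsQAut q σ) (hn : 2 ≤ n) {W : Submodule F (Fin n → F)}
    (h : ∀ g ∈ suGL n F q, ∀ w ∈ W, (g : Matrix (Fin n) (Fin n) F) *ᵥ w ∈ W) : W = ⊥ ∨ W = ⊤ := by
  refine eq_bot_or_top_of_isotropic hσ hn fun v hv _ => ?_
  obtain ⟨a, ha0, ha⟩ := exists_skew hσ
  by_cases hc : ∃ w ∈ W, hermForm n F q w v ≠ 0
  · obtain ⟨w, hw, hwv⟩ := hc
    left
    have h1 := W.sub_mem (h _ (utv_mem hσ ha v hv) w hw) hw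
    rw [utv_mulVec, add_sub_cancel_left] at h1
    have h2 := W.smul_mem (a * hermForm n F q w v)⁻¹ h1
    rwa [smul_smul, inv_mul_cancel₀ (mul_ne_zero ha0 hwv), one_smul] at h2
  · push Not at hc
    exact Or.inr hc

theorem not_su_le_subspaceStabilizer (hσ : IsQAut q σ) (hn : 2 ≤ n) {W : Submodule F (Fin n → F)}
    (h0 : W ≠ ⊥) (h1 : W ≠ ⊤) : ¬ suGL n F q ≤ subspaceStabilizer W := fun hle =>
  (eq_bot_or_top_of_stable hσ hn fun g hg w hw => (hle hg w).mp hw).elim h0 h1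

/-- A totally singular subspace is proper. -/
lemma ts_ne_top (hσ : IsQAut q σ) (hn : 1 ≤ n) {W : Submodule F (Fin n → F)}
    (h : IsTotallySingularFor (hermForm n F q) W) : W ≠ ⊤ := by
  intro hW
  have h1 := h (Pi.single ⟨0, hn⟩ 1) (by rw [hW]; trivial) (Pi.single ⟨0, hn⟩ 1) (by rw [hW]; trivial)
  simp [herm_single_left hσ] at h1

/-! ### Decompositions -/

omit [Fintype F] in
/-- A transvection fixes blocks of dimension at least two. -/
lemma block_fixed {t m : ℕ} {D : Fin t → Submodule F (Fin n → F)} (hD : IsMDecomposition m D) (hm : 2 ≤ m)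
    {g : GL (Fin n) F} {φ : Fin n → F} (hg : g ∈ decompositionStabilizer D)
    (hfix : ∀ x, φ ⬝ᵥ x = 0 → (g : Matrix (Fin n) (Fin n) F) *ᵥ x = x) (i : Fin t) :
    (D i).map (Matrix.toLin' (g : Matrix (Fin n) (Fin n) F)) = D i := by
  obtain ⟨π, hπ⟩ := hg
  let L : (D i) →ₗ[F] F := (dotProductBilin F F φ).domRestrict (D i)
  obtain ⟨x, hx, hx0⟩ : ∃ x ∈ D i, φ ⬝ᵥ x = 0 ∧ x ≠ 0 := by
    have h : LinearMap.ker L ≠ ⊥ := LinearMap.ker_ne_bot_of_finrank_lt (by
      rw [Module.finrank_self, hD.finrank_eq]; omega)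
    obtain ⟨⟨x, hxD⟩, hx, hx0⟩ := Submodule.exists_mem_ne_zero_of_ne_bot h
    exact ⟨x, hxD, hx, fun h => hx0 (Subtype.ext h)⟩
  rw [hπ i]
  congr 1
  by_contra hne
  have h1 : x ∈ D (π i) := by
    rw [← hπ i]
    exact ⟨x, hx, by rw [Matrix.toLin'_apply, hfix x hx0.1]⟩
  exact hx0.2 (Submodule.disjoint_def.mp (hD.indep.pairwiseDisjoint (Ne.symm hne)) x hx h1)

/-- Blocks of dimension at least two. -/
theorem not_su_le_decompositionStabilizer (hσ : IsQAut q σ) (hn : 2 ≤ n) {t m : ℕ}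
    {D : Fin t → Submodule F (Fin n → F)} (hD : IsMDecomposition m D) (hm : 2 ≤ m) :
    ¬ suGL n F q ≤ decompositionStabilizer D := by
  intro hle
  obtain ⟨a, ha0, ha⟩ := exists_skew hσ
  let i : Fin t := ⟨0, lt_of_lt_of_le Nat.zero_lt_two hD.two_le⟩
  let j : Fin t := ⟨1, hD.two_le⟩
  have hij : i ≠ j := fun h => by simpa [i, j] using congrArg Fin.val h
  have hne : ∀ k, D k ≠ ⊥ := fun k h => by
    have := hD.finrank_eq k
    rw [h, finrank_bot] at this
    exact hD.pos.ne this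
  have htop : D i ≠ ⊤ := fun h => hne j (by
    have h1 := hD.indep.pairwiseDisjoint hij
    rw [Function.onFun, h] at h1
    exact top_disjoint.mp h1)
  refine (eq_bot_or_top_of_isotropic hσ hn fun v hv _ => ?_).elim (hne i) htop
  by_cases hc : ∃ w ∈ D i, hermForm n F q w v ≠ 0
  · obtain ⟨w, hw, hwv⟩ := hc
    left
    have hs := block_fixed hD hm (φ := fun k => σ (v k)) (hle (utv_mem hσ ha v hv))
      (fun x hx => by rw [utv_mulVec, herm_eq hσ, hx, mul_zero, zero_smul, add_zero]) i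
    have h1 := (D i).sub_mem (hs ▸ Submodule.mem_map_of_mem (f := Matrix.toLin'
      (utv hσ a v hv : Matrix (Fin n) (Fin n) F)) hw) hw
    rw [Matrix.toLin'_apply, utv_mulVec, add_sub_cancel_left] at h1
    have h2 := (D i).smul_mem (a * hermForm n F q w v)⁻¹ h1
    rwa [smul_smul, inv_mul_cancel₀ (mul_ne_zero ha0 hwv), one_smul] at h2
  · push Not at hc
    exact Or.inr hc

/-- Orthogonal lines, in dimension at least four. -/
theorem not_su_le_lines (hσ : IsQAut q σ) (hn : 4 ≤ n) {t : ℕ} (ht : t = n)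
    {D : Fin t → Submodule F (Fin n → F)} (hD : IsNondegenerateMDecomposition (hermForm n F q) 1 D) :
    ¬ suGL n F q ≤ decompositionStabilizer D := by
  intro hle
  subst ht
  obtain ⟨a, ha0, ha⟩ := exists_skew hσ
  have hb : ∀ i, ∃ b ∈ D i, hermForm t F q b b ≠ 0 := by
    intro i
    obtain ⟨b, hb, hb0⟩ : ∃ b ∈ D i, b ≠ 0 := (D i).ne_bot_iff.mp fun h => by
      have := hD.decomp.finrank_eq i
      rw [h, finrank_bot] at this
      omega
    obtain ⟨x, hx, hxb⟩ := (hD.nondegenerate i b hb hb0).1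
    obtain ⟨c, hc⟩ := (finrank_eq_one_iff_of_nonzero' (⟨b, hb⟩ : D i) (fun h => hb0 (congrArg Subtype.val h))).mp
      (hD.decomp.finrank_eq i) ⟨x, hx⟩
    refine ⟨b, hb, fun h => hxb ?_⟩
    have hc' : c • b = x := congrArg Subtype.val hc
    rw [← hc', herm_smul_left hσ, h, mul_zero]
  choose b hb hbb using hb
  have horth : ∀ i j, i ≠ j → hermForm t F q (b i) (b j) = 0 := fun i j h => hD.orthogonal i j h _ (hb i) _ (hb j)
  have hfix : ∀ i, σ (hermForm t F q (b i) (b i)) = hermForm t F q (b i) (b i) := fun i => herm_comm hσ _ _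
  let i₀ : Fin t := ⟨0, by omega⟩
  let i₁ : Fin t := ⟨1, by omega⟩
  let i₂ : Fin t := ⟨2, by omega⟩
  let i₃ : Fin t := ⟨3, by omega⟩
  have hI : i₀ ≠ i₁ ∧ i₀ ≠ i₂ ∧ i₀ ≠ i₃ ∧ i₁ ≠ i₂ ∧ i₁ ≠ i₃ ∧ i₂ ≠ i₃ := by simp [i₀, i₁, i₂, i₃]
  obtain ⟨h01, h02, h03, h12, h13, h23⟩ := hI
  have hpair : ∀ i j, ∃ y : F, y ≠ 0 ∧
      hermForm t F q (b i) (b i) + y * σ y * hermForm t F q (b j) (b j) = 0 := by
    intro i j
    obtain ⟨y, hy⟩ := exists_norm hσ (c := -hermForm t F q (b i) (b i) / hermForm t F q (b j) (b j))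
      (by rw [map_div₀, map_neg, hfix, hfix])
    refine ⟨y, fun h => ?_, ?_⟩
    · rw [h, zero_mul] at hy
      exact div_ne_zero (neg_ne_zero.mpr (hbb i)) (hbb j) hy.symm
    · rw [hy, div_mul_cancel₀ _ (hbb j), add_neg_cancel]
  obtain ⟨y, hy0, hy⟩ := hpair i₀ i₁
  obtain ⟨z, hz0, hz⟩ := hpair i₂ i₃
  set v := b i₀ + y • b i₁ + b i₂ + z • b i₃ with hv'
  have hvk : ∀ k, hermForm t F q v (b k) = hermForm t F q (b i₀) (b k) + y * hermForm t F q (b i₁) (b k) +
      hermForm t F q (b i₂) (b k) + z * hermForm t F q (b i₃) (b k) := by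
    intro k
    simp only [hv', herm_add_left hσ, herm_smul_left hσ]
  have h0v : hermForm t F q (b i₀) v = hermForm t F q (b i₀) (b i₀) := by
    simp [hv', herm_add_right hσ, herm_smul_right hσ, horth _ _ h01, horth _ _ h02, horth _ _ h03]
  have hv : hermForm t F q v v = 0 := by
    simp only [hv', herm_add_left hσ, herm_add_right hσ, herm_smul_left hσ, herm_smul_right hσ,
      horth _ _ h01, horth _ _ h02, horth _ _ h03, horth _ _ h12, horth _ _ h13, horth _ _ h23,
      horth _ _ h01.symm, horth _ _ h02.symm, horth _ _ h03.symm, horth _ _ h12.symm, horth _ _ h13.symm,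
      horth _ _ h23.symm]
    linear_combination hy + hz
  obtain ⟨π, hπ⟩ := hle (utv_mem hσ ha v hv)
  have hmem : (utv hσ a v hv : Matrix (Fin t) (Fin t) F) *ᵥ b i₀ ∈ D (π i₀) := by
    rw [← hπ i₀]
    exact ⟨b i₀, hb i₀, Matrix.toLin'_apply _ _⟩
  have key : ∀ k, k ≠ π i₀ → k ≠ i₀ → hermForm t F q v (b k) = 0 := by
    intro k hk hk0
    have h1 := hD.orthogonal (π i₀) k (Ne.symm hk) _ hmem _ (hb k)
    rw [utv_mulVec, herm_add_left hσ, herm_smul_left hσ, horth _ _ (Ne.symm hk0), zero_add, h0v] at h1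
    exact (mul_eq_zero.mp h1).resolve_left (mul_ne_zero ha0 (hbb i₀))
  have h1 : hermForm t F q v (b i₁) ≠ 0 := by
    rw [hvk, horth _ _ h01, horth _ _ h12.symm, horth _ _ h13.symm]
    simp [hy0, hbb i₁]
  have h2 : hermForm t F q v (b i₂) ≠ 0 := by
    rw [hvk, horth _ _ h02, horth _ _ h12, horth _ _ h23.symm]
    simp [hbb i₂]
  rcases eq_or_ne i₁ (π i₀) with h | h
  · exact h2 (key i₂ (h ▸ h12.symm) h02.symm)
  · exact h1 (key i₁ h h01.symm)

/-! ### Extension fields -/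

/-- A transvection does not normalise an extension field. -/
theorem tv_notMem_subalgebraNormalizer {ι : Type} [Fintype ι] [DecidableEq ι] {E : Type*} [Field E]
    (hn : 3 ≤ Fintype.card ι) {r : ℕ} (hr : 2 ≤ r) {K : Subalgebra E (Matrix ι ι E)} (hK : IsFieldSubalgebra r K)
    {v φ : ι → E} (hv : φ ⬝ᵥ v = 0) (hv0 : v ≠ 0) (hφ0 : φ ≠ 0) : tv v φ hv ∉ subalgebraNormalizer K := by
  intro hmem'
  haveI : Nonempty ι := Fintype.card_pos_iff.mp (by omega)
  obtain ⟨k, hk, hknot⟩ := exists_notMem_bot_of_finrank hr hK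
  obtain ⟨y₀, hy₀⟩ : ∃ y, φ ⬝ᵥ y = 1 := by
    obtain ⟨i, hi⟩ := Function.ne_iff.mp hφ0
    exact ⟨Pi.single i (φ i)⁻¹, by rw [dotProduct_single, mul_inv_cancel₀ hi]⟩
  set N := vecMulVec v φ with hN
  have hNx : ∀ x, N *ᵥ x = (φ ⬝ᵥ x) • v := fun x => by rw [hN, vecMulVec_mulVec, op_smul_eq_smul]
  have hmem : (1 + N) * k * (1 - N) ∈ K := (hmem' k).mp hk
  set d := (1 + N) * k * (1 - N) - k with hd
  have hd0 : d = 0 := by
    by_contra hd0
    obtain ⟨y, -, hy⟩ := hK.inv d (K.sub_mem hmem hk) hd0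
    obtain ⟨u, hu⟩ := exists_notMem_of_finrank_lt
      (lt_of_le_of_lt (finrank_span_pair_le v (k *ᵥ v)) (show 2 < Fintype.card ι by omega))
    apply hu
    have hrange : ∀ x, d *ᵥ x ∈ Submodule.span E {v, k *ᵥ v} := by
      intro x
      have e : d = N * (k * (1 - N)) - k * N := by rw [hd]; noncomm_ring
      rw [e]
      simp only [Matrix.sub_mulVec, ← Matrix.mulVec_mulVec, hNx, Matrix.mulVec_smul]
      exact Submodule.sub_mem _ (Submodule.smul_mem _ _ (Submodule.subset_span (by simp)))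
        (Submodule.smul_mem _ _ (Submodule.subset_span (by simp)))
    have h2 := hrange (y *ᵥ u)
    rwa [Matrix.mulVec_mulVec, hy, Matrix.one_mulVec] at h2
  have h3 : (1 + N) * k * (1 - N) * (1 + N) = k * (1 + N) := congrArg (· * (1 + N)) (sub_eq_zero.mp hd0)
  have hinv : (1 - N) * (1 + N) = 1 := (tv v φ hv).inv_mul
  rw [mul_assoc, hinv, mul_one] at h3
  have h4 := congrArg (· *ᵥ y₀) h3
  simp only [← Matrix.mulVec_mulVec, Matrix.add_mulVec, Matrix.one_mulVec, hNx, hy₀, one_smul,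
    Matrix.mulVec_add, add_right_inj] at h4
  set c := φ ⬝ᵥ (k *ᵥ y₀)
  obtain ⟨y, -, hy⟩ := hK.inv (k - c • 1) (K.sub_mem hk (K.smul_mem K.one_mem c)) (sub_ne_zero.mpr (hknot c))
  have h1 : y *ᵥ ((k - c • 1) *ᵥ v) = 0 := by
    rw [Matrix.sub_mulVec, ← h4, Matrix.smul_mulVec, Matrix.one_mulVec, sub_self, Matrix.mulVec_zero]
  rw [Matrix.mulVec_mulVec, mul_eq_one_comm.mp hy, Matrix.one_mulVec] at h1
  exact hv0 h1

/-- A non-zero isotropic vector and a skew scalar give a transvection with non-zero axis. -/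
lemma utv_data (hσ : IsQAut q σ) (hn : 2 ≤ n) : ∃ (a : F) (v : Fin n → F) (hv : hermForm n F q v v = 0),
    utv hσ a v hv ∈ suGL n F q ∧ v ≠ 0 ∧ (a • fun i => σ (v i)) ≠ 0 := by
  obtain ⟨a, ha0, ha⟩ := exists_skew hσ
  obtain ⟨l, hl0, hl⟩ := exists_lambda hσ
  have hij : (⟨0, by omega⟩ : Fin n) ≠ ⟨1, by omega⟩ := by simp
  refine ⟨a, _, pairVec_iso hσ hij hl, utv_mem hσ ha _ _, pairVec_ne_zero hij l, fun h => ?_⟩
  have h1 := congrFun h ⟨0, by omega⟩
  simp [pairVec, hij, ha0] at h1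

theorem not_su_le_subalgebraNormalizer (hσ : IsQAut q σ) (hn : 3 ≤ n) {r : ℕ} (hr : 2 ≤ r)
    {K : Subalgebra F (Matrix (Fin n) (Fin n) F)} (hK : IsFieldSubalgebra r K) :
    ¬ suGL n F q ≤ subalgebraNormalizer K := by
  intro hle
  obtain ⟨a, v, hv, hmem, hv0, hφ⟩ := utv_data hσ (n := n) (by omega)
  exact tv_notMem_subalgebraNormalizer (by rw [Fintype.card_fin]; exact hn) hr hK _ hv0 hφ (hle hmem)

end Cfsg.Agent.Lib.MaxClass.Unitary
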