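import Mathlib
import Cfsg.Prelude.Def_GeometricClasses
import Cfsg.Agent.Lib.MaxClass.UnitaryTransv
import Cfsg.Agent.Lib.MaxClass.Degree

/-!
The special unitary group is in no stabiliser of a tensor decomposition, in no subfield group and in no
normaliser of a group of symplectic type.
-/

set_option autoImplicit false
set_option linter.style.haveILetI false

namespace Cfsg.Agent.Lib.MaxClass.Unitary

open Cfsg Cfsg.Geo Matrix
open Cfsg.Agent.Lib.Aschbacher
open Cfsg.Agent.Lib.MaxClass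
open scoped Kronecker

set_option maxHeartbeats 1000000

section general

variable {ι : Type} [Fintype ι] [DecidableEq ι] {E : Type*} [Field E]

lemma conj_tv (P : GL ι E) (v φ : ι → E) (h : φ ⬝ᵥ v = 0) :
    ((P⁻¹ * tv v φ h * P : GL ι E) : Matrix ι ι E) =
      1 + vecMulVec (((P⁻¹ : GL ι E) : Matrix ι ι E) *ᵥ v) (φ ᵥ* (P : Matrix ι ι E)) := by
  rw [Units.val_mul, Units.val_mul, coe_tv, mul_add, add_mul, mul_one, Units.inv_mul, mul_vecMulVec,
    vecMulVec_mul]

lemma mulVec_ne_zero_of_unit (g : GL ι E) {v : ι → E} (hv : v ≠ 0) : (g : Matrix ι ι E) *ᵥ v ≠ 0 := by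
  intro h
  apply hv
  have h1 := congrArg (((g⁻¹ : GL ι E) : Matrix ι ι E) *ᵥ ·) h
  simpa [Matrix.mulVec_mulVec] using h1

lemma vecMul_ne_zero_of_unit (g : GL ι E) {v : ι → E} (hv : v ≠ 0) : v ᵥ* (g : Matrix ι ι E) ≠ 0 := by
  intro h
  apply hv
  have h1 := congrArg (· ᵥ* ((g⁻¹ : GL ι E) : Matrix ι ι E)) h
  simpa [Matrix.vecMul_vecMul] using h1

/-- The identity in dimension at least three is not a sum of two matrices of rank one. -/
lemma one_ne_rank_two {κ : Type*} [Fintype κ] [DecidableEq κ] (h3 : 3 ≤ Fintype.card κ) (u w u' w' : κ → E)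
    (h : ∀ k l, (if k = l then (1 : E) else 0) = u k * w l + u' k * w' l) : False := by
  classical
  let L : (κ → E) →ₗ[E] (E × E) := (dotProductBilin E E w).prod (dotProductBilin E E w')
  have hk : LinearMap.ker L ≠ ⊥ := LinearMap.ker_ne_bot_of_finrank_lt (by
    rw [Module.finrank_prod, Module.finrank_self, Module.finrank_fintype_fun_eq_card]; omega)
  obtain ⟨x, hx, hx0⟩ := Submodule.exists_mem_ne_zero_of_ne_bot hk
  have h1 : w ⬝ᵥ x = 0 ∧ w' ⬝ᵥ x = 0 := Prod.ext_iff.mp (LinearMap.mem_ker.mp hx)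
  apply hx0
  funext k
  have e : ∑ l, (if k = l then (1 : E) else 0) * x l = u k * (w ⬝ᵥ x) + u' k * (w' ⬝ᵥ x) := by
    simp only [dotProduct, Finset.mul_sum, ← Finset.sum_add_distrib]
    exact Finset.sum_congr rfl fun l _ => by rw [h k l]; ring
  simpa [h1.1, h1.2] using e

/-- A matrix of rank one plus the identity is no Kronecker product. -/
lemma not_kron_rank_one {κ₁ κ₂ : Type*} [DecidableEq κ₁] [Fintype κ₂] [DecidableEq κ₂] [Nontrivial κ₁]
    (h3 : 3 ≤ Fintype.card κ₂) (A : κ₁ → κ₁ → E) (B : κ₂ → κ₂ → E) (v φ : κ₁ × κ₂ → E) (hv : v ≠ 0)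
    (hφ : φ ≠ 0)
    (h : ∀ i j k l, A i j * B k l = (if i = j ∧ k = l then 1 else 0) + v (i, k) * φ (j, l)) : False := by
  classical
  have hoff : ∀ i j, i ≠ j → A i j = 0 := by
    intro i j hij
    by_contra hA
    refine one_ne_rank_two (E := E) h3 (fun k => A i i * v (i, k) / A i j) (fun l => φ (j, l))
      (fun k => -v (i, k)) (fun l => φ (i, l)) fun k l => ?_
    have h1 := h i j k l
    rw [if_neg (fun hh => hij hh.1), zero_add] at h1
    have h2 := h i i k l
    simp only [true_and] at h2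
    field_simp
    linear_combination (-(A i j)) * h2 + A i i * h1
  have hvφ : ∀ i j, i ≠ j → ∀ k l, v (i, k) * φ (j, l) = 0 := by
    intro i j hij k l
    have h1 := h i j k l
    rw [hoff i j hij, zero_mul, if_neg (fun hh => hij hh.1), zero_add] at h1
    exact h1.symm
  obtain ⟨⟨i₀, k₀⟩, hv0⟩ := Function.ne_iff.mp hv
  have hφ1 : ∀ j, j ≠ i₀ → ∀ l, φ (j, l) = 0 := fun j hj l =>
    (mul_eq_zero.mp (hvφ i₀ j (Ne.symm hj) k₀ l)).resolve_left hv0
  obtain ⟨⟨j₀, l₀⟩, hφ0⟩ := Function.ne_iff.mp hφ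
  have hj0 : j₀ = i₀ := by
    by_contra hne
    exact hφ0 (hφ1 j₀ hne l₀)
  subst hj0
  obtain ⟨i₁, hi₁⟩ := exists_ne j₀
  have h11 : ∀ k l, A i₁ i₁ * B k l = if k = l then 1 else 0 := by
    intro k l
    have h1 := h i₁ i₁ k l
    simpa [hφ1 i₁ hi₁ l] using h1
  have hA1 : A i₁ i₁ ≠ 0 := left_ne_zero_of_mul_eq_one (by simpa using h11 k₀ k₀)
  set d := A j₀ j₀ / A i₁ i₁ - 1 with hd
  have h00 : ∀ k l, v (j₀, k) * φ (j₀, l) = if k = l then d else 0 := by
    intro k l
    have h1 := h j₀ j₀ k l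
    have h2 := h11 k l
    by_cases hkl : k = l
    · simp only [hkl, and_self, if_true] at h1 h2 ⊢
      rw [hd]
      field_simp
      linear_combination (-(A i₁ i₁)) * h1 + A j₀ j₀ * h2
    · simp only [hkl, and_false, if_false, zero_add] at h1 h2 ⊢
      rw [← h1]
      have hB : B k l = 0 := (mul_eq_zero.mp h2).resolve_left hA1
      rw [hB, mul_zero]
  obtain ⟨k₁, hk₁⟩ : ∃ k₁, k₁ ≠ k₀ := by
    haveI : Nontrivial κ₂ := Fintype.one_lt_card_iff_nontrivial.mp (by omega)
    exact exists_ne k₀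
  have e1 := h00 k₀ l₀
  by_cases hkl : k₀ = l₀
  · rw [if_pos hkl] at e1
    have e2 := h00 k₁ k₁
    have e3 := h00 k₀ k₁
    rw [if_pos rfl, ← e1] at e2
    rw [if_neg (Ne.symm hk₁)] at e3
    rcases mul_eq_zero.mp e3 with h' | h'
    · exact hv0 h'
    · rw [h', mul_zero] at e2
      exact mul_ne_zero hv0 hφ0 e2.symm
  · rw [if_neg hkl] at e1
    exact mul_ne_zero hv0 hφ0 e1

lemma mem_conj_map {κ : Type} [Fintype κ] [DecidableEq κ] (e : κ ≃ ι) (P : GL ι E) (K : Subgroup (GL κ E))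
    {g : GL ι E} (hg : g ∈ (K.map (glReindex e).toMonoidHom).map (MulAut.conj P).toMonoidHom) :
    ∃ y ∈ K, ∀ a b, (y : Matrix κ κ E) a b = ((P⁻¹ * g * P : GL ι E) : Matrix ι ι E) (e a) (e b) := by
  obtain ⟨x, ⟨y, hy, rfl⟩, rfl⟩ := hg
  refine ⟨y, hy, fun a b => ?_⟩
  have h : P⁻¹ * (MulAut.conj P).toMonoidHom ((glReindex e).toMonoidHom y) * P = glReindex e y := by
    show P⁻¹ * (P * glReindex e y * P⁻¹) * P = _
    group
  rw [h]
  show _ = (Matrix.reindexAlgEquiv E E e (y : Matrix κ κ E)) (e a) (e b)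
  simp [Matrix.reindexAlgEquiv_apply]

/-- A transvection stabilises no tensor decomposition. -/
theorem tv_notMem_tensorProductSubgroup {n₁ n₂ : ℕ} (h1 : 2 ≤ n₁) (h2 : 3 ≤ n₂) (e : ι ≃ Fin n₁ × Fin n₂)
    (P : GL ι E) {v φ : ι → E} (hv : φ ⬝ᵥ v = 0) (hv0 : v ≠ 0) (hφ0 : φ ≠ 0) :
    tv v φ hv ∉ tensorProductSubgroup n₁ n₂ e P := by
  intro hmem
  haveI : Nontrivial (Fin n₁) := Fin.nontrivial_iff_two_le.mpr h1
  obtain ⟨y, ⟨a, b, hab⟩, hy⟩ := mem_conj_map e.symm P _ hmem
  set v' := ((P⁻¹ : GL ι E) : Matrix ι ι E) *ᵥ v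
  set φ' := φ ᵥ* (P : Matrix ι ι E)
  refine not_kron_rank_one (E := E) (by rw [Fintype.card_fin]; exact h2) (a : Matrix (Fin n₁) (Fin n₁) E)
    (b : Matrix (Fin n₂) (Fin n₂) E) (v' ∘ e.symm) (φ' ∘ e.symm)
    (fun h => mulVec_ne_zero_of_unit P⁻¹ hv0 (funext fun i => by simpa [v', φ'] using congrFun h (e i)))
    (fun h => vecMul_ne_zero_of_unit P hφ0 (funext fun i => by simpa [v', φ'] using congrFun h (e i)))
    fun i j k l => ?_
  have h := hy (i, k) (j, l)
  rw [hab, conj_tv, kroneckerMap_apply, Matrix.add_apply, Matrix.one_apply, vecMulVec_apply] at h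
  rw [h]
  simp [v', φ']

/-- A transvection stabilises no tensor square. -/
theorem tv_notMem_tensorWreathSubgroup [Finite E] {m : ℕ} (hm : 3 ≤ m) (e : ι ≃ (Fin 2 → Fin m)) (P : GL ι E)
    {v φ : ι → E} (hv : φ ⬝ᵥ v = 0) (hv0 : v ≠ 0) (hφ0 : φ ≠ 0) :
    tv v φ hv ∉ tensorWreathSubgroup m 2 e P := by
  intro hmem
  haveI : Nontrivial (Fin m) := Fin.nontrivial_iff_two_le.mpr (by omega)
  obtain ⟨y, hyK, hy⟩ := mem_conj_map e.symm P _ hmem
  obtain ⟨π, a, ha⟩ := mem_tensorWreathStandard hyK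
  set v' := ((P⁻¹ : GL ι E) : Matrix ι ι E) *ᵥ v
  set φ' := φ ᵥ* (P : Matrix ι ι E)
  have hent : ∀ x z : Fin 2 → Fin m, a 0 (x 0) (z (π 0)) * a 1 (x 1) (z (π 1)) =
      (if x = z then 1 else 0) + v' (e.symm x) * φ' (e.symm z) := by
    intro x z
    have h := hy x z
    rw [ha x z, conj_tv, Matrix.add_apply, Matrix.one_apply, vecMulVec_apply, Fin.prod_univ_two] at h
    rw [h]
    simp [v', φ']
  have hiff : ∀ i j k l : Fin m, (![i, k] = ![j, l]) ↔ (i = j ∧ k = l) := by
    intro i j k l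
    constructor
    · intro h
      exact ⟨by simpa using congrFun h 0, by simpa using congrFun h 1⟩
    · rintro ⟨rfl, rfl⟩; rfl
  by_cases hπ : π 0 = 0
  · have hπ1 : π 1 = 1 := by
      rcases Fin.exists_fin_two.mp ⟨π 1, rfl⟩ with h | h
      · exact absurd (π.injective (h.trans hπ.symm)) (by decide)
      · exact h
    let c : (Fin m × Fin m) ≃ (Fin 2 → Fin m) := (finTwoArrowEquiv (Fin m)).symm
    refine not_kron_rank_one (E := E) (by rw [Fintype.card_fin]; exact hm) (a 0) (a 1)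
      (v' ∘ e.symm ∘ c) (φ' ∘ e.symm ∘ c)
      (fun h => mulVec_ne_zero_of_unit P⁻¹ hv0 (funext fun i => by simpa [v', φ'] using congrFun h (c.symm (e i))))
      (fun h => vecMul_ne_zero_of_unit P hφ0 (funext fun i => by simpa [v', φ'] using congrFun h (c.symm (e i))))
      fun i j k l => ?_
    have h := hent ![i, k] ![j, l]
    simp only [hπ, hπ1, Matrix.cons_val_zero, Matrix.cons_val_one, hiff] at h
    simpa [c] using h
  · have hπ0 : π 0 = 1 := by
      rcases Fin.exists_fin_two.mp ⟨π 0, rfl⟩ with h | h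
      · exact absurd h hπ
      · exact h
    have hπ1 : π 1 = 0 := by
      rcases Fin.exists_fin_two.mp ⟨π 1, rfl⟩ with h | h
      · exact h
      · exact absurd (π.injective (hπ0.trans h.symm)) (by decide)
    let o : Fin m := ⟨0, by omega⟩
    refine one_ne_rank_two (E := E) (by rw [Fintype.card_fin]; exact hm) (fun k => a 1 k o) (fun l => a 0 o l)
      (fun k => -v' (e.symm ![o, k])) (fun l => φ' (e.symm ![o, l])) fun k l => ?_
    have h := hent ![o, k] ![o, l]
    simp only [hπ0, hπ1, Matrix.cons_val_zero, Matrix.cons_val_one, hiff, true_and] at h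
    linear_combination -h

/-- If a scalar times (identity plus rank one) is rational, then so is the scalar. -/
lemma scalar_mem_of_rank_one (h3 : 3 ≤ Fintype.card ι) {F₀ : Subfield E} (c : E) (v φ : ι → E)
    (h : ∀ i j, c * ((if i = j then 1 else 0) + v i * φ j) ∈ F₀) : c ∈ F₀ := by
  classical
  have hthird : ∀ i j : ι, ∃ k, k ≠ i ∧ k ≠ j := by
    intro i j
    have hpos : 0 < (Finset.univ \ ({i, j} : Finset ι)).card := by
      rw [Finset.card_sdiff_of_subset (Finset.subset_univ _), Finset.card_univ]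
      have := Finset.card_le_two (a := i) (b := j)
      omega
    obtain ⟨k, hk⟩ := Finset.card_pos.mp hpos
    exact ⟨k, by simp at hk; exact hk.1, by simp at hk; exact hk.2⟩
  by_cases hoff : ∃ i j, i ≠ j ∧ c * (v i * φ j) ≠ 0
  · obtain ⟨i, j, hij, hne⟩ := hoff
    obtain ⟨k, hki, hkj⟩ := hthird i j
    have e1 : c * (v i * φ j) ∈ F₀ := by simpa [hij] using h i j
    have e2 : c * (v k * φ j) ∈ F₀ := by simpa [hkj] using h k j
    have e3 : c * (v i * φ k) ∈ F₀ := by simpa [hki.symm] using h i k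
    have e4 : c * (1 + v k * φ k) ∈ F₀ := by simpa using h k k
    have e5 : c * (v k * φ k) ∈ F₀ := by
      have := F₀.div_mem (F₀.mul_mem e2 e3) e1
      have e : c * (v k * φ k) = c * (v k * φ j) * (c * (v i * φ k)) / (c * (v i * φ j)) := by
        rw [eq_div_iff hne]; ring
      rwa [e]
    have := F₀.sub_mem e4 e5
    rwa [show c * (1 + v k * φ k) - c * (v k * φ k) = c by ring] at this
  · push Not at hoff
    obtain ⟨i, j, hij⟩ := Fintype.exists_pair_of_one_lt_card (α := ι) (by omega)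
    have h1 := hoff i j hij
    obtain ⟨k, hki, hkj⟩ := hthird i j
    by_cases hc : c = 0
    · rw [hc]; exact F₀.zero_mem
    have hz : ∀ a b, a ≠ b → v a = 0 ∨ φ b = 0 := fun a b hab =>
      mul_eq_zero.mp ((mul_eq_zero.mp (hoff a b hab)).resolve_left hc)
    obtain ⟨l, hl⟩ : ∃ l, v l * φ l = 0 := by
      by_cases hvi : v i * φ i = 0
      · exact ⟨i, hvi⟩
      · refine ⟨j, ?_⟩
        rcases hz i j hij with h' | h'
        · exact absurd (by rw [h', zero_mul]) hvi
        · rw [h', mul_zero]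
    simpa [hl] using h l l

lemma subfield_tv_rational (h3 : 3 ≤ Fintype.card ι) {F₀ : Subfield E} (P : GL ι E) {v φ : ι → E}
    (hv : φ ⬝ᵥ v = 0) (hmem : tv v φ hv ∈ subfieldSubgroup F₀ P) (i j : ι) :
    (((P⁻¹ : GL ι E) : Matrix ι ι E) * vecMulVec v φ * (P : Matrix ι ι E)) i j ∈ F₀ := by
  classical
  obtain ⟨x, hx, hxe⟩ := hmem
  have hxt : x = P⁻¹ * tv v φ hv * P := by
    rw [← hxe]
    show x = P⁻¹ * (P * x * P⁻¹) * P
    group
  subst hxt
  rw [Subgroup.mul_normal] at hx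
  obtain ⟨_, ⟨a, rfl⟩, z, hz, haz⟩ := hx
  obtain ⟨d, hd⟩ := (mem_scalars_iff z).mp hz
  set v' := ((P⁻¹ : GL ι E) : Matrix ι ι E) *ᵥ v
  set φ' := φ ᵥ* (P : Matrix ι ι E)
  have hent : ∀ k l, (d : E)⁻¹ * ((if k = l then 1 else 0) + v' k * φ' l) = ((a : Matrix ι ι F₀) k l : E) := by
    intro k l
    have h0 := congrArg Units.val haz
    rw [conj_tv] at h0
    have h := congrFun (congrFun h0 k) l
    simp only [Units.val_mul, hd, Matrix.mul_smul, Matrix.mul_one, Matrix.smul_apply, smul_eq_mul,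
      Matrix.add_apply, Matrix.one_apply, vecMulVec_apply] at h
    rw [← h, ← mul_assoc, inv_mul_cancel₀ d.ne_zero, one_mul]
    rfl
  have hc : (d : E)⁻¹ ∈ F₀ := scalar_mem_of_rank_one h3 _ v' φ' fun k l => by rw [hent]; exact SetLike.coe_mem _
  have hd' : (d : E) ∈ F₀ := by simpa using F₀.inv_mem hc
  have hN : (((P⁻¹ : GL ι E) : Matrix ι ι E) * vecMulVec v φ * (P : Matrix ι ι E)) i j = v' i * φ' j := by
    rw [mul_vecMulVec, vecMulVec_mul]
    rfl
  rw [hN]
  have e : v' i * φ' j = (d : E) * ((a : Matrix ι ι F₀) i j : E) - (if i = j then 1 else 0) := by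
    rw [← hent, ← mul_assoc, mul_inv_cancel₀ d.ne_zero, one_mul, add_sub_cancel_left]
  rw [e]
  refine F₀.sub_mem (F₀.mul_mem hd' (SetLike.coe_mem _)) ?_
  split_ifs
  exacts [F₀.one_mem, F₀.zero_mem]

/-- A transvection normalises no group of symplectic type of class two, in dimension at least five. -/
theorem tv_notMem_subgroupNormalizer (hn : 5 ≤ Fintype.card ι) {R : Subgroup (GL ι E)}
    (hirr : ActsAbsolutelyIrreducibly (matrixSet R)) (hclass : commutator R ≤ Subgroup.center R)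
    {v φ : ι → E} (hv : φ ⬝ᵥ v = 0) (hv0 : v ≠ 0) (hφ0 : φ ≠ 0) :
    tv v φ hv ∉ subgroupNormalizer R := by
  intro hmem
  haveI : Nonempty ι := Fintype.card_pos_iff.mp (by omega)
  set t := tv v φ hv with ht
  have hts : ∀ c : E, (t : Matrix ι ι E) ≠ c • 1 := by
    intro c hc
    obtain ⟨i, hi⟩ := Function.ne_iff.mp hv0
    obtain ⟨j, hj⟩ := Function.ne_iff.mp hφ0
    rw [ht, coe_tv] at hc
    by_cases hij : i = j
    · subst hij
      obtain ⟨k, hk⟩ : ∃ k, k ≠ i := by
        haveI : Nontrivial ι := Fintype.one_lt_card_iff_nontrivial.mp (by omega)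
        exact exists_ne i
      have e1 := congrFun (congrFun hc i) k
      have e3 := congrFun (congrFun hc i) i
      have e4 := congrFun (congrFun hc k) k
      simp [vecMulVec_apply, hk.symm] at e1 e3 e4
      rcases e1 with h | h
      · exact hi h
      · rw [h, mul_zero, add_zero] at e4
        rw [← e4] at e3
        simp at e3
        exact e3.elim hi hj
    · have e1 := congrFun (congrFun hc i) j
      simp [vecMulVec_apply, hij] at e1
      exact e1.elim hi hj
  obtain ⟨c, hc⟩ := hirr.2 (t : Matrix ι ι E) (by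
    rintro _ ⟨x, hx, rfl⟩
    obtain ⟨y, hy⟩ : ∃ y : GL ι E, y = t * x * t⁻¹ * x⁻¹ := ⟨_, rfl⟩
    have hyR : y ∈ R := hy ▸ R.mul_mem ((Subgroup.mem_normalizer_iff.mp hmem x).mp hx) (R.inv_mem hx)
    let L : (ι → E) →ₗ[E] (E × E) :=
      (dotProductBilin E E φ).prod (dotProductBilin E E (φ ᵥ* ((x⁻¹ : GL ι E) : Matrix ι ι E)))
    set U := LinearMap.ker L with hU
    have hfix : ∀ u ∈ U, (y : Matrix ι ι E) *ᵥ u = u := by
      intro u hu
      have h12 : φ ⬝ᵥ u = 0 ∧ (φ ᵥ* ((x⁻¹ : GL ι E) : Matrix ι ι E)) ⬝ᵥ u = 0 :=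
        Prod.ext_iff.mp (LinearMap.mem_ker.mp hu)
      have h2 : φ ⬝ᵥ (((x⁻¹ : GL ι E) : Matrix ι ι E) *ᵥ u) = 0 := by
        rw [Matrix.dotProduct_mulVec]; exact h12.2
      rw [hy, Units.val_mul, Units.val_mul, Units.val_mul, ← Matrix.mulVec_mulVec, ← Matrix.mulVec_mulVec,
        ← Matrix.mulVec_mulVec]
      have e1 : ((t⁻¹ : GL ι E) : Matrix ι ι E) *ᵥ (((x⁻¹ : GL ι E) : Matrix ι ι E) *ᵥ u) =
          ((x⁻¹ : GL ι E) : Matrix ι ι E) *ᵥ u := by
        rw [ht, coe_tv_inv, Matrix.sub_mulVec, Matrix.one_mulVec, vecMulVec_mulVec, h2]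
        simp
      rw [e1, Matrix.mulVec_mulVec _ (x : Matrix ι ι E), Units.mul_inv, Matrix.one_mulVec, ht, tv_mulVec,
        h12.1, zero_smul, add_zero]
    have hdim : Fintype.card ι ≤ Module.finrank E U + 2 := by
      have h1 := L.finrank_range_add_finrank_ker
      have h2 : Module.finrank E (LinearMap.range L) ≤ 2 :=
        (Submodule.finrank_le _).trans (by rw [Module.finrank_prod, Module.finrank_self])
      rw [Module.finrank_fintype_fun_eq_card, ← hU] at h1
      omega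
    have hy1 : y = 1 := by
      by_contra hy1
      obtain ⟨z, hz, hne⟩ : ∃ z ∈ R, z * y ≠ y * z := by
        by_contra hcon
        push Not at hcon
        obtain ⟨c, hc⟩ := hirr.2 (y : Matrix ι ι E) (by
          rintro _ ⟨z, hz, rfl⟩
          exact (congrArg Units.val (hcon z hz)).symm)
        obtain ⟨u, hu, hu0⟩ := Submodule.exists_mem_ne_zero_of_ne_bot
          (show U ≠ ⊥ from fun h => by rw [h, finrank_bot] at hdim; omega)
        have h1 := hfix u hu
        rw [hc, Matrix.smul_mulVec, Matrix.one_mulVec] at h1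
        have hc1 : c = 1 := by
          have h2 : (c - 1) • u = 0 := by rw [sub_smul, one_smul, h1, sub_self]
          exact sub_eq_zero.mp ((smul_eq_zero.mp h2).resolve_right hu0)
        exact hy1 (Units.ext (by rw [hc, hc1, one_smul, Units.val_one]))
      have hmemc : (⟨y, hyR⟩ : R) * ⟨z, hz⟩ * ⟨y, hyR⟩⁻¹ * ⟨z, hz⟩⁻¹ ∈ Subgroup.center R :=
        hclass (Subgroup.commutator_mem_commutator (Subgroup.mem_top _) (Subgroup.mem_top _))
      obtain ⟨c, hc⟩ := (mem_scalars_iff _).mp (center_mem_scalars hirr hmemc)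
      have hyz : (y : Matrix ι ι E) * (z : Matrix ι ι E) = (c : E) • ((z : Matrix ι ι E) * (y : Matrix ι ι E)) := by
        have e : y * z = (((⟨y, hyR⟩ : R) * ⟨z, hz⟩ * ⟨y, hyR⟩⁻¹ * ⟨z, hz⟩⁻¹ : R) : GL ι E) * (z * y) := by
          simp only [Subgroup.coe_mul, Subgroup.coe_inv]
          group
        have e' := congrArg Units.val e
        rwa [Units.val_mul, Units.val_mul, hc, Matrix.smul_mul, Matrix.one_mul, Units.val_mul] at e'
      have hc1 : (c : E) ≠ 1 := by
        intro h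
        rw [h, one_smul] at hyz
        exact hne (Units.ext hyz.symm)
      set U' := U.map (Matrix.toLin' (z : Matrix ι ι E)) with hU'
      have hdisj : U ⊓ U' = ⊥ := by
        rw [Submodule.eq_bot_iff]
        rintro _ ⟨hu, ⟨w, hw, rfl⟩⟩
        have h1 := hfix _ hu
        rw [Matrix.toLin'_apply, Matrix.mulVec_mulVec, hyz, Matrix.smul_mulVec, ← Matrix.mulVec_mulVec,
          hfix w hw] at h1
        rw [Matrix.toLin'_apply]
        have h2 : ((c : E) - 1) • ((z : Matrix ι ι E) *ᵥ w) = 0 := by rw [sub_smul, one_smul, h1, sub_self]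
        exact (smul_eq_zero.mp h2).resolve_left (sub_ne_zero.mpr hc1)
      have hdim' : Module.finrank E U' = Module.finrank E U := by
        refine (LinearEquiv.finrank_eq ?_).symm
        exact Submodule.equivMapOfInjective _ (fun a b hab => by
          simp only [Matrix.toLin'_apply] at hab
          have h1 := congrArg (((z⁻¹ : GL ι E) : Matrix ι ι E) *ᵥ ·) hab
          simpa [Matrix.mulVec_mulVec] using h1) U
      have h1 := Submodule.finrank_sup_add_finrank_inf_eq U U'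
      have h2 := Submodule.finrank_le (U ⊔ U')
      rw [hdisj, finrank_bot, hdim'] at h1
      rw [Module.finrank_fintype_fun_eq_card] at h2
      omega
    have hcomm : t * x = x * t := by
      rw [hy] at hy1
      exact mul_inv_eq_iff_eq_mul.mp (mul_inv_eq_one.mp hy1)
    exact congrArg Units.val hcomm)
  exact hts c hc

end general

variable {F : Type*} [Field F] [Fintype F] {n q : ℕ} {σ : F ≃+* F}

theorem not_su_le_tensorProductSubgroup (hσ : IsQAut q σ) {n₁ n₂ : ℕ} (h1 : 2 ≤ n₁) (h2 : 3 ≤ n₂)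
    (e : Fin n ≃ Fin n₁ × Fin n₂) (P : GL (Fin n) F) :
    ¬ suGL n F q ≤ tensorProductSubgroup n₁ n₂ e P := by
  intro hle
  have hn : n₁ * n₂ = n := by simpa using (Fintype.card_congr e).symm
  obtain ⟨a, v, hv, hmem, hv0, hφ⟩ := utv_data hσ (n := n) (by nlinarith)
  exact tv_notMem_tensorProductSubgroup h1 h2 e P _ hv0 hφ (hle hmem)

theorem not_su_le_tensorWreathSubgroup (hσ : IsQAut q σ) {m : ℕ} (hm : 3 ≤ m)
    (e : Fin n ≃ (Fin 2 → Fin m)) (P : GL (Fin n) F) :
    ¬ suGL n F q ≤ tensorWreathSubgroup m 2 e P := by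
  intro hle
  have hn : m ^ 2 = n := by simpa using (Fintype.card_congr e).symm
  obtain ⟨a, v, hv, hmem, hv0, hφ⟩ := utv_data hσ (n := n) (by nlinarith)
  exact tv_notMem_tensorWreathSubgroup hm e P _ hv0 hφ (hle hmem)

theorem not_su_le_subgroupNormalizer (hσ : IsQAut q σ) (hn : 5 ≤ n) {R : Subgroup (GL (Fin n) F)}
    (hirr : ActsAbsolutelyIrreducibly (matrixSet R)) (hclass : commutator R ≤ Subgroup.center R) :
    ¬ suGL n F q ≤ subgroupNormalizer R := by
  intro hle
  obtain ⟨a, v, hv, hmem, hv0, hφ⟩ := utv_data hσ (n := n) (by omega)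
  exact tv_notMem_subgroupNormalizer (by rw [Fintype.card_fin]; exact hn) hirr hclass _ hv0 hφ (hle hmem)

theorem not_su_le_subfieldSubgroup (hσ : IsQAut q σ) (hn : 3 ≤ n) {F₀ : Subfield F} (hF : F₀ ≠ ⊤)
    (P : GL (Fin n) F) : ¬ suGL n F q ≤ subfieldSubgroup F₀ P := by
  intro hle
  obtain ⟨a, ha0, ha⟩ := exists_skew hσ
  obtain ⟨l, hl0, hl⟩ := exists_lambda hσ
  obtain ⟨ρ, hρ, hρσ, hρ1⟩ := exists_rho hσ
  set Pm : Matrix (Fin n) (Fin n) F := (P : Matrix (Fin n) (Fin n) F)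
  set Pi' : Matrix (Fin n) (Fin n) F := ((P⁻¹ : GL (Fin n) F) : Matrix (Fin n) (Fin n) F)
  let N : F → (Fin n → F) → Matrix (Fin n) (Fin n) F := fun b v => vecMulVec v (b • fun i => σ (v i))
  have hrat : ∀ b v, b + σ b = 0 → hermForm n F q v v = 0 → ∀ i j, (Pi' * N b v * Pm) i j ∈ F₀ :=
    fun b v hb hv i j => subfield_tv_rational (by rw [Fintype.card_fin]; exact hn) P _ (hle (utv_mem hσ hb v hv)) i j
  let o₀ : Fin n := ⟨0, by omega⟩
  let o₁ : Fin n := ⟨1, by omega⟩
  let o₂ : Fin n := ⟨2, by omega⟩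
  obtain ⟨h01, h02, h12⟩ : o₀ ≠ o₁ ∧ o₀ ≠ o₂ ∧ o₁ ≠ o₂ := by simp [o₀, o₁, o₂]
  have hu : hermForm n F q (pairVec o₀ o₁ l) (pairVec o₀ o₁ l) = 0 := pairVec_iso hσ h01 hl
  have hv : hermForm n F q (pairVec o₀ o₂ l) (pairVec o₀ o₂ l) = 0 := pairVec_iso hσ h02 hl
  have hw : ∀ μ : F, μ * σ μ = -1 → hermForm n F q (pairVec o₁ o₂ μ) (pairVec o₁ o₂ μ) = 0 :=
    fun μ hμ => pairVec_iso hσ h12 hμ
  -- the fixed field
  have hfixed : ∀ x : F, σ x = x → x ∈ F₀ := by
    intro x hx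
    obtain ⟨i, j, hij⟩ : ∃ i j, (Pi' * N a (pairVec o₀ o₁ l) * Pm) i j ≠ 0 := by
      by_contra hcon
      push Not at hcon
      have h0 : Pi' * N a (pairVec o₀ o₁ l) * Pm = 0 := by ext i j; exact hcon i j
      have h1 : Pm * (Pi' * N a (pairVec o₀ o₁ l) * Pm) * Pi' = N a (pairVec o₀ o₁ l) := by
        simp only [Pm, Pi', mul_assoc]
        rw [Units.mul_inv, Matrix.mul_one, ← mul_assoc, Units.mul_inv, Matrix.one_mul]
      rw [h0, mul_zero, zero_mul] at h1
      have h2 := congrFun (congrFun h1.symm o₀) o₀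
      simp [N, pairVec, vecMulVec_apply, h01] at h2
      exact ha0 h2
    have e1 := hrat a _ ha hu i j
    have e2 := hrat (x * a) _ (by rw [map_mul, hx]; linear_combination x * ha) hu i j
    have e : Pi' * N (x * a) (pairVec o₀ o₁ l) * Pm = x • (Pi' * N a (pairVec o₀ o₁ l) * Pm) := by
      simp only [N, mul_smul, vecMulVec_smul, Matrix.mul_smul, Matrix.smul_mul]
    rw [e, Matrix.smul_apply, smul_eq_mul] at e2
    have := F₀.div_mem e2 e1
    rwa [mul_div_cancel_right₀ _ hij] at this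
  -- traces of triple products
  have htrace : ∀ μ : F, μ * σ μ = -1 → a * a * a * (μ * σ l * l) ∈ F₀ := by
    intro μ hμ
    set A := Pi' * N a (pairVec o₀ o₁ l) * Pm
    set B := Pi' * N a (pairVec o₀ o₂ l) * Pm
    set C := Pi' * N a (pairVec o₁ o₂ μ) * Pm
    have hmem : (A * B * C).trace ∈ F₀ := by
      refine F₀.sum_mem fun i _ => ?_
      rw [Matrix.diag_apply, Matrix.mul_apply]
      refine F₀.sum_mem fun j _ => ?_
      rw [Matrix.mul_apply]
      exact F₀.mul_mem (F₀.sum_mem fun k _ => F₀.mul_mem (hrat a _ ha hu i k) (hrat a _ ha hv k j))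
        (hrat a _ ha (hw μ hμ) j i)
    have e : A * B * C = Pi' * (N a (pairVec o₀ o₁ l) * N a (pairVec o₀ o₂ l) * N a (pairVec o₁ o₂ μ)) * Pm := by
      simp only [A, B, C, mul_assoc]
      simp only [← mul_assoc Pm Pi', Pm, Pi', Units.mul_inv, Matrix.one_mul]
    rw [e, Matrix.trace_mul_cycle, Units.mul_inv, Matrix.one_mul] at hmem
    have e2 : (N a (pairVec o₀ o₁ l) * N a (pairVec o₀ o₂ l) * N a (pairVec o₁ o₂ μ)).trace =
        a * a * a * (hermForm n F q (pairVec o₀ o₂ l) (pairVec o₀ o₁ l) *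
          hermForm n F q (pairVec o₁ o₂ μ) (pairVec o₀ o₂ l) *
          hermForm n F q (pairVec o₀ o₁ l) (pairVec o₁ o₂ μ)) := by
      simp only [N, vecMulVec_mul_vecMulVec, Matrix.smul_mul, Matrix.mul_smul, Matrix.trace_vecMulVec,
        smul_dotProduct, dotProduct_smul, ← herm_eq hσ, smul_eq_mul, Matrix.trace_smul]
      rw [dotProduct_comm (pairVec o₀ o₁ l), ← herm_eq hσ]
      ring
    rw [e2, herm_pairVec hσ, herm_pairVec hσ, herm_pairVec hσ] at hmem
    simpa [pairVec, h01, h02, h12, h01.symm, h02.symm, h12.symm, mul_assoc] using hmem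
  apply hF
  have hρ0 : ρ ≠ 0 := left_ne_zero_of_mul_eq_one hρ
  have hρF : ρ ∈ F₀ := by
    have e1 := htrace l hl
    have e2 := htrace (ρ * l) (by rw [map_mul]; linear_combination (ρ * σ ρ) * hl - hρ)
    have hne : a * a * a * (l * σ l * l) ≠ 0 := by
      simp [ha0, hl0]
    have := F₀.div_mem e2 e1
    rwa [show a * a * a * (ρ * l * σ l * l) = ρ * (a * a * a * (l * σ l * l)) by ring,
      mul_div_cancel_right₀ _ hne] at this
  rw [eq_top_iff]
  intro y _
  have hd : ρ - σ ρ ≠ 0 := sub_ne_zero.mpr (Ne.symm hρσ)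
  set β := (y - σ y) / (ρ - σ ρ) with hβ
  have hβF : σ β = β := by
    rw [hβ, map_div₀, map_sub, map_sub, hσ.invol, hσ.invol, ← neg_sub y, ← neg_sub ρ, neg_div_neg_eq]
  have hαF : σ (y - β * ρ) = y - β * ρ := by
    have h2 : y - σ y = β * (ρ - σ ρ) := by rw [hβ, div_mul_cancel₀ _ hd]
    rw [map_sub, map_mul, hβF]
    linear_combination -h2
  have := F₀.add_mem (hfixed _ hαF) (F₀.mul_mem (hfixed _ hβF) hρF)
  rwa [sub_add_cancel] at this

end Cfsg.Agent.Lib.MaxClass.Unitary
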