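import Mathlib
import Cfsg.Prelude.Def_GeometricClasses
import Cfsg.Agent.Lib.MaxClass.UnitaryNotTop
import Cfsg.Agent.Lib.Aschbacher.Unitary

/-!
Over the field of four elements a decomposition into non-degenerate planes refines to one into lines, and a
tensor decomposition with a two-dimensional factor gives a decomposition into two non-degenerate subspaces.
-/

set_option autoImplicit false
set_option linter.style.haveILetI false

namespace Cfsg.Agent.Lib.MaxClass.Unitary

open Cfsg Cfsg.Geo Matrix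
open Cfsg.Agent.Lib.Aschbacher
open Cfsg.Agent.Lib.MaxClass
open scoped Kronecker

set_option maxHeartbeats 1000000

variable {F : Type*} [Field F] [Fintype F] {n q : ℕ} {σ : F ≃+* F}

lemma isUnitaryForm_herm (hσ : IsQAut q σ) : IsUnitaryForm σ (hermForm n F q) where
  ne_refl := hσ.ne_refl
  involutive := hσ.invol
  add_left := herm_add_left hσ
  smul_left := herm_smul_left hσ
  herm v w := (herm_comm hσ v w).symm
  nondegenerate v hv := by
    obtain ⟨i, hi⟩ := Function.ne_iff.mp hv
    refine ⟨⟨Pi.single i 1, ?_⟩, ⟨Pi.single i 1, ?_⟩⟩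
    · rw [herm_single_left hσ, one_mul]
      exact (map_ne_zero σ).mpr hi
    · rw [herm_single_right hσ, map_one, mul_one]
      exact hi

lemma isUnitaryForm_of_pow (hσ : IsQAut q σ) {d : ℕ} {g : (Fin d → F) → (Fin d → F) → F}
    (hg : IsUnitaryFormPow q g) : IsUnitaryForm σ g where
  ne_refl := hσ.ne_refl
  involutive := hσ.invol
  add_left := hg.add_left
  smul_left := hg.smul_left
  herm v w := by rw [hσ.eq_pow]; exact hg.herm v w
  nondegenerate := hg.nondegenerate

section form

variable {κ : Type} [Fintype κ] [DecidableEq κ] {f : (κ → F) → (κ → F) → F}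

omit [Fintype F] [Fintype κ] [DecidableEq κ] in
lemma form_add_right (hf : IsUnitaryForm σ f) (v x y : κ → F) : f v (x + y) = f v x + f v y := by
  rw [hf.herm, hf.add_left, map_add, ← hf.herm, ← hf.herm]

omit [Fintype F] [Fintype κ] [DecidableEq κ] in
lemma form_smul_right (hf : IsUnitaryForm σ f) (c : F) (v x : κ → F) : f v (c • x) = σ c * f v x := by
  rw [hf.herm, hf.smul_left, map_mul, ← hf.herm]

omit [Fintype F] [Fintype κ] [DecidableEq κ] in
lemma form_self_fixed (hf : IsUnitaryForm σ f) (v : κ → F) : σ (f v v) = f v v := (hf.herm v v).symm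

omit [Fintype F] [Fintype κ] [DecidableEq κ] in
lemma exists_anisotropic (hf : IsUnitaryForm σ f) {W : Submodule F (κ → F)} (h0 : W ≠ ⊥)
    (hnd : IsNondegenerateOn f W) : ∃ u ∈ W, f u u ≠ 0 := by
  by_contra hcon
  push Not at hcon
  obtain ⟨w, hw, hw0⟩ := W.ne_bot_iff.mp h0
  obtain ⟨x, hx, hxw⟩ := (hnd w hw hw0).1
  have key : ∀ c : F, c * f x w + σ (c * f x w) = 0 := fun c => by
    have h := hcon _ (W.add_mem (W.smul_mem c hx) hw)
    rw [hf.add_left, form_add_right hf, form_add_right hf, hcon _ (W.smul_mem c hx), hcon w hw, zero_add,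
      add_zero, hf.smul_left, hf.herm w (c • x), hf.smul_left] at h
    exact h
  have h1 : (1 : F) + 1 = 0 := by
    have h := key (f x w)⁻¹
    rwa [inv_mul_cancel₀ hxw, map_one] at h
  refine hf.ne_refl (RingEquiv.ext fun a => ?_)
  have h := key (a * (f x w)⁻¹)
  rw [mul_assoc, inv_mul_cancel₀ hxw, mul_one] at h
  rw [RingEquiv.refl_apply]
  linear_combination h - a * h1

/-- Over the field of four elements a non-degenerate plane has two lines of non-singular vectors. -/
theorem plane_two (hσ : IsQAut 2 σ) (hf : IsUnitaryForm σ f) {W : Submodule F (κ → F)}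
    (hW : Module.finrank F W = 2) (hnd : IsNondegenerateOn f W) :
    ∃ u : Fin 2 → (κ → F), (∀ s, u s ∈ W ∧ f (u s) (u s) ≠ 0) ∧ f (u 0) (u 1) = 0 ∧ f (u 1) (u 0) = 0 ∧
      W = Submodule.span F (Set.range u) ∧
      ∀ z ∈ W, f z z ≠ 0 → ∃ s, z ∈ Submodule.span F {u s} := by
  have hreal : ∀ c : F, σ c = c → c ≠ 0 → c = 1 := fun c hc hc0 => by
    rw [hσ.eq_pow, sq] at hc
    exact mul_left_cancel₀ hc0 (hc.trans (mul_one c).symm)
  obtain ⟨u, hu, huu⟩ := exists_anisotropic hf (fun h => by rw [h, finrank_bot] at hW; omega) hnd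
  have hu0 : u ≠ 0 := fun h => huu (by
    have := hf.smul_left 0 u u
    rwa [zero_smul, zero_mul, ← h] at this)
  obtain ⟨x, hx, hxu⟩ : ∃ x ∈ W, x ∉ Submodule.span F {u} := by
    by_contra hcon
    push Not at hcon
    have h1 := Submodule.finrank_mono (show W ≤ Submodule.span F {u} from hcon)
    rw [hW, finrank_span_singleton hu0] at h1
    omega
  set w := x - (f x u / f u u) • u with hw
  have hwW : w ∈ W := W.sub_mem hx (W.smul_mem _ hu)
  have hwu : f w u = 0 := by
    rw [hw, sub_eq_add_neg, ← neg_smul, hf.add_left, hf.smul_left, neg_mul, div_mul_cancel₀ _ huu, add_neg_cancel]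
  have huw : f u w = 0 := by rw [hf.herm, hwu, map_zero]
  have hind : LinearIndependent F ![u, w] := by
    rw [LinearIndependent.pair_iff' hu0]
    intro a ha
    apply hxu
    rw [Submodule.mem_span_singleton]
    exact ⟨a + f x u / f u u, by rw [add_smul, ha, hw, sub_add_cancel]⟩
  have hspan : W = Submodule.span F (Set.range ![u, w]) := by
    refine (Submodule.eq_of_le_of_finrank_le (Submodule.span_le.mpr ?_) ?_).symm
    · rintro _ ⟨s, rfl⟩
      fin_cases s
      · exact hu
      · exact hwW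
    · rw [finrank_span_eq_card hind, hW, Fintype.card_fin]
  have hpair : ∀ z ∈ W, ∃ a b : F, z = a • u + b • w := by
    intro z hz
    rw [hspan, Submodule.mem_span_range_iff_exists_fun] at hz
    obtain ⟨c, hc⟩ := hz
    exact ⟨c 0, c 1, by rw [← hc, Fin.sum_univ_two]; rfl⟩
  have hww : f w w ≠ 0 := by
    intro h0
    have hw0 : w ≠ 0 := fun h => hind.ne_zero 1 h
    obtain ⟨z, hz, hzw⟩ := (hnd w hwW hw0).1
    obtain ⟨a, b, rfl⟩ := hpair z hz
    rw [hf.add_left, hf.smul_left, hf.smul_left, huw, h0, mul_zero, mul_zero, add_zero] at hzw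
    exact hzw rfl
  refine ⟨![u, w], fun s => ?_, huw, hwu, hspan, fun z hz hzz => ?_⟩
  · fin_cases s
    · exact ⟨hu, huu⟩
    · exact ⟨hwW, hww⟩
  obtain ⟨a, b, rfl⟩ := hpair z hz
  simp only [hf.add_left, hf.smul_left, form_add_right hf, form_smul_right hf, huw, hwu,
    hreal _ (form_self_fixed hf u) huu, hreal _ (form_self_fixed hf w) hww, mul_zero, add_zero, zero_add,
    mul_one] at hzz
  have hnorm : ∀ c : F, c ≠ 0 → c * σ c = 1 := fun c hc =>
    hreal _ (by rw [map_mul, hσ.invol, mul_comm]) (mul_ne_zero hc ((map_ne_zero σ).mpr hc))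
  by_cases ha : a = 0
  · exact ⟨1, Submodule.mem_span_singleton.mpr ⟨b, by simp [ha]⟩⟩
  by_cases hb : b = 0
  · exact ⟨0, Submodule.mem_span_singleton.mpr ⟨a, by simp [hb]⟩⟩
  rw [hnorm a ha, hnorm b hb] at hzz
  exact absurd (by rw [one_add_one_eq_two, two_eq_zero_two hσ]) hzz

end form

/-- Orthogonal spanning subspaces of the right dimensions form a non-degenerate decomposition. -/
theorem decomposition_of_orthogonal (hσ : IsQAut q σ) {t m : ℕ} (ht : 2 ≤ t) (hm : 0 < m) (htm : t * m = n)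
    {D : Fin t → Submodule F (Fin n → F)} (htop : iSup D = ⊤)
    (horth : ∀ i j, i ≠ j → AreOrthogonalFor (hermForm n F q) (D i) (D j))
    (hdim : ∀ i, Module.finrank F (D i) ≤ m) :
    IsNondegenerateMDecomposition (hermForm n F q) m D := by
  classical
  have hzero : ∀ i, ∀ w ∈ D i, (∀ x ∈ D i, hermForm n F q x w = 0) → w = 0 := by
    intro i w hw h
    refine eq_zero_of_herm hσ fun v => ?_
    have hv : v ∈ iSup D := by rw [htop]; trivial
    induction hv using Submodule.iSup_induction' with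
    | mem j x hx =>
      by_cases hji : j = i
      · exact h x (hji ▸ hx)
      · exact horth j i hji x hx w hw
    | zero => exact herm_zero_left hσ w
    | add x y _ _ hx hy => rw [herm_add_left hσ, hx, hy, add_zero]
  have hnd : ∀ i, IsNondegenerateOn (hermForm n F q) (D i) := by
    intro i w hw hw0
    obtain ⟨x, hx, hxw⟩ : ∃ x ∈ D i, hermForm n F q x w ≠ 0 := by
      by_contra hcon
      push Not at hcon
      exact hw0 (hzero i w hw hcon)
    exact ⟨⟨x, hx, hxw⟩, x, hx, by rw [← herm_comm hσ]; exact (map_ne_zero σ).mpr hxw⟩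
  have hindep : iSupIndep D := by
    intro i
    rw [Submodule.disjoint_def]
    intro w hw hw'
    refine hzero i w hw fun x hx => ?_
    suffices h : ∀ y ∈ ⨆ (j : Fin t) (_ : j ≠ i), D j, hermForm n F q x y = 0 from h w hw'
    intro y hy
    induction hy using Submodule.iSup_induction' with
    | mem j y hy =>
      by_cases hji : j = i
      · subst hji
        simp at hy
        rw [hy, ← herm_comm hσ, herm_zero_left hσ, map_zero]
      · simp [hji] at hy
        exact horth i j (Ne.symm hji) x hx y hy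
    | zero => rw [← herm_comm hσ, herm_zero_left hσ, map_zero]
    | add y z _ _ hy hz => rw [herm_add_right hσ, hy, hz, add_zero]
  refine ⟨⟨ht, hm, fun i => ?_, hindep, htop⟩, hnd, horth⟩
  have hint : DirectSum.IsInternal D :=
    (DirectSum.isInternal_submodule_iff_iSupIndep_and_iSup_eq_top D).mpr ⟨hindep, htop⟩
  letI := DirectSum.IsInternal.chooseDecomposition D hint
  have h := (DirectSum.decomposeLinearEquiv D).finrank_eq
  rw [Module.finrank_fintype_fun_eq_card, Fintype.card_fin, Module.finrank_directSum] at h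
  by_contra hne
  have hlt : ∑ j, Module.finrank F (D j) < ∑ _j : Fin t, m :=
    Finset.sum_lt_sum (fun j _ => hdim j) ⟨i, Finset.mem_univ i, lt_of_le_of_ne (hdim i) hne⟩
  rw [← h, Finset.sum_const, Finset.card_univ, Fintype.card_fin, smul_eq_mul, htm] at hlt
  exact lt_irrefl _ hlt

omit [Fintype F] in
/-- A matrix mapping every block into some block stabilises the decomposition. -/
theorem mem_decompositionStabilizer_of_maps {t m : ℕ} {D : Fin t → Submodule F (Fin n → F)}
    (hD : IsMDecomposition m D) (g : GL (Fin n) F)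
    (h : ∀ i, ∃ j, (D i).map (Matrix.toLin' (g : Matrix (Fin n) (Fin n) F)) ≤ D j) :
    g ∈ decompositionStabilizer D := by
  classical
  choose π hπ using h
  have hinj : Function.Injective (Matrix.toLin' (g : Matrix (Fin n) (Fin n) F)) := fun a b hab => by
    simp only [Matrix.toLin'_apply] at hab
    have h1 := congrArg (((g⁻¹ : GL (Fin n) F) : Matrix (Fin n) (Fin n) F) *ᵥ ·) hab
    simpa [Matrix.mulVec_mulVec] using h1
  have heq : ∀ i, (D i).map (Matrix.toLin' (g : Matrix (Fin n) (Fin n) F)) = D (π i) := fun i =>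
    Submodule.eq_of_le_of_finrank_le (hπ i) (le_of_eq (by
      rw [hD.finrank_eq, ← (Submodule.equivMapOfInjective _ hinj (D i)).finrank_eq, hD.finrank_eq]))
  have hπinj : Function.Injective π := by
    intro i j hij
    by_contra hne
    have h1 : D i = D j := Submodule.map_injective_of_injective hinj (by rw [heq, heq, hij])
    have h2 := hD.indep.pairwiseDisjoint hne
    rw [Function.onFun, h1, disjoint_self] at h2
    have h3 := hD.finrank_eq j
    rw [h2, finrank_bot] at h3
    exact hD.pos.ne h3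
  exact ⟨Equiv.ofBijective π (Finite.injective_iff_bijective.mp hπinj), heq⟩

/-- Over the field of four elements planes refine to lines. -/
theorem planes_refine (hσ : IsQAut 2 σ) {t : ℕ} {D : Fin t → Submodule F (Fin n → F)}
    (hD : IsNondegenerateMDecomposition (hermForm n F 2) 2 D) :
    ∃ D' : Fin n → Submodule F (Fin n → F), IsNondegenerateMDecomposition (hermForm n F 2) 1 D' ∧
      decompositionStabilizer D ⊓ GU n F 2 ≤ decompositionStabilizer D' := by
  classical
  choose u hu h01 h10 hspan hline using fun i : Fin t =>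
    plane_two hσ (isUnitaryForm_herm hσ) (hD.decomp.finrank_eq i) (hD.nondegenerate i)
  have htn : t * 2 = n := by simpa using isMDecomposition_card hD.decomp
  let c : Fin n ≃ Fin t × Fin 2 := (finCongr htn.symm).trans finProdFinEquiv.symm
  let D' : Fin n → Submodule F (Fin n → F) := fun a => Submodule.span F {u (c a).1 (c a).2}
  have hD' : IsNondegenerateMDecomposition (hermForm n F 2) 1 D' := by
    refine decomposition_of_orthogonal hσ (by have := hD.decomp.two_le; omega) one_pos (by omega) ?_ ?_ ?_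
    · rw [eq_top_iff, ← hD.decomp.iSup_eq_top, iSup_le_iff]
      intro i
      rw [hspan i, Submodule.span_le]
      rintro _ ⟨s, rfl⟩
      refine Submodule.mem_iSup_of_mem (c.symm (i, s)) ?_
      simp only [D', Equiv.apply_symm_apply]
      exact Submodule.mem_span_singleton_self _
    · intro a b hab x hx y hy
      obtain ⟨l, rfl⟩ := Submodule.mem_span_singleton.mp hx
      obtain ⟨l', rfl⟩ := Submodule.mem_span_singleton.mp hy
      rw [herm_smul_left hσ, herm_smul_right hσ]
      suffices h : hermForm n F 2 (u (c a).1 (c a).2) (u (c b).1 (c b).2) = 0 by rw [h, mul_zero, mul_zero]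
      by_cases h1 : (c a).1 = (c b).1
      · have h2 : (c a).2 ≠ (c b).2 := fun h2 => hab (c.injective (Prod.ext h1 h2))
        rw [h1]
        rcases Fin.exists_fin_two.mp ⟨(c a).2, rfl⟩ with e1 | e1 <;>
          rcases Fin.exists_fin_two.mp ⟨(c b).2, rfl⟩ with e2 | e2 <;> rw [e1, e2] at h2 ⊢
        · exact absurd rfl h2
        · exact h01 _
        · exact h10 _
        · exact absurd rfl h2
      · exact hD.orthogonal _ _ h1 _ (hu _ _).1 _ (hu _ _).1
    · exact fun a => (finrank_span_le_card _).trans (by simp)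
  refine ⟨D', hD', fun g hg => mem_decompositionStabilizer_of_maps hD'.decomp g fun a => ?_⟩
  obtain ⟨⟨π, hπ⟩, hgU⟩ := hg
  set z := (g : Matrix (Fin n) (Fin n) F) *ᵥ u (c a).1 (c a).2 with hz
  have hzD : z ∈ D (π (c a).1) := by
    rw [← hπ]
    exact ⟨_, (hu _ _).1, Matrix.toLin'_apply _ _⟩
  have hzz : hermForm n F 2 z z ≠ 0 := (hgU (u (c a).1 (c a).2) (u (c a).1 (c a).2)).symm ▸ (hu _ _).2
  obtain ⟨s, hs⟩ := hline _ z hzD hzz
  refine ⟨c.symm (π (c a).1, s), ?_⟩
  rw [Submodule.map_span_le]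
  rintro _ rfl
  simp only [D', Equiv.apply_symm_apply, Matrix.toLin'_apply]
  exact hs

/-- The value of the form on tensors. -/
lemma tensor_value (hσ : IsQAut q σ) {n₁ n₂ : ℕ} {e : Fin n ≃ Fin n₁ × Fin n₂} {P : GL (Fin n) F}
    {f₁ : (Fin n₁ → F) → (Fin n₁ → F) → F} {f₂ : (Fin n₂ → F) → (Fin n₂ → F) → F}
    (h1 : IsUnitaryFormPow q f₁) (h2 : IsUnitaryFormPow q f₂)
    (hform : IsTensorFormStructure (fun x : F => x ^ q) (hermForm n F q) f₁ f₂ e P) :
    ∃ c : F, c ≠ 0 ∧ ∀ u u' z z',
      hermForm n F q ((P : Matrix (Fin n) (Fin n) F) *ᵥ ((fun a => u a.1 * z a.2) ∘ e))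
        ((P : Matrix (Fin n) (Fin n) F) *ᵥ ((fun a => u' a.1 * z' a.2) ∘ e)) = c * (f₁ u u' * f₂ z z') := by
  classical
  obtain ⟨c, hc0, hc⟩ := hform
  obtain ⟨G₁, hG₁⟩ := exists_gram_unitary (isUnitaryForm_of_pow hσ h1)
  obtain ⟨G₂, hG₂⟩ := exists_gram_unitary (isUnitaryForm_of_pow hσ h2)
  refine ⟨c, hc0, fun u u' z z' => ?_⟩
  rw [hc]
  congr 1
  subst hG₁ hG₂
  have eG : ∀ {d : ℕ} (G : Matrix (Fin d) (Fin d) F), gramMatrix (formM σ G) = G := fun G => by
    ext a b; exact formM_single σ G a b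
  rw [eG, eG]
  simp only [formOfGram, kroneckerMap_apply, formM, dotProduct, Matrix.mulVec,
    Fintype.sum_prod_type, Finset.mul_sum, Finset.sum_mul, ← hσ.eq_pow, map_mul]
  rw [Finset.sum_comm]
  refine Finset.sum_congr rfl fun k _ => ?_
  conv_rhs => rw [Finset.sum_comm]
  refine Finset.sum_congr rfl fun i _ => ?_
  conv_rhs => rw [Finset.sum_comm]
  refine Finset.sum_congr rfl fun j _ => Finset.sum_congr rfl fun l _ => ?_
  ring

omit [Fintype F] in
/-- The action of a Kronecker product on tensors. -/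
lemma tensor_action {n₁ n₂ : ℕ} {e : Fin n ≃ Fin n₁ × Fin n₂} {P g : GL (Fin n) F}
    (hg : g ∈ tensorProductSubgroup n₁ n₂ e P) :
    ∃ (A : GL (Fin n₁) F) (B : GL (Fin n₂) F), ∀ u z,
      (g : Matrix (Fin n) (Fin n) F) *ᵥ ((P : Matrix (Fin n) (Fin n) F) *ᵥ ((fun a => u a.1 * z a.2) ∘ e)) =
        (P : Matrix (Fin n) (Fin n) F) *ᵥ
          ((fun a => ((A : Matrix (Fin n₁) (Fin n₁) F) *ᵥ u) a.1 * ((B : Matrix (Fin n₂) (Fin n₂) F) *ᵥ z) a.2) ∘ e) := by
  classical
  obtain ⟨x, ⟨y, ⟨A, B, hy⟩, rfl⟩, rfl⟩ := hg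
  refine ⟨A, B, fun u z => ?_⟩
  show ((P * glReindex e.symm y * P⁻¹ : GL (Fin n) F) : Matrix (Fin n) (Fin n) F) *ᵥ _ = _
  rw [Matrix.mulVec_mulVec, ← Units.val_mul, inv_mul_cancel_right, Units.val_mul, ← Matrix.mulVec_mulVec]
  congr 1
  show (Matrix.reindexAlgEquiv F F e.symm (y : Matrix (Fin n₁ × Fin n₂) (Fin n₁ × Fin n₂) F)) *ᵥ _ = _
  rw [hy]
  funext i
  simp only [Matrix.mulVec, dotProduct, Matrix.reindexAlgEquiv_apply, Matrix.reindex_apply, Matrix.submatrix_apply,
    Equiv.symm_symm, Function.comp_apply, kroneckerMap_apply]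
  rw [← Equiv.sum_comp e.symm, Fintype.sum_prod_type, Finset.sum_mul_sum]
  refine Finset.sum_congr rfl fun a _ => Finset.sum_congr rfl fun b _ => ?_
  simp only [Equiv.apply_symm_apply]
  ring

/-- Over the field of four elements a two-dimensional tensor factor gives two blocks. -/
theorem tensor_refine (hσ : IsQAut 2 σ) {n₂ : ℕ} (hn₂ : 0 < n₂) {e : Fin n ≃ Fin 2 × Fin n₂} {P : GL (Fin n) F}
    {f₁ : (Fin 2 → F) → (Fin 2 → F) → F} {f₂ : (Fin n₂ → F) → (Fin n₂ → F) → F}
    (h1 : IsUnitaryFormPow 2 f₁) (h2 : IsUnitaryFormPow 2 f₂)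
    (hform : IsTensorFormStructure (fun x : F => x ^ 2) (hermForm n F 2) f₁ f₂ e P) :
    ∃ D : Fin 2 → Submodule F (Fin n → F), IsNondegenerateMDecomposition (hermForm n F 2) n₂ D ∧
      tensorProductSubgroup 2 n₂ e P ⊓ GU n F 2 ≤ decompositionStabilizer D := by
  classical
  obtain ⟨c, hc, hval⟩ := tensor_value hσ h1 h2 hform
  have hU := isUnitaryForm_of_pow hσ h1
  have hndtop : IsNondegenerateOn f₁ (⊤ : Submodule F (Fin 2 → F)) := fun w _ hw0 => by
    obtain ⟨⟨x, hx⟩, ⟨x', hx'⟩⟩ := h1.nondegenerate w hw0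
    exact ⟨⟨x, trivial, hx⟩, ⟨x', trivial, hx'⟩⟩
  obtain ⟨u, hu, h01, h10, hspan, hline⟩ := plane_two hσ hU
    (W := (⊤ : Submodule F (Fin 2 → F))) (by simp) hndtop
  let T : (Fin 2 → F) → (Fin n₂ → F) →ₗ[F] (Fin n → F) := fun w =>
    { toFun := fun z => (P : Matrix (Fin n) (Fin n) F) *ᵥ ((fun a => w a.1 * z a.2) ∘ e)
      map_add' := fun z z' => by
        rw [← Matrix.mulVec_add]; congr 1; funext i; simp [mul_add]
      map_smul' := fun l z => by
        rw [RingHom.id_apply, ← Matrix.mulVec_smul]; congr 1; funext i; simp [mul_left_comm] }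
  have hT : ∀ w z, T w z = (P : Matrix (Fin n) (Fin n) F) *ᵥ ((fun a => w a.1 * z a.2) ∘ e) := fun _ _ => rfl
  let D : Fin 2 → Submodule F (Fin n → F) := fun s => LinearMap.range (T (u s))
  have hn : 2 * n₂ = n := by simpa using (Fintype.card_congr e).symm
  have hD : IsNondegenerateMDecomposition (hermForm n F 2) n₂ D := by
    refine decomposition_of_orthogonal hσ le_rfl hn₂ hn ?_ ?_ ?_
    · have hTw : ∀ w, ∀ z, T w z ∈ iSup D := by
        intro w z
        have hw : w ∈ Submodule.span F (Set.range u) := hspan ▸ Submodule.mem_top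
        induction hw using Submodule.span_induction with
        | mem x hx =>
          obtain ⟨s, rfl⟩ := hx
          exact Submodule.mem_iSup_of_mem s ⟨z, rfl⟩
        | zero =>
          have : T 0 z = 0 := by
            rw [hT, show ((fun a => (0 : Fin 2 → F) a.1 * z a.2) ∘ e) = 0 from funext fun i => zero_mul _,
              Matrix.mulVec_zero]
          rw [this]; exact zero_mem _
        | add a b _ _ ha hb =>
          have : T (a + b) z = T a z + T b z := by
            rw [hT, hT, hT, ← Matrix.mulVec_add]; congr 1; funext i; simp [add_mul]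
          rw [this]; exact add_mem ha hb
        | smul l a _ ha =>
          have : T (l • a) z = l • T a z := by
            rw [hT, hT, ← Matrix.mulVec_smul]; congr 1; funext i; simp [mul_assoc]
          rw [this]; exact Submodule.smul_mem _ _ ha
      rw [eq_top_iff]
      intro v _
      obtain ⟨y, rfl⟩ : ∃ y, (P : Matrix (Fin n) (Fin n) F) *ᵥ y = v :=
        ⟨((P⁻¹ : GL (Fin n) F) : Matrix (Fin n) (Fin n) F) *ᵥ v, by simp [Matrix.mulVec_mulVec]⟩
      rw [pi_eq_sum_univ' y, Matrix.mulVec_sum]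
      refine Submodule.sum_mem _ fun i _ => ?_
      rw [Matrix.mulVec_smul]
      refine Submodule.smul_mem _ _ ?_
      have := hTw (Pi.single (e i).1 1) (Pi.single (e i).2 1)
      rw [hT] at this
      convert this using 2
      funext j
      by_cases hji : j = i
      · subst hji; simp
      · have : (e j).1 ≠ (e i).1 ∨ (e j).2 ≠ (e i).2 := by
          by_contra hh
          push Not at hh
          exact hji (e.injective (Prod.ext hh.1 hh.2))
        rcases this with h | h <;> simp [h, hji]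
    · intro s s' hss x hx y hy
      obtain ⟨z, rfl⟩ := hx
      obtain ⟨z', rfl⟩ := hy
      rw [hT, hT, hval]
      rcases Fin.exists_fin_two.mp ⟨s, rfl⟩ with rfl | rfl <;>
        rcases Fin.exists_fin_two.mp ⟨s', rfl⟩ with rfl | rfl
      · exact absurd rfl hss
      · rw [h01, zero_mul, mul_zero]
      · rw [h10, zero_mul, mul_zero]
      · exact absurd rfl hss
    · exact fun s => (LinearMap.finrank_range_le _).trans (by simp)
  refine ⟨D, hD, fun g hg => mem_decompositionStabilizer_of_maps hD.decomp g fun s => ?_⟩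
  obtain ⟨hgT, hgU⟩ := hg
  obtain ⟨A, B, hAB⟩ := tensor_action hgT
  have hiso : ∀ w w' z z', f₁ ((A : Matrix (Fin 2) (Fin 2) F) *ᵥ w) ((A : Matrix (Fin 2) (Fin 2) F) *ᵥ w') *
      f₂ ((B : Matrix (Fin n₂) (Fin n₂) F) *ᵥ z) ((B : Matrix (Fin n₂) (Fin n₂) F) *ᵥ z') = f₁ w w' * f₂ z z' := by
    intro w w' z z'
    apply mul_left_cancel₀ hc
    rw [← hval, ← hval, ← hAB, ← hAB]
    exact hgU _ _
  obtain ⟨z, z', hz⟩ : ∃ z z', f₂ z z' ≠ 0 := by
    have hne : (Pi.single (⟨0, hn₂⟩ : Fin n₂) (1 : F) : Fin n₂ → F) ≠ 0 := by simp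
    obtain ⟨⟨x, hx⟩, -⟩ := h2.nondegenerate _ hne
    exact ⟨x, _, hx⟩
  have hAu : f₁ ((A : Matrix (Fin 2) (Fin 2) F) *ᵥ u s) ((A : Matrix (Fin 2) (Fin 2) F) *ᵥ u s) ≠ 0 := by
    intro h0
    have h := hiso (u s) (u s) z z'
    rw [h0, zero_mul] at h
    exact mul_ne_zero (hu s).2 hz h.symm
  obtain ⟨s', hs'⟩ := hline _ trivial hAu
  obtain ⟨l, hl⟩ := Submodule.mem_span_singleton.mp hs'
  refine ⟨s', ?_⟩
  rintro _ ⟨_, ⟨z₀, rfl⟩, rfl⟩
  rw [Matrix.toLin'_apply, hT, hAB, ← hl]
  refine ⟨l • ((B : Matrix (Fin n₂) (Fin n₂) F) *ᵥ z₀), ?_⟩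
  rw [hT]
  congr 1
  funext i
  simp [mul_assoc, mul_left_comm]

end Cfsg.Agent.Lib.MaxClass.Unitary
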