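import Mathlib
import Cfsg.Prelude.Def_GeometricClasses
import Cfsg.Agent.Lib.MaxClass.UnitaryRefine

/-!
In dimension five over four elements: eleven vectors with Gram matrix given by the quadratic residues are
permuted up to scalars by the determinant-one normaliser of an adjoint-closed quintic field.
-/

set_option autoImplicit false
set_option linter.style.haveILetI false

namespace Cfsg.Agent.Lib.MaxClass.Unitary.Five

open Cfsg Cfsg.Geo Matrix
open Cfsg.Agent.Lib.Aschbacher
open Cfsg.Agent.Lib.MaxClass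
open Cfsg.Agent.Lib.MaxClass.Unitary

set_option maxHeartbeats 2000000

/-- The Gram value for a difference of indices. -/
def gval {F : Type*} [Field F] (ω : F) (d : Fin 11) : F :=
  if d = 0 then 1 else if d = 1 ∨ d = 3 ∨ d = 4 ∨ d = 5 ∨ d = 9 then ω else ω + 1

variable {F : Type*} [Field F] [Fintype F] {σ : F ≃+* F}

theorem field_five (hσ : IsQAut 2 σ) {K : Subalgebra F (Matrix (Fin 5) (Fin 5) F)} (hK : IsFieldSubalgebra 5 K)
    (hadj : IsAdjointClosedFor (hermForm 5 F 2) K) :
    ∃ (ω : F) (v : Fin 11 → Fin 5 → F), ω ^ 2 + ω + 1 = 0 ∧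
      (∀ i k, hermForm 5 F 2 (v i) (v k) = gval ω (i - k)) ∧
      ∀ g ∈ subalgebraNormalizer K ⊓ GU 5 F 2, ∃ (e : F) (r j : Fin 11),
        ∀ i, (g : Matrix (Fin 5) (Fin 5) F) *ᵥ v i = e • v (r * i + j) := by
  classical
  have h2 := two_eq_zero_two hσ
  haveI hch : CharP F 2 := CharTwo.of_one_ne_zero_of_two_eq_zero one_ne_zero h2
  haveI : Nontrivial K := ⟨⟨1, 0, fun h => by
    have := congrArg (fun a : K => (a : Matrix (Fin 5) (Fin 5) F) 0 0) h
    simp at this⟩⟩
  letI fK : Field K :=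
    IsField.toField
      { exists_pair_ne := exists_pair_ne K
        mul_comm := fun x y => Subtype.ext (hK.comm x x.2 y y.2)
        mul_inv_cancel := fun {x} hx => by
          obtain ⟨y, hy, hxy⟩ := hK.inv x x.2 (fun h => hx (Subtype.ext h))
          exact ⟨⟨y, hy⟩, Subtype.ext hxy⟩ }
  haveI : Finite K := inferInstance
  haveI : Fintype K := Fintype.ofFinite K
  haveI : FiniteDimensional F K := FiniteDimensional.of_finrank_pos (by rw [hK.finrank_eq]; norm_num)
  haveI : CharP K 2 := charP_of_injective_algebraMap (algebraMap F K).injective 2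
  haveI : Fact (Nat.Prime 2) := ⟨Nat.prime_two⟩
  have hcardK : Fintype.card K = 1024 := by
    rw [Module.card_eq_pow_finrank (K := F), hσ.card, hK.finrank_eq]; norm_num
  let act : K → (Fin 5 → F) → (Fin 5 → F) := fun k x => (k : Matrix (Fin 5) (Fin 5) F) *ᵥ x
  have act_add : ∀ a b x, act (a + b) x = act a x + act b x := fun a b x => Matrix.add_mulVec _ _ _
  have act_vadd : ∀ a x y, act a (x + y) = act a x + act a y := fun a x y => Matrix.mulVec_add _ _ _
  have act_mul : ∀ a b x, act (a * b) x = act a (act b x) := fun a b x => (Matrix.mulVec_mulVec _ _ _).symm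
  have act_one : ∀ x, act 1 x = x := fun x => Matrix.one_mulVec x
  have act_zero : ∀ x, act 0 x = 0 := fun x => Matrix.zero_mulVec x
  have act_smul : ∀ (c : F) a x, act (c • a) x = c • act a x := fun c a x => Matrix.smul_mulVec c _ _
  have act_map : ∀ (c : F) x, act (algebraMap F K c) x = c • x := fun c x => by
    rw [Algebra.algebraMap_eq_smul_one, act_smul, act_one]
  -- the adjoint map
  have hdual : ∀ k : K, ∃! k' : K, ∀ u v, hermForm 5 F 2 (act k u) v = hermForm 5 F 2 u (act k' v) := by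
    intro k
    obtain ⟨k', hk', h⟩ := hadj k k.2
    refine ⟨⟨k', hk'⟩, h, fun y hy => ?_⟩
    apply Subtype.ext
    refine Matrix.ext_of_mulVec_single fun j => ?_
    refine sub_eq_zero.mp (eq_zero_of_herm hσ fun v => ?_)
    have e : ∀ a b, hermForm 5 F 2 v (a - b) = hermForm 5 F 2 v a - hermForm 5 F 2 v b := fun a b => by
      rw [eq_sub_iff_add_eq, ← herm_add_right hσ, sub_add_cancel]
    rw [e, sub_eq_zero]
    exact (hy v (Pi.single j 1)).symm.trans (h v (Pi.single j 1))
  choose bar hbar hbaru using hdual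
  have bar_mul : ∀ a b, bar (a * b) = bar a * bar b := fun a b =>
    (hbaru (a * b) _ fun u v => by
      show hermForm 5 F 2 (act (a * b) u) v = hermForm 5 F 2 u (act (bar a * bar b) v)
      rw [mul_comm (bar a), act_mul, act_mul, hbar, hbar]).symm
  have bar_add : ∀ a b, bar (a + b) = bar a + bar b := fun a b =>
    (hbaru (a + b) _ fun u v => by
      show hermForm 5 F 2 (act (a + b) u) v = hermForm 5 F 2 u (act (bar a + bar b) v)
      rw [act_add, act_add, herm_add_left hσ, herm_add_right hσ, hbar, hbar]).symm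
  have bar_map : ∀ c : F, bar (algebraMap F K c) = algebraMap F K (σ c) := fun c =>
    (hbaru _ _ fun u v => by
      show hermForm 5 F 2 (act (algebraMap F K c) u) v = hermForm 5 F 2 u (act (algebraMap F K (σ c)) v)
      rw [act_map, act_map, herm_smul_left hσ, herm_smul_right hσ, hσ.invol]).symm
  have bar_bar : ∀ a, bar (bar a) = a := fun a =>
    (hbaru (bar a) a fun u v => by
      rw [← herm_comm hσ, ← hbar, herm_comm hσ]).symm
  have bar_one : bar 1 = 1 := by rw [← map_one (algebraMap F K), bar_map, map_one]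
  have bar_zero : bar 0 = 0 := by rw [← map_zero (algebraMap F K), bar_map, map_zero]
  let barHom : K →+* K :=
    { toFun := bar, map_one' := bar_one, map_mul' := bar_mul, map_zero' := bar_zero, map_add' := bar_add }
  have bar_sub : ∀ a b, bar (a - b) = bar a - bar b := fun a b => map_sub barHom a b
  -- the trace and the form over the field
  have htrF : ∀ k : K, algebraMap F K (Algebra.trace F K k) = k + k ^ 4 + k ^ 16 + k ^ 64 + k ^ 256 := by
    intro k
    rw [FiniteField.algebraMap_trace_eq_sum_pow, hK.finrank_eq, Nat.card_eq_fintype_card, hσ.card]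
    simp only [Finset.sum_range_succ, Finset.sum_range_zero]
    ring
  have hrep : ∀ x y, ∃! k : K, ∀ a, hermForm 5 F 2 (act a x) y = Algebra.trace F K (a * k) := by
    intro x y
    let L : K →ₗ[F] F :=
      { toFun := fun a => hermForm 5 F 2 (act a x) y
        map_add' := fun a b => by rw [act_add, herm_add_left hσ]
        map_smul' := fun c a => by rw [act_smul, herm_smul_left hσ]; rfl }
    have hnd : (Algebra.traceForm F K).Nondegenerate := traceForm_nondegenerate F K
    refine ⟨((Algebra.traceForm F K).toDual hnd).symm L, fun a => ?_, fun k hk => ?_⟩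
    · have h := LinearMap.BilinForm.apply_toDual_symm_apply (B := Algebra.traceForm F K) (hB := hnd) L a
      rw [Algebra.traceForm_apply] at h
      rw [mul_comm]
      exact h.symm
    · rw [eq_comm, LinearEquiv.symm_apply_eq]
      ext a
      show hermForm 5 F 2 (act a x) y = Algebra.traceForm F K k a
      rw [Algebra.traceForm_apply, mul_comm]
      exact hk a
  choose h hh hhu using hrep
  have h_left : ∀ a x y, h (act a x) y = a * h x y := fun a x y =>
    (hhu _ _ _ fun b => by rw [← act_mul, hh, mul_assoc]).symm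
  have htr : ∀ k, σ (Algebra.trace F K k) = Algebra.trace F K (bar k) := by
    intro k
    apply (algebraMap F K).injective
    rw [← bar_map, htrF, htrF]
    show barHom (k + k ^ 4 + k ^ 16 + k ^ 64 + k ^ 256) = _
    simp only [map_add, map_pow]
    rfl
  have h_herm : ∀ x y, h y x = bar (h x y) := by
    intro x y
    refine (hhu y x _ fun a => ?_).symm
    have e := hbar (bar a) x y
    rw [bar_bar, hh] at e
    rw [← herm_comm hσ, ← e, htr, bar_mul, bar_bar]
  have h_right : ∀ a x y, h x (act a y) = bar a * h x y := fun a x y => by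
    rw [h_herm, h_left, bar_mul, ← h_herm]
  -- the fixed field and the adjoint as a power
  let K₀ : Subfield K := barHom.eqLocusField (RingHom.id K)
  have mem0 : ∀ k, k ∈ K₀ ↔ bar k = k := fun k => Iff.rfl
  obtain ⟨ρ, hρ, hρσ, -⟩ := exists_rho hσ
  set r : K := algebraMap F K ρ with hr
  have hr' : bar r = algebraMap F K (σ ρ) := bar_map ρ
  have hrd : r - bar r ≠ 0 := by
    rw [hr', hr, ← map_sub]
    exact fun h0 => hρσ ((sub_eq_zero.mp ((algebraMap F K).injective (h0.trans (map_zero _).symm))).symm)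
  have hdec : ∀ k, ∃ a ∈ K₀, ∃ b ∈ K₀, k = a + r * b := by
    intro k
    have hb : bar ((k - bar k) / (r - bar r)) = (k - bar k) / (r - bar r) := by
      show barHom _ = _
      rw [map_div₀, map_sub, map_sub]
      show (bar k - bar (bar k)) / (bar r - bar (bar r)) = _
      rw [bar_bar, bar_bar, ← neg_sub k, ← neg_sub r, neg_div_neg_eq]
    refine ⟨k - r * ((k - bar k) / (r - bar r)), (mem0 _).mpr ?_, _, (mem0 _).mpr hb, by ring⟩
    rw [bar_sub, bar_mul, hb]
    linear_combination (mul_div_cancel₀ (k - bar k) hrd)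
  have hK₀card : Nat.card K₀ = 32 := by
    let f : K₀ × K₀ → K := fun ab => (ab.1 : K) + r * ab.2
    have hf : Function.Bijective f := by
      refine ⟨fun x y hxy => ?_, fun k => ?_⟩
      · have e : ((x.1 : K) - y.1) = r * ((y.2 : K) - x.2) := by
          have hxy' : (x.1 : K) + r * x.2 = y.1 + r * y.2 := hxy
          linear_combination hxy'
        have e' := congrArg bar e
        rw [bar_sub, bar_mul, bar_sub, (mem0 _).mp x.1.2, (mem0 _).mp y.1.2, (mem0 _).mp x.2.2,
          (mem0 _).mp y.2.2, e] at e'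
        have e'' : (r - bar r) * ((y.2 : K) - x.2) = 0 := by linear_combination e'
        have h2' := (mul_eq_zero.mp e'').resolve_left hrd
        have h1' : (x.1 : K) - y.1 = 0 := by rw [e, h2', mul_zero]
        exact Prod.ext (Subtype.ext (sub_eq_zero.mp h1')) (Subtype.ext (sub_eq_zero.mp h2').symm)
      · obtain ⟨a, ha, b, hb, rfl⟩ := hdec k
        exact ⟨(⟨a, ha⟩, ⟨b, hb⟩), rfl⟩
    have e := Nat.card_congr (Equiv.ofBijective f hf)
    rw [Nat.card_prod, Nat.card_eq_fintype_card (α := K), hcardK] at e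
    exact Nat.mul_self_inj.mp (e.trans (by norm_num : (1024 : ℕ) = 32 * 32))
  have pow32 : ∀ k, k ∈ K₀ ↔ k ^ 32 = k := fun k => by rw [mem_subfield_iff, hK₀card]
  have hbarpow : ∀ k, bar k = k ^ 32 := by
    intro k
    obtain ⟨s, hs⟩ : ∃ s, s = k + bar k := ⟨_, rfl⟩
    obtain ⟨p, hp⟩ : ∃ p, p = k * bar k := ⟨_, rfl⟩
    have hs0 : s ^ 32 = s := (pow32 s).mp ((mem0 s).mpr (by rw [hs, bar_add, bar_bar, add_comm]))
    have hp0 : p ^ 32 = p := (pow32 p).mp ((mem0 p).mpr (by rw [hp, bar_mul, bar_bar, mul_comm]))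
    obtain ⟨T, hT⟩ : ∃ T, T = k ^ 32 := ⟨_, rfl⟩
    have hq : k ^ 2 = s * k - p := by rw [hs, hp]; ring
    have hq' := congrArg (fun z => z ^ (2 ^ 5)) hq
    rw [sub_pow_char_pow, mul_pow, show (2 : ℕ) ^ 5 = 32 from rfl, hs0, hp0, ← pow_mul, mul_comm, pow_mul, ← hT] at hq'
    have h0 : (T - k) * (T - bar k) = 0 := by
      linear_combination hq' + T * hs - hp
    rw [← hT]
    rcases mul_eq_zero.mp h0 with h | h
    · have hk : T = k := sub_eq_zero.mp h
      rw [hk]
      exact (mem0 k).mp ((pow32 k).mpr (hT ▸ hk))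
    · exact (sub_eq_zero.mp h).symm
  -- a vector of norm one
  obtain ⟨v₀, hv₀⟩ : ∃ v₀ : Fin 5 → F, h v₀ v₀ = 1 := by
    have hc0 : h (Pi.single 0 1) (Pi.single 0 1) ≠ 0 := by
      intro h0
      have e := hh (Pi.single 0 1 : Fin 5 → F) (Pi.single 0 1) 1
      rw [act_one, h0, mul_zero, map_zero, herm_single_left hσ] at e
      simp at e
    obtain ⟨c, hc⟩ : ∃ c, c = h (Pi.single 0 1) (Pi.single 0 1) := ⟨_, rfl⟩
    rw [← hc] at hc0
    have hcfix : bar c = c := by rw [hc]; exact (h_herm _ _).symm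
    obtain ⟨m, hm⟩ : ∃ m, m * bar m = c⁻¹ :=
      Cfsg.Agent.Lib.Forms.exists_norm_eq (σ := barHom) (fun e => hrd (by
        have e' : bar r = r := RingHom.congr_fun e r
        rw [e', sub_self])) bar_bar (by
        show barHom c⁻¹ = c⁻¹
        rw [map_inv₀]
        exact congrArg Inv.inv hcfix)
    refine ⟨act m (Pi.single 0 1), ?_⟩
    rw [h_left, h_right, ← hc, ← mul_assoc, hm, inv_mul_cancel₀ hc0]
  have hform : ∀ a b, hermForm 5 F 2 (act a v₀) (act b v₀) = Algebra.trace F K (a * bar b) := by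
    intro a b
    rw [hh, h_right, hv₀, mul_one]
  have hinj : Function.Injective (fun a => act a v₀) := fun a b hab => by
    have e := congrArg (fun x => h x v₀) hab
    simp only [h_left, hv₀, mul_one] at e
    exact e
  have hsurj : Function.Surjective (fun a => act a v₀) :=
    ((Fintype.bijective_iff_injective_and_card _).mpr ⟨hinj, by
      rw [hcardK, Fintype.card_fun, Fintype.card_fin, hσ.card]; norm_num⟩).2
  -- an element of order eleven
  haveI : Fact (Nat.Prime 11) := ⟨by norm_num⟩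
  obtain ⟨zu, hzu⟩ := exists_prime_orderOf_dvd_card' (G := Kˣ) 11 (by
    rw [Nat.card_units, Nat.card_eq_fintype_card, hcardK]; norm_num)
  set z : K := (zu : K) with hzdef
  have hprim : IsPrimitiveRoot z 11 :=
    IsPrimitiveRoot.coe_units_iff.mpr (hzu ▸ IsPrimitiveRoot.orderOf zu)
  obtain ⟨zp, hzp⟩ : ∃ zp : Fin 11 → K, ∀ d, zp d = z ^ (d : ℕ) := ⟨_, fun _ => rfl⟩
  have zp_pow : ∀ m : ℕ, z ^ m = zp ⟨m % 11, Nat.mod_lt _ (by norm_num)⟩ := fun m => by
    rw [hzp]; exact pow_eq_pow_mod m hprim.pow_eq_one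
  have zp_add : ∀ a b, zp (a + b) = zp a * zp b := fun a b => by
    rw [hzp, hzp, hzp, Fin.val_add, ← pow_add, ← pow_eq_pow_mod _ hprim.pow_eq_one]
  have zp_mul : ∀ a b, zp (a * b) = zp a ^ (b : ℕ) := fun a b => by
    rw [hzp, hzp, ← pow_mul, Fin.val_mul, ← pow_eq_pow_mod _ hprim.pow_eq_one]
  have zp_zero : zp 0 = 1 := by rw [hzp]; exact pow_zero z
  have zp_surj : ∀ x : K, x ^ 11 = 1 → ∃ d, x = zp d := fun x hx => by
    obtain ⟨i, hi, he⟩ := hprim.eq_pow_of_pow_eq_one hx
    exact ⟨⟨i, hi⟩, by rw [hzp]; exact he.symm⟩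
  have bar_zp : ∀ d, bar (zp d) = zp (-d) := by
    intro d
    rw [hbarpow]
    have : -d = d * 10 := by revert d; decide
    rw [this, zp_mul, pow_eq_pow_mod 32 (show zp d ^ 11 = 1 by
      rw [hzp, ← pow_mul, mul_comm, pow_mul, hprim.pow_eq_one, one_pow])]
    rfl
  -- the Gaussian periods
  have hS : ∀ d, algebraMap F K (Algebra.trace F K (zp d)) =
      zp d + zp (4 * d) + zp (5 * d) + zp (9 * d) + zp (3 * d) := by
    intro d
    have e4 : zp (4 * d) = zp d ^ 4 := by rw [mul_comm, zp_mul]; rfl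
    have e5 : zp (5 * d) = zp d ^ 16 := by
      rw [show (5 : Fin 11) * d = 4 * d * 4 from (by decide : ∀ d : Fin 11, (5 : Fin 11) * d = 4 * d * 4) d, zp_mul, e4, ← pow_mul]; rfl
    have e9 : zp (9 * d) = zp d ^ 64 := by
      rw [show (9 : Fin 11) * d = 5 * d * 4 from (by decide : ∀ d : Fin 11, (9 : Fin 11) * d = 5 * d * 4) d, zp_mul, e5, ← pow_mul]; rfl
    have e3 : zp (3 * d) = zp d ^ 256 := by
      rw [show (3 : Fin 11) * d = 9 * d * 4 from (by decide : ∀ d : Fin 11, (3 : Fin 11) * d = 9 * d * 4) d, zp_mul, e9, ← pow_mul]; rfl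
    rw [htrF, e4, e5, e9, e3]
  obtain ⟨ω, hω⟩ : ∃ ω, ω = Algebra.trace F K (zp 1) := ⟨_, rfl⟩
  have hgeom : zp 0 + zp 1 + zp 2 + zp 3 + zp 4 + zp 5 + zp 6 + zp 7 + zp 8 + zp 9 + zp 10 = 0 := by
    have e := hprim.geom_sum_eq_zero (by norm_num)
    simp only [Finset.sum_range_succ, Finset.sum_range_zero, zero_add] at e
    simp only [hzp]
    exact e
  have hωK : algebraMap F K ω = zp 1 + zp 4 + zp 5 + zp 9 + zp 3 := by rw [hω, hS]; rfl
  have zp_sq : ∀ d, zp (d * 2) = zp d ^ 2 := fun d => zp_mul d 2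
  have hω2K : algebraMap F K (ω ^ 2) = zp 2 + zp 8 + zp 10 + zp 7 + zp 6 := by
    rw [map_pow, hωK, CharTwo.add_sq, CharTwo.add_sq, CharTwo.add_sq, CharTwo.add_sq,
      ← zp_sq 1, ← zp_sq 4, ← zp_sq 5, ← zp_sq 9, ← zp_sq 3]
    rfl
  have hωeq : ω ^ 2 + ω + 1 = 0 := by
    apply (algebraMap F K).injective
    rw [map_add, map_add, hω2K, hωK, map_one, map_zero]
    rw [zp_zero] at hgeom
    linear_combination hgeom
  have hω1 : algebraMap F K (ω + 1) = zp 2 + zp 8 + zp 10 + zp 7 + zp 6 := by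
    rw [← hω2K]
    congr 1
    linear_combination -hωeq + (ω + 1) * h2
  have hgram : ∀ d, Algebra.trace F K (zp d) = gval ω d := by
    intro d
    apply (algebraMap F K).injective
    rw [hS]
    fin_cases d
    · simp [gval, zp_zero]
      linear_combination (2 : K) * (CharTwo.two_eq_zero (R := K))
    all_goals
      simp only [Fin.zero_eta, Fin.mk_one, Fin.reduceFinMk, Fin.reduceMul, one_mul, mul_one]
      simp +decide only [gval, if_true, if_false]
      first
        | linear_combination -hωK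
        | linear_combination -hω1
  refine ⟨ω, fun i => act (zp i) v₀, hωeq, fun i k => ?_, ?_⟩
  · rw [hform, bar_zp, ← zp_add, ← sub_eq_add_neg, hgram]
  -- the normaliser
  rintro g ⟨hgK, hgU⟩
  have hgf : ∀ x y, hermForm 5 F 2 ((g : Matrix (Fin 5) (Fin 5) F) *ᵥ x) ((g : Matrix (Fin 5) (Fin 5) F) *ᵥ y) =
      hermForm 5 F 2 x y := hgU
  let θ : K →ₐ[F] K :=
    { toFun := fun a => ⟨(g : Matrix (Fin 5) (Fin 5) F) * a * ((g⁻¹ : GL (Fin 5) F) : Matrix (Fin 5) (Fin 5) F),
        (hgK _).mp a.2⟩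
      map_one' := Subtype.ext (by simp)
      map_mul' := fun a b => Subtype.ext (by simp [mul_assoc])
      map_zero' := Subtype.ext (by simp)
      map_add' := fun a b => Subtype.ext (by simp [mul_add, add_mul])
      commutes' := fun c => Subtype.ext (by
        show (g : Matrix (Fin 5) (Fin 5) F) * algebraMap F _ c * _ = algebraMap F _ c
        rw [← Algebra.commutes, mul_assoc, Units.mul_inv, mul_one]) }
  have hθ : ∀ a x, (g : Matrix (Fin 5) (Fin 5) F) *ᵥ act a x = act (θ a) ((g : Matrix (Fin 5) (Fin 5) F) *ᵥ x) := by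
    intro a x
    show _ *ᵥ ((a : Matrix (Fin 5) (Fin 5) F) *ᵥ x) = _
    rw [Matrix.mulVec_mulVec]
    show _ = ((g : Matrix (Fin 5) (Fin 5) F) * (a : Matrix (Fin 5) (Fin 5) F) * _) *ᵥ _
    rw [Matrix.mulVec_mulVec, mul_assoc ((g : Matrix (Fin 5) (Fin 5) F) * (a : Matrix (Fin 5) (Fin 5) F)), Units.inv_mul,
      mul_one]
  obtain ⟨l, hl⟩ := hsurj ((g : Matrix (Fin 5) (Fin 5) F) *ᵥ v₀)
  simp only at hl
  have htrθ : ∀ k, Algebra.trace F K (θ k) = Algebra.trace F K k := by
    intro k
    apply (algebraMap F K).injective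
    have e := θ.commutes (Algebra.trace F K k)
    rw [htrF] at e
    rw [htrF, htrF]
    simpa only [map_add, map_pow] using e
  have hll : l * bar l = 1 := by
    have hθb : Function.Surjective θ := Finite.injective_iff_surjective.mp θ.toRingHom.injective
    have e : h ((g : Matrix (Fin 5) (Fin 5) F) *ᵥ v₀) ((g : Matrix (Fin 5) (Fin 5) F) *ᵥ v₀) = 1 := by
      refine (hhu _ _ _ fun a => ?_).symm
      obtain ⟨b, rfl⟩ := hθb a
      rw [← hθ, hgf, hh, hv₀, mul_one, mul_one, htrθ]
    rw [← hl, h_left, h_right, hv₀, mul_one] at e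
    exact e
  have hl33 : l ^ 33 = 1 := by rw [pow_succ', ← hbarpow]; exact hll
  have hl11 : ∃ c : F, algebraMap F K c = l ^ 11 := by
    have h3 : (l ^ 11 - 1) * ((l ^ 11 - algebraMap F K ω) * (l ^ 11 + algebraMap F K ω + 1)) = 0 := by
      have hw : algebraMap F K ω ^ 2 + algebraMap F K ω + 1 = 0 := by
        rw [← map_pow, ← map_add, ← map_one (algebraMap F K), ← map_add, hωeq, map_zero]
      linear_combination hl33 - (l ^ 11 - 1) * hw
    rcases mul_eq_zero.mp h3 with h | h
    · exact ⟨1, by rw [map_one]; exact (sub_eq_zero.mp h).symm⟩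
    rcases mul_eq_zero.mp h with h | h
    · exact ⟨ω, (sub_eq_zero.mp h).symm⟩
    · exact ⟨-(ω + 1), by rw [map_neg, map_add, map_one]; linear_combination -h⟩
  obtain ⟨c, hc⟩ := hl11
  obtain ⟨j, hj⟩ := zp_surj (l ^ 12) (by
    rw [← pow_mul, show 12 * 11 = 33 * 4 from rfl, pow_mul, hl33, one_pow])
  obtain ⟨r', hr''⟩ := zp_surj (θ (zp 1)) (by
    rw [← map_pow, hzp, ← pow_mul, mul_comm, pow_mul, hprim.pow_eq_one, one_pow, map_one])
  refine ⟨c⁻¹, r', j, fun i => ?_⟩
  show (g : Matrix (Fin 5) (Fin 5) F) *ᵥ act (zp i) v₀ = c⁻¹ • act (zp (r' * i + j)) v₀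
  have hθi : θ (zp i) = zp (r' * i) := by
    rw [zp_mul, ← hr'', ← map_pow, ← zp_mul, one_mul]
  have hlj : l = algebraMap F K c⁻¹ * zp j := by
    rw [map_inv₀, ← hj, hc, eq_inv_mul_iff_mul_eq₀ (pow_ne_zero _ fun h0 => by simp [h0] at hl33)]
    ring
  rw [hθ, hθi, ← hl, ← act_mul, hlj, ← act_smul]
  congr 1
  rw [Algebra.smul_def, zp_add]
  ring

end Cfsg.Agent.Lib.MaxClass.Unitary.Five
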