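import Mathlib
import Cfsg.Prelude.Def_GeometricClasses
import Cfsg.Agent.Lib.MaxClass.UnitaryFiveField
import Cfsg.Agent.Lib.MaxClass.LinearMax

/-!
In `SU_5(2)` the normaliser of a quintic field is not maximal: it stabilises eleven totally isotropic planes.
-/

set_option autoImplicit false
set_option linter.style.haveILetI false

namespace Cfsg.Agent.Lib.MaxClass.Unitary.Five

open Cfsg Cfsg.Geo Matrix
open Cfsg.Agent.Lib.Aschbacher
open Cfsg.Agent.Lib.MaxClass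
open Cfsg.Agent.Lib.MaxClass.Unitary

set_option maxHeartbeats 1000000

/-! ### The field of four elements as tables -/

/-- Addition on `{0, 1, ω, ω + 1}`. -/
def ta : Fin 4 → Fin 4 → Fin 4 := ![![0, 1, 2, 3], ![1, 0, 3, 2], ![2, 3, 0, 1], ![3, 2, 1, 0]]

/-- Multiplication on `{0, 1, ω, ω + 1}`. -/
def tm : Fin 4 → Fin 4 → Fin 4 := ![![0, 0, 0, 0], ![0, 1, 2, 3], ![0, 2, 3, 1], ![0, 3, 1, 2]]

/-- Conjugation on `{0, 1, ω, ω + 1}`. -/
def tc : Fin 4 → Fin 4 := ![0, 1, 3, 2]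

/-- A sum of five terms. -/
def s5 (f : Fin 5 → Fin 4) : Fin 4 := ta (ta (ta (ta (f 0) (f 1)) (f 2)) (f 3)) (f 4)

/-- A linear combination of two vectors. -/
def tl (a : Fin 4) (x : Fin 5 → Fin 4) (b : Fin 4) (y : Fin 5 → Fin 4) : Fin 5 → Fin 4 :=
  fun l => ta (tm a (x l)) (tm b (y l))

/-- A matrix applied to a vector. -/
def tv5 (M : Fin 5 → Fin 5 → Fin 4) (x : Fin 5 → Fin 4) : Fin 5 → Fin 4 := fun l => s5 fun i => tm (M l i) (x i)

/-- The Gram table. -/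
def tg (d : Fin 11) : Fin 4 :=
  if d = 0 then 1 else if d = 1 ∨ d = 3 ∨ d = 4 ∨ d = 5 ∨ d = 9 then 2 else 3

/-- The Gram matrix of the first five vectors. -/
def tG (i l : Fin 5) : Fin 4 := tg (Fin.castLE (by norm_num) i - Fin.castLE (by norm_num) l)

/-- Its inverse. -/
def tN : Fin 5 → Fin 5 → Fin 4 :=
  ![![0, 0, 3, 2, 0], ![0, 0, 1, 0, 2], ![2, 1, 1, 1, 3], ![3, 0, 1, 0, 0], ![0, 3, 2, 0, 0]]

/-- The form. -/
def th (x y : Fin 5 → Fin 4) : Fin 4 := s5 fun i => tm (x i) (s5 fun l => tm (tG i l) (tc (y l)))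

/-- Coordinates of the eleven vectors. -/
def cC : Fin 11 → Fin 5 → Fin 4 :=
  ![![1, 0, 0, 0, 0], ![0, 1, 0, 0, 0], ![0, 0, 1, 0, 0], ![0, 0, 0, 1, 0], ![0, 0, 0, 0, 1], ![1, 3, 1, 1, 2],
    ![2, 0, 1, 3, 2], ![2, 3, 2, 3, 0], ![0, 2, 3, 2, 3], ![3, 2, 1, 0, 3], ![3, 1, 1, 2, 1]]

/-- The translation. -/
def mA : Fin 5 → Fin 5 → Fin 4 :=
  ![![0, 0, 0, 0, 1], ![1, 0, 0, 0, 3], ![0, 1, 0, 0, 1], ![0, 0, 1, 0, 1], ![0, 0, 0, 1, 2]]

/-- The multiplication by four. -/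
def mB : Fin 5 → Fin 5 → Fin 4 :=
  ![![1, 0, 0, 0, 1], ![0, 0, 2, 1, 3], ![0, 0, 3, 0, 1], ![0, 0, 2, 0, 1], ![0, 1, 3, 0, 2]]

/-- A further isometry of the planes. -/
def mT : Fin 5 → Fin 5 → Fin 4 :=
  ![![2, 2, 2, 2, 1], ![0, 0, 2, 3, 0], ![0, 2, 0, 1, 2], ![0, 0, 0, 3, 1], ![0, 0, 0, 1, 3]]

/-- First vectors of the planes. -/
def cP : Fin 11 → Fin 5 → Fin 4 :=
  ![![1, 2, 3, 2, 2], ![2, 0, 0, 1, 1], ![1, 1, 1, 1, 3], ![3, 3, 2, 2, 0], ![0, 3, 3, 2, 2], ![2, 1, 1, 1, 1],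
    ![1, 1, 0, 0, 3], ![3, 3, 2, 3, 1], ![1, 0, 2, 3, 1], ![1, 2, 1, 3, 1], ![1, 2, 3, 0, 1]]

/-- Second vectors of the planes. -/
def cQ : Fin 11 → Fin 5 → Fin 4 :=
  ![![3, 2, 0, 3, 3], ![3, 1, 1, 3, 2], ![2, 2, 3, 3, 0], ![0, 2, 2, 3, 3], ![3, 2, 1, 1, 2], ![2, 2, 0, 3, 2],
    ![2, 3, 0, 2, 0], ![0, 2, 3, 0, 2], ![2, 1, 0, 1, 3], ![3, 0, 2, 3, 0], ![0, 3, 0, 2, 3]]

/-- The images of the planes under the further isometry. -/
def cT : Fin 11 → Fin 11 × Fin 4 × Fin 4 × Fin 4 × Fin 4 :=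
  ![(0, 3, 3, 2, 3), (4, 1, 0, 2, 3), (10, 3, 0, 0, 1), (5, 3, 3, 1, 0), (1, 3, 0, 2, 1), (3, 0, 3, 1, 3),
    (7, 1, 2, 2, 0), (6, 0, 2, 2, 1), (8, 3, 1, 1, 3), (9, 0, 1, 3, 0), (2, 1, 0, 0, 3)]

lemma tG_inv : ∀ i k, (s5 fun l => tm (tG i l) (tN l k)) = if i = k then 1 else 0 := by decide
lemma cC_std : ∀ i : Fin 5, ∀ l, cC (Fin.castLE (by norm_num) i) l = if l = i then 1 else 0 := by decide
lemma cC_gram : ∀ (i : Fin 11) (m : Fin 5),
    th (cC i) (fun l => if l = m then 1 else 0) = tg (i - Fin.castLE (by norm_num) m) := by decide +kernel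
lemma mA_C : ∀ i, tv5 mA (cC i) = cC (i + 1) := by decide
lemma mB_C : ∀ i, tv5 mB (cC i) = cC (4 * i) := by decide
lemma mA_P : ∀ i, tv5 mA (cP i) = cP (i + 1) := by decide
lemma mA_Q : ∀ i, tv5 mA (cQ i) = cQ (i + 1) := by decide
lemma mB_P : ∀ i, tv5 mB (cP i) = cQ (4 * i) := by decide
lemma mB_Q : ∀ i, tv5 mB (cQ i) = tl 1 (cP (4 * i)) 2 (cQ (4 * i)) := by decide
lemma mT_P : ∀ i, tv5 mT (cP i) = tl (cT i).2.1 (cP (cT i).1) (cT i).2.2.1 (cQ (cT i).1) := by decide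
lemma mT_Q : ∀ i, tv5 mT (cQ i) = tl (cT i).2.2.2.1 (cP (cT i).1) (cT i).2.2.2.2 (cQ (cT i).1) := by decide
lemma mT_form : ∀ i m : Fin 5, th (fun l => mT l i) (fun l => mT l m) = tG i m := by decide
lemma mT_col : ∀ (j : Fin 11) (e : Fin 4), (fun l => mT l 1) ≠ fun l => tm e (cC j l) := by decide +kernel
lemma u_iso : th ![0, 0, 0, 1, 3] ![0, 0, 0, 1, 3] = 0 := by decide
lemma u_moves : ∀ (j : Fin 11) (a b : Fin 4),
    tl 1 (cP 1) (th (cP 1) ![0, 0, 0, 1, 3]) ![0, 0, 0, 1, 3] ≠ tl a (cP j) b (cQ j) := by decide +kernel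
lemma iter_add : ∀ (j i : Fin 11), (fun x : Fin 11 => x + 1)^[(j : ℕ)] i = i + j := by decide
lemma qr_pow : ∀ r : Fin 11, tg r = tg 1 → ∃ m : Fin 5, (4 : Fin 11) ^ (m : ℕ) = r := by decide

variable {F : Type*} [Field F]

/-- The value of a code. -/
def tval (ω : F) : Fin 4 → F := ![0, 1, ω, ω + 1]

/-- Coordinates from codes. -/
def jv (ω : F) (x : Fin 5 → Fin 4) : Fin 5 → F := fun l => tval ω (x l)

/-- A matrix from codes. -/
def jm (ω : F) (M : Fin 5 → Fin 5 → Fin 4) : Matrix (Fin 5) (Fin 5) F := Matrix.of fun l i => tval ω (M l i)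

/-- The stabiliser of a set of vectors. -/
def setStab (Ω : Set (Fin 5 → F)) : Subgroup (GL (Fin 5) F) where
  carrier := {g | ∀ x, x ∈ Ω ↔ (g : Matrix (Fin 5) (Fin 5) F) *ᵥ x ∈ Ω}
  one_mem' := fun x => by simp
  mul_mem' := fun {a b} ha hb x => by rw [hb x, ha, Units.val_mul, ← Matrix.mulVec_mulVec]
  inv_mem' := fun {a} ha x => by
    rw [ha (((a⁻¹ : GL (Fin 5) F) : Matrix (Fin 5) (Fin 5) F) *ᵥ x), Matrix.mulVec_mulVec, Units.mul_inv,
      Matrix.one_mulVec]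

lemma mem_setStab [Finite F] {Ω : Set (Fin 5 → F)} {g : GL (Fin 5) F}
    (h : ∀ x ∈ Ω, (g : Matrix (Fin 5) (Fin 5) F) *ᵥ x ∈ Ω) : g ∈ setStab Ω := by
  intro x
  refine ⟨h x, fun hx => ?_⟩
  let φ : Ω → Ω := fun y => ⟨_, h y y.2⟩
  have hφ : Function.Injective φ := fun y y' hy => Subtype.ext (by
    have e := congrArg (fun z : Ω => ((g⁻¹ : GL (Fin 5) F) : Matrix (Fin 5) (Fin 5) F) *ᵥ (z : Fin 5 → F)) hy
    simpa [φ, Matrix.mulVec_mulVec] using e)
  obtain ⟨y, hy⟩ := Finite.injective_iff_surjective.mp hφ ⟨_, hx⟩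
  have e := congrArg (fun z : Ω => ((g⁻¹ : GL (Fin 5) F) : Matrix (Fin 5) (Fin 5) F) *ᵥ (z : Fin 5 → F)) hy
  have : (y : Fin 5 → F) = x := by simpa [φ, Matrix.mulVec_mulVec] using e
  exact this ▸ y.2

variable [Fintype F] {σ : F ≃+* F}

theorem field_not_maximal (hσ : IsQAut 2 σ) {K : Subalgebra F (Matrix (Fin 5) (Fin 5) F)}
    (hK : IsFieldSubalgebra 5 K) (hadj : IsAdjointClosedFor (hermForm 5 F 2) K) {H : Subgroup (GL (Fin 5) F)}
    (hH : IsMaximalIn (suGL 5 F 2) H) (hle : H ≤ subalgebraNormalizer K) : False := by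
  classical
  obtain ⟨ω, v, hω, hv, hN⟩ := field_five hσ hK hadj
  have h2 := two_eq_zero_two hσ
  have hne : ω ≠ 0 ∧ ω ≠ 1 ∧ ω + 1 ≠ 0 := by
    refine ⟨?_, ?_, ?_⟩ <;> intro h
    · rw [h] at hω; simp at hω
    · rw [h] at hω; exact one_ne_zero (α := F) (by linear_combination hω - h2)
    · exact one_ne_zero (α := F) (by linear_combination hω - ω * h)
  have val_add : ∀ a b, tval ω (ta a b) = tval ω a + tval ω b := by
    intro a b
    fin_cases a <;> fin_cases b <;> simp [tval, ta] <;>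
      first
        | ring1
        | linear_combination (1 : F) * h2
        | linear_combination (-1 : F) * h2
        | linear_combination (ω : F) * h2
        | linear_combination (-ω : F) * h2
        | linear_combination (ω + 1 : F) * h2
        | linear_combination (-(ω + 1) : F) * h2
  have val_mul : ∀ a b, tval ω (tm a b) = tval ω a * tval ω b := by
    intro a b
    fin_cases a <;> fin_cases b <;> simp [tval, tm] <;>
      first
        | ring1
        | linear_combination hω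
        | linear_combination -hω
        | linear_combination hω - (ω + 1) * h2
        | linear_combination -hω + (ω + 1) * h2
        | linear_combination hω - h2
        | linear_combination -hω + h2
        | linear_combination hω - ω * h2
        | linear_combination -hω + ω * h2
  have val_conj : ∀ a, tval ω (tc a) = σ (tval ω a) := by
    intro a
    rw [hσ.eq_pow]
    fin_cases a <;> simp [tval, tc] <;>
      first
        | ring1
        | linear_combination hω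
        | linear_combination -hω
        | linear_combination hω - (ω + 1) * h2
        | linear_combination -hω + (ω + 1) * h2
  have val_inj : Function.Injective (tval ω) := by
    intro a b hab
    fin_cases a <;> fin_cases b <;> first
      | rfl
      | (simp [tval] at hab <;>
         first
           | exact absurd hab hne.1
           | exact absurd hab.symm hne.1
           | exact absurd hab hne.2.1
           | exact absurd hab.symm hne.2.1
           | exact absurd hab hne.2.2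
           | exact absurd hab.symm hne.2.2)
  have val_surj : Function.Surjective (tval ω) :=
    ((Fintype.bijective_iff_injective_and_card _).mpr ⟨val_inj, by rw [hσ.card, Fintype.card_fin]; norm_num⟩).2
  have val_s5 : ∀ f, tval ω (s5 f) = ∑ i, tval ω (f i) := fun f => by
    simp only [s5, val_add, Fin.sum_univ_five]
  have val_tg : ∀ d, gval ω d = tval ω (tg d) := fun d => by
    unfold gval tg
    split_ifs <;> simp [tval]
  have val_ite : ∀ p : Prop, ∀ [Decidable p], tval ω (if p then 1 else 0) = if p then (1 : F) else 0 := fun p _ => by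
    split_ifs <;> simp [tval]
  have j_tv5 : ∀ M x, jv ω (tv5 M x) = jm ω M *ᵥ jv ω x := fun M x => by
    funext l
    simp only [jv, tv5, val_s5, val_mul, jm, Matrix.mulVec, dotProduct, Matrix.of_apply]
  have j_tl : ∀ a x b y, jv ω (tl a x b y) = tval ω a • jv ω x + tval ω b • jv ω y := fun a x b y => by
    funext l
    simp only [jv, tl, val_add, val_mul, Pi.add_apply, Pi.smul_apply, smul_eq_mul]
  -- the frame
  let c5 : Fin 5 → Fin 11 := Fin.castLE (by norm_num)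
  let Pm : Matrix (Fin 5) (Fin 5) F := Matrix.of fun l i => v (c5 i) l
  have hPm : ∀ a, Pm *ᵥ a = ∑ i, a i • v (c5 i) := fun a => by
    funext l
    simp [Pm, Matrix.mulVec, dotProduct, mul_comm]
  have hP_single : ∀ i, Pm *ᵥ Pi.single i 1 = v (c5 i) := fun i => by
    rw [Matrix.mulVec_single_one]
    rfl
  have hform : ∀ a b, hermForm 5 F 2 (Pm *ᵥ a) (Pm *ᵥ b) = ∑ i, a i * ∑ l, tval ω (tG i l) * σ (b l) := by
    intro a b
    rw [hPm, hPm, Fin.sum_univ_five, Fin.sum_univ_five]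
    simp only [herm_add_left hσ, herm_add_right hσ, herm_smul_left hσ, herm_smul_right hσ, hv, val_tg,
      Fin.sum_univ_five]
    simp only [tG, c5]
    ring
  have hformj : ∀ x y, hermForm 5 F 2 (Pm *ᵥ jv ω x) (Pm *ᵥ jv ω y) = tval ω (th x y) := fun x y => by
    rw [hform]
    simp only [th, val_s5, val_mul, val_conj, jv]
  have hGN : ∀ a : Fin 5 → F, (∀ k, ∑ i, a i * tval ω (tG i k) = 0) → a = 0 := by
    intro a ha
    funext k
    have e : ∑ l, (∑ i, a i * tval ω (tG i l)) * tval ω (tN l k) = a k := by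
      simp only [Finset.sum_mul, mul_assoc]
      rw [Finset.sum_comm]
      simp only [← Finset.mul_sum, ← val_mul, ← val_s5, tG_inv, val_ite]
      simp
    rw [← e]
    simp [ha]
  have hnd : ∀ a, (∀ m, hermForm 5 F 2 (Pm *ᵥ a) (Pm *ᵥ Pi.single m 1) = 0) → a = 0 := by
    intro a ha
    refine hGN a fun m => ?_
    have e := ha m
    rw [hform] at e
    rw [← e]
    refine Finset.sum_congr rfl fun i _ => ?_
    congr 1
    rw [Finset.sum_eq_single m]
    · simp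
    · intro l _ hl; simp [hl]
    · simp
  have hPu : IsUnit Pm := by
    rw [← Matrix.mulVec_injective_iff_isUnit]
    intro a b hab
    refine sub_eq_zero.mp (hnd _ fun m => ?_)
    rw [Matrix.mulVec_sub, hab, sub_self, herm_zero_left hσ]
  obtain ⟨P, hP⟩ := hPu
  have hsingle : ∀ i : Fin 5, jv ω (cC (c5 i)) = Pi.single i 1 := fun i => by
    funext l
    simp only [jv, c5, cC_std, val_ite, Pi.single_apply]
  have hvC : ∀ i, v i = Pm *ᵥ jv ω (cC i) := by
    intro i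
    obtain ⟨a, ha⟩ : ∃ a, v i = Pm *ᵥ a := ⟨((P⁻¹ : GL (Fin 5) F) : Matrix (Fin 5) (Fin 5) F) *ᵥ v i, by
      rw [← hP, Matrix.mulVec_mulVec, Units.mul_inv, Matrix.one_mulVec]⟩
    rw [ha]
    congr 1
    refine sub_eq_zero.mp (hnd _ fun m => ?_)
    have e1 : hermForm 5 F 2 (Pm *ᵥ a) (Pm *ᵥ Pi.single m 1) = gval ω (i - c5 m) := by
      rw [← ha, hP_single, hv]
    have e2 : hermForm 5 F 2 (Pm *ᵥ jv ω (cC i)) (Pm *ᵥ Pi.single m 1) = gval ω (i - c5 m) := by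
      rw [← hsingle, hformj, val_tg]
      congr 1
      rw [← cC_gram]
      congr 1
      funext l
      exact cC_std m l
    rw [Matrix.mulVec_sub, sub_eq_add_neg (Pm *ᵥ a), ← neg_one_smul F (Pm *ᵥ jv ω (cC i)), herm_add_left hσ,
      herm_smul_left hσ, e1, e2]
    ring
  -- the planes
  let Ω : Set (Fin 5 → F) := {x | ∃ (i : Fin 11) (a b : F), x = Pm *ᵥ (a • jv ω (cP i) + b • jv ω (cQ i))}
  have hPI : ∀ a, ((P⁻¹ : GL (Fin 5) F) : Matrix (Fin 5) (Fin 5) F) *ᵥ (Pm *ᵥ a) = a := fun a => by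
    rw [Matrix.mulVec_mulVec, ← hP, Units.inv_mul, Matrix.one_mulVec]
  have hPIM : ∀ a, Pm *ᵥ (((P⁻¹ : GL (Fin 5) F) : Matrix (Fin 5) (Fin 5) F) *ᵥ a) = a := fun a => by
    rw [Matrix.mulVec_mulVec, ← hP, Units.mul_inv, Matrix.one_mulVec]
  -- maps of the planes
  let Good : Matrix (Fin 5) (Fin 5) F → Prop := fun X =>
    ∀ i, ∃ j, (∃ a b : F, X *ᵥ jv ω (cP i) = a • jv ω (cP j) + b • jv ω (cQ j)) ∧
      ∃ a b : F, X *ᵥ jv ω (cQ i) = a • jv ω (cP j) + b • jv ω (cQ j)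
  have good_mem : ∀ g : GL (Fin 5) F, ∀ X, Good X → (∀ a, (g : Matrix (Fin 5) (Fin 5) F) *ᵥ (Pm *ᵥ a) = Pm *ᵥ (X *ᵥ a)) →
      g ∈ setStab Ω := by
    intro g X hX hg
    refine mem_setStab ?_
    rintro _ ⟨i, a, b, rfl⟩
    obtain ⟨j, ⟨a1, b1, h1⟩, a2, b2, h2⟩ := hX i
    refine ⟨j, a * a1 + b * a2, a * b1 + b * b2, ?_⟩
    rw [hg, Matrix.mulVec_add, Matrix.mulVec_smul, Matrix.mulVec_smul, h1, h2]
    congr 1
    module
  have good_mul : ∀ X Y, Good X → Good Y → Good (X * Y) := by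
    intro X Y hX hY i
    obtain ⟨j, ⟨a1, b1, h1⟩, a2, b2, h2⟩ := hY i
    obtain ⟨k, ⟨c1, d1, k1⟩, c2, d2, k2⟩ := hX j
    refine ⟨k, ⟨a1 * c1 + b1 * c2, a1 * d1 + b1 * d2, ?_⟩, a2 * c1 + b2 * c2, a2 * d1 + b2 * d2, ?_⟩ <;>
    · rw [← Matrix.mulVec_mulVec]
      first | rw [h1] | rw [h2]
      rw [Matrix.mulVec_add, Matrix.mulVec_smul, Matrix.mulVec_smul, k1, k2]
      module
  have good_smul : ∀ (e : F) X, Good X → Good (e • X) := by
    intro e X hX i
    obtain ⟨j, ⟨a1, b1, h1⟩, a2, b2, h2⟩ := hX i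
    refine ⟨j, ⟨e * a1, e * b1, ?_⟩, e * a2, e * b2, ?_⟩ <;>
    · rw [Matrix.smul_mulVec]
      first | rw [h1] | rw [h2]
      rw [smul_add, smul_smul, smul_smul]
  have good_one : Good 1 := fun i => ⟨i, ⟨1, 0, by simp⟩, 0, 1, by simp⟩
  have good_pow : ∀ X, Good X → ∀ k : ℕ, Good (X ^ k) := by
    intro X hX k
    induction k with
    | zero => rw [pow_zero]; exact good_one
    | succ k ih => rw [pow_succ]; exact good_mul _ _ ih hX
  have good_A : Good (jm ω mA) := fun i => by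
    refine ⟨i + 1, ⟨1, 0, ?_⟩, 0, 1, ?_⟩
    · rw [← j_tv5, mA_P]; simp
    · rw [← j_tv5, mA_Q]; simp
  have good_B : Good (jm ω mB) := fun i => by
    refine ⟨4 * i, ⟨0, 1, ?_⟩, tval ω 1, tval ω 2, ?_⟩
    · rw [← j_tv5, mB_P]; simp
    · rw [← j_tv5, mB_Q, j_tl]
  have good_T : Good (jm ω mT) := fun i => by
    refine ⟨(cT i).1, ⟨tval ω (cT i).2.1, tval ω (cT i).2.2.1, ?_⟩, tval ω (cT i).2.2.2.1,
      tval ω (cT i).2.2.2.2, ?_⟩
    · rw [← j_tv5, mT_P, j_tl]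
    · rw [← j_tv5, mT_Q, j_tl]
  have hApow : ∀ (k : ℕ) (i : Fin 11), jm ω mA ^ k *ᵥ jv ω (cC i) = jv ω (cC ((fun x : Fin 11 => x + 1)^[k] i)) := by
    intro k
    induction k with
    | zero => intro i; simp
    | succ k ih =>
      intro i
      rw [pow_succ, ← Matrix.mulVec_mulVec, ← j_tv5, mA_C, ih]
      rw [Function.iterate_succ_apply]
  have hBpow : ∀ (k : ℕ) (i : Fin 11), jm ω mB ^ k *ᵥ jv ω (cC i) = jv ω (cC ((4 : Fin 11) ^ k * i)) := by
    intro k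
    induction k with
    | zero => intro i; simp
    | succ k ih =>
      intro i
      rw [pow_succ, ← Matrix.mulVec_mulVec, ← j_tv5, mB_C, ih, pow_succ, mul_assoc]
  -- the group fixes the planes
  have hlines : ∀ g ∈ H, ∃ (e : F) (m : ℕ) (j : Fin 11),
      ∀ i, (g : Matrix (Fin 5) (Fin 5) F) *ᵥ v i = e • v (4 ^ m * i + j) := by
    intro g hg
    have hgU : g ∈ GU 5 F 2 := (hH.1.le hg).1
    obtain ⟨e, r, j, he⟩ := hN g ⟨hle hg, hgU⟩
    have hee : ∀ i k, e * σ e * gval ω (r * i + j - (r * k + j)) = gval ω (i - k) := fun i k => by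
      rw [← hv, ← hv i k, ← hgU (v i) (v k)]
      show _ = hermForm 5 F 2 ((g : Matrix (Fin 5) (Fin 5) F) *ᵥ v i) ((g : Matrix (Fin 5) (Fin 5) F) *ᵥ v k)
      rw [he, he, herm_smul_left hσ, herm_smul_right hσ, ← mul_assoc]
    have e00 : e * σ e = 1 := by
      have := hee 0 0
      simpa [gval] using this
    have e10 := hee 1 0
    rw [e00, one_mul, mul_one, mul_zero, zero_add, add_sub_cancel_right, sub_zero, val_tg, val_tg] at e10
    obtain ⟨m, hm⟩ := qr_pow r (val_inj e10)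
    exact ⟨e, m, j, fun i => by rw [hm]; exact he i⟩
  have hHM : H ≤ setStab Ω ⊓ suGL 5 F 2 := by
    intro g hg
    refine ⟨?_, hH.1.le hg⟩
    obtain ⟨e, m, j, he⟩ := hlines g hg
    refine good_mem g (e • (jm ω mA ^ (j : ℕ) * jm ω mB ^ m))
      (good_smul _ _ (good_mul _ _ (good_pow _ good_A _) (good_pow _ good_B _))) fun a => ?_
    have h1 : (g : Matrix (Fin 5) (Fin 5) F) * Pm = Pm * (e • (jm ω mA ^ (j : ℕ) * jm ω mB ^ m)) := by
      refine Matrix.ext_of_mulVec_single fun i => ?_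
      rw [← Matrix.mulVec_mulVec, ← Matrix.mulVec_mulVec, hP_single, he, Matrix.smul_mulVec,
        ← Matrix.mulVec_mulVec, ← hsingle, hBpow, hApow, Matrix.mulVec_smul, ← hvC, iter_add]
    rw [Matrix.mulVec_mulVec, h1, ← Matrix.mulVec_mulVec]
  -- the further element
  have hTform : ∀ a b, hermForm 5 F 2 (Pm *ᵥ (jm ω mT *ᵥ a)) (Pm *ᵥ (jm ω mT *ᵥ b)) =
      hermForm 5 F 2 (Pm *ᵥ a) (Pm *ᵥ b) := by
    have key : ∀ i m : Fin 5, hermForm 5 F 2 (Pm *ᵥ (jm ω mT).col i) (Pm *ᵥ (jm ω mT).col m) = tval ω (tG i m) := by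
      intro i m
      rw [← mT_form i m, ← hformj]
      rfl
    intro a b
    have ea : ∀ c : Fin 5 → F, jm ω mT *ᵥ c = ∑ i, c i • (jm ω mT).col i := fun c => by
      funext l
      simp [Matrix.mulVec, dotProduct, Matrix.col_apply, mul_comm]
    rw [ea, ea, Fin.sum_univ_five, Fin.sum_univ_five]
    simp only [Matrix.mulVec_add, Matrix.mulVec_smul, herm_add_left hσ, herm_add_right hσ, herm_smul_left hσ,
      herm_smul_right hσ, key]
    rw [hform]
    simp only [Fin.sum_univ_five]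
    ring
  have hTu : IsUnit (Pm * jm ω mT * ((P⁻¹ : GL (Fin 5) F) : Matrix (Fin 5) (Fin 5) F)) := by
    rw [← Matrix.mulVec_injective_iff_isUnit]
    intro a b hab
    refine sub_eq_zero.mp (eq_zero_of_herm hσ fun w => ?_)
    have h0 : (Pm * jm ω mT * ((P⁻¹ : GL (Fin 5) F) : Matrix (Fin 5) (Fin 5) F)) *ᵥ (a - b) = 0 := by
      rw [Matrix.mulVec_sub, hab, sub_self]
    rw [← Matrix.mulVec_mulVec, ← Matrix.mulVec_mulVec] at h0
    rw [← hPIM w, ← hPIM (a - b), ← hTform, h0, ← herm_comm hσ, herm_zero_left hσ, map_zero]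
  obtain ⟨t₀, ht₀⟩ := hTu
  have ht₀f : ∀ x y, hermForm 5 F 2 ((t₀ : Matrix (Fin 5) (Fin 5) F) *ᵥ x) ((t₀ : Matrix (Fin 5) (Fin 5) F) *ᵥ y) =
      hermForm 5 F 2 x y := fun x y => by
    rw [ht₀, ← Matrix.mulVec_mulVec, ← Matrix.mulVec_mulVec, ← Matrix.mulVec_mulVec, ← Matrix.mulVec_mulVec,
      hTform, hPIM, hPIM]
  obtain ⟨d, hd⟩ : ∃ d, d = (t₀ : Matrix (Fin 5) (Fin 5) F).det := ⟨_, rfl⟩
  have hdd : d * σ d = 1 := by
    have hM : (t₀ : Matrix (Fin 5) (Fin 5) F)ᵀ * (t₀ : Matrix (Fin 5) (Fin 5) F).map σ = 1 := by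
      ext i k
      have e := ht₀f (Pi.single i 1) (Pi.single k 1)
      rw [Matrix.mulVec_single_one, Matrix.mulVec_single_one, herm_single_left hσ, one_mul] at e
      simp only [hermForm, ← hσ.eq_pow, Matrix.col_apply] at e
      rw [Matrix.mul_apply]
      simp only [Matrix.transpose_apply, Matrix.map_apply]
      rw [e, Matrix.one_apply, Pi.single_apply]
      split_ifs <;> simp
    have e := congrArg Matrix.det hM
    rw [Matrix.det_mul, Matrix.det_transpose, Matrix.det_one, ← RingEquiv.mapMatrix_apply, ← RingEquiv.map_det,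
      ← hd] at e
    exact e
  have hd0 : d ≠ 0 := left_ne_zero_of_mul_eq_one hdd
  obtain ⟨t₁, ht₁⟩ : ∃ t₁ : GL (Fin 5) F, t₁ = scalarMat (Fin 5) d hd0 * t₀ := ⟨_, rfl⟩
  have ht₁v : ∀ x, (t₁ : Matrix (Fin 5) (Fin 5) F) *ᵥ x = d • ((t₀ : Matrix (Fin 5) (Fin 5) F) *ᵥ x) := fun x => by
    rw [ht₁, Units.val_mul, coe_scalarMat, Matrix.smul_mul, one_mul, Matrix.smul_mulVec]
  have ht₁S : t₁ ∈ suGL 5 F 2 := by
    refine ⟨fun x y => ?_, ?_⟩
    · show hermForm 5 F 2 ((t₁ : Matrix (Fin 5) (Fin 5) F) *ᵥ x) ((t₁ : Matrix (Fin 5) (Fin 5) F) *ᵥ y) = _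
      rw [ht₁v, ht₁v, herm_smul_left hσ, herm_smul_right hσ, ht₀f, ← mul_assoc, hdd, one_mul]
    · show Matrix.GeneralLinearGroup.det t₁ = 1
      apply Units.ext
      rw [Matrix.GeneralLinearGroup.val_det_apply, ht₁, Units.val_mul, coe_scalarMat, Matrix.det_mul,
        Matrix.det_smul, Matrix.det_one, Fintype.card_fin, ← hd, mul_one, Units.val_one]
      rw [hσ.eq_pow] at hdd
      linear_combination (d ^ 3 + 1) * hdd
  have ht₁M : t₁ ∈ setStab Ω ⊓ suGL 5 F 2 := ⟨good_mem t₁ (d • jm ω mT) (good_smul _ _ good_T) (fun a => by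
    rw [ht₁v, ht₀, ← Matrix.mulVec_mulVec, hPI, ← Matrix.mulVec_mulVec, Matrix.smul_mulVec, Matrix.mulVec_smul]),
    ht₁S⟩
  rcases hH.2 _ hHM inf_le_right with hM | hM
  · rw [hM] at ht₁M
    obtain ⟨e, m, j, he⟩ := hlines t₁ ht₁M
    have e1 := he (c5 1)
    rw [ht₁v, ← hP_single, ht₀, ← Matrix.mulVec_mulVec, hPI, ← Matrix.mulVec_mulVec, hvC, ← Matrix.mulVec_smul,
      ← Matrix.mulVec_smul] at e1
    have e2 := congrArg (((P⁻¹ : GL (Fin 5) F) : Matrix (Fin 5) (Fin 5) F) *ᵥ ·) e1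
    simp only [hPI] at e2
    obtain ⟨f, hf⟩ := val_surj (d⁻¹ * e)
    refine mT_col (4 ^ m * c5 1 + j) f ?_
    funext l
    apply val_inj
    have e3 := congrFun e2 l
    simp only [Matrix.mulVec_smul, hPI, Pi.smul_apply, Matrix.mulVec_single_one, Matrix.col_apply, smul_eq_mul, jv] at e3
    rw [val_mul, hf]
    show jm ω mT l 1 = _
    rw [mul_assoc, ← e3, inv_mul_cancel_left₀ hd0]
  · -- a transvection moves a plane
    obtain ⟨u, hu⟩ : ∃ u, u = Pm *ᵥ jv ω ![0, 0, 0, 1, 3] := ⟨_, rfl⟩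
    have huu : hermForm 5 F 2 u u = 0 := by
      rw [hu, hformj, u_iso]
      simp [tval]
    have hmem := utv_mem hσ (a := (1 : F)) (by rw [map_one]; linear_combination h2) u huu
    rw [← hM] at hmem
    obtain ⟨j, a, b, hx⟩ := (hmem.1 (Pm *ᵥ jv ω (cP 1))).mp ⟨1, 1, 0, by simp⟩
    rw [utv_mulVec, one_mul, hu, hformj, ← Matrix.mulVec_smul, ← Matrix.mulVec_add] at hx
    have e := congrArg (((P⁻¹ : GL (Fin 5) F) : Matrix (Fin 5) (Fin 5) F) *ᵥ ·) hx
    simp only [hPI] at e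
    obtain ⟨a', rfl⟩ := val_surj a
    obtain ⟨b', rfl⟩ := val_surj b
    refine u_moves j a' b' ?_
    funext l
    apply val_inj
    have e' := congrFun e l
    simp only [tl, val_add, val_mul, Pi.add_apply, Pi.smul_apply, smul_eq_mul, jv] at e' ⊢
    rw [← e']
    simp [tval]

end Cfsg.Agent.Lib.MaxClass.Unitary.Five
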