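import Mathlib
import Cfsg.Prelude.Def_GeometricClasses
import Cfsg.Agent.Lib.MaxClass.UnitaryNotTop

/-!
In dimension four a transvection normalises no group of symplectic type of class two.
-/

set_option autoImplicit false
set_option linter.style.haveILetI false

namespace Cfsg.Agent.Lib.MaxClass.Unitary

open Cfsg Cfsg.Geo Matrix
open Cfsg.Agent.Lib.Aschbacher
open Cfsg.Agent.Lib.MaxClass

set_option maxHeartbeats 1000000

section general

variable {ι : Type} [Fintype ι] [DecidableEq ι] {E : Type*} [Field E]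

/-- A nontrivial element of `R` fixing a plane is an involution which is `-1` on a complement, so it is unique. -/
lemma plane_fixer_unique (hn : Fintype.card ι = 4) {R : Subgroup (GL ι E)}
    (hirr : ActsAbsolutelyIrreducibly (matrixSet R)) (hclass : commutator R ≤ Subgroup.center R)
    {U : Submodule E (ι → E)} (hU : 2 ≤ Module.finrank E U) {y : GL ι E} (hyR : y ∈ R)
    (hy : ∀ u ∈ U, (y : Matrix ι ι E) *ᵥ u = u) (hy1 : y ≠ 1) :
    y * y = 1 ∧ (2 : E) ≠ 0 ∧
      ∀ y' ∈ R, (∀ u ∈ U, (y' : Matrix ι ι E) *ᵥ u = u) → y' ≠ 1 → y' = y := by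
  classical
  haveI : Nonempty ι := Fintype.card_pos_iff.mp (by omega)
  have hcomm : ∀ a ∈ R, ∀ z ∈ R, ∃ c : E, (a : Matrix ι ι E) * (z : Matrix ι ι E) =
      c • ((z : Matrix ι ι E) * (a : Matrix ι ι E)) := by
    intro a ha z hz
    have hmemc : (⟨a, ha⟩ : R) * ⟨z, hz⟩ * ⟨a, ha⟩⁻¹ * ⟨z, hz⟩⁻¹ ∈ Subgroup.center R :=
      hclass (Subgroup.commutator_mem_commutator (Subgroup.mem_top _) (Subgroup.mem_top _))
    obtain ⟨c, hc⟩ := (mem_scalars_iff _).mp (center_mem_scalars hirr hmemc)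
    refine ⟨c, ?_⟩
    have e : a * z = (((⟨a, ha⟩ : R) * ⟨z, hz⟩ * ⟨a, ha⟩⁻¹ * ⟨z, hz⟩⁻¹ : R) : GL ι E) * (z * a) := by
      simp only [Subgroup.coe_mul, Subgroup.coe_inv]
      group
    have e' := congrArg Units.val e
    rwa [Units.val_mul, Units.val_mul, hc, Matrix.smul_mul, Matrix.one_mul, Units.val_mul] at e'
  -- an element not commuting with `y`
  obtain ⟨z, hz, hne⟩ : ∃ z ∈ R, z * y ≠ y * z := by
    by_contra hcon
    push Not at hcon
    obtain ⟨c, hc⟩ := hirr.2 (y : Matrix ι ι E) (by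
      rintro _ ⟨z, hz, rfl⟩
      exact (congrArg Units.val (hcon z hz)).symm)
    obtain ⟨u, hu, hu0⟩ := Submodule.exists_mem_ne_zero_of_ne_bot
      (show U ≠ ⊥ from fun h => by rw [h, finrank_bot] at hU; omega)
    have h1 := hy u hu
    rw [hc, Matrix.smul_mulVec, Matrix.one_mulVec] at h1
    have hc1 : c = 1 := by
      have h2 : (c - 1) • u = 0 := by rw [sub_smul, one_smul, h1, sub_self]
      exact sub_eq_zero.mp ((smul_eq_zero.mp h2).resolve_right hu0)
    exact hy1 (Units.ext (by rw [hc, hc1, one_smul, Units.val_one]))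
  obtain ⟨c, hc⟩ := hcomm y hyR z hz
  have hc1 : c ≠ 1 := by
    rintro rfl
    rw [one_smul] at hc
    exact hne (Units.ext hc.symm)
  have zinj : ∀ w, (z : Matrix ι ι E) *ᵥ w = 0 → w = 0 := fun w hw => by
    have h1 := congrArg (((z⁻¹ : GL ι E) : Matrix ι ι E) *ᵥ ·) hw
    simpa [Matrix.mulVec_mulVec] using h1
  have hyU' : ∀ w ∈ U, (y : Matrix ι ι E) *ᵥ ((z : Matrix ι ι E) *ᵥ w) = c • ((z : Matrix ι ι E) *ᵥ w) := by
    intro w hw
    rw [Matrix.mulVec_mulVec, hc, Matrix.smul_mulVec, ← Matrix.mulVec_mulVec, hy w hw]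
  set U' := U.map (Matrix.toLin' (z : Matrix ι ι E)) with hU'
  have hdisj : U ⊓ U' = ⊥ := by
    rw [Submodule.eq_bot_iff]
    rintro _ ⟨hu, ⟨w, hw, rfl⟩⟩
    have h1 := hy _ hu
    rw [Matrix.toLin'_apply] at h1 ⊢
    rw [hyU' w hw] at h1
    have h2 : (c - 1) • ((z : Matrix ι ι E) *ᵥ w) = 0 := by rw [sub_smul, one_smul, h1, sub_self]
    exact (smul_eq_zero.mp h2).resolve_left (sub_ne_zero.mpr hc1)
  have hdim' : Module.finrank E U' = Module.finrank E U := by
    refine (LinearEquiv.finrank_eq ?_).symm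
    exact Submodule.equivMapOfInjective _ (fun a b hab => by
      simp only [Matrix.toLin'_apply] at hab
      exact sub_eq_zero.mp (zinj _ (by rw [Matrix.mulVec_sub, hab, sub_self]))) U
  have htop : U ⊔ U' = ⊤ := by
    apply Submodule.eq_top_of_finrank_eq
    have h1 := Submodule.finrank_sup_add_finrank_inf_eq U U'
    have h2 := Submodule.finrank_le (U ⊔ U')
    rw [hdisj, finrank_bot, hdim'] at h1
    rw [Module.finrank_fintype_fun_eq_card] at h2 ⊢
    omega
  have hdec : ∀ x : ι → E, ∃ u ∈ U, ∃ w ∈ U, x = u + (z : Matrix ι ι E) *ᵥ w := by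
    intro x
    obtain ⟨u, hu, _, ⟨w, hw, rfl⟩, he⟩ := Submodule.mem_sup.mp (show x ∈ U ⊔ U' by rw [htop]; trivial)
    exact ⟨u, hu, w, hw, by rw [← he, Matrix.toLin'_apply]⟩
  have hdiag : ∀ (a : GL ι E) (d : E), (∀ u ∈ U, (a : Matrix ι ι E) *ᵥ u = u) →
      (∀ w ∈ U, (a : Matrix ι ι E) *ᵥ ((z : Matrix ι ι E) *ᵥ w) = d • ((z : Matrix ι ι E) *ᵥ w)) →
      ∀ u ∈ U, ∀ w ∈ U, (a : Matrix ι ι E) *ᵥ (u + (z : Matrix ι ι E) *ᵥ w) = u + d • ((z : Matrix ι ι E) *ᵥ w) :=
    fun a d h1 h2 u hu w hw => by rw [Matrix.mulVec_add, h1 u hu, h2 w hw]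
  -- the commutator scalar is -1
  obtain ⟨u₀, hu₀, hu₀0⟩ := Submodule.exists_mem_ne_zero_of_ne_bot
    (show U ≠ ⊥ from fun h => by rw [h, finrank_bot] at hU; omega)
  have hc0 : c ≠ 0 := by
    intro h
    have h1 := hyU' u₀ hu₀
    rw [h, zero_smul] at h1
    have h2 := congrArg (((y⁻¹ : GL ι E) : Matrix ι ι E) *ᵥ ·) h1
    exact hu₀0 (zinj _ (by simpa [Matrix.mulVec_mulVec] using h2))
  have hc2 : c * c = 1 := by
    set z2 := (z : Matrix ι ι E) *ᵥ ((z : Matrix ι ι E) *ᵥ u₀) with hz2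
    have hne0 : z2 ≠ 0 := fun h => hu₀0 (zinj _ (zinj _ h))
    have he : (y : Matrix ι ι E) *ᵥ z2 = (c * c) • z2 := by
      rw [hz2, Matrix.mulVec_mulVec, hc, Matrix.smul_mulVec, ← Matrix.mulVec_mulVec, hyU' u₀ hu₀,
        Matrix.mulVec_smul, smul_smul]
    obtain ⟨u, hu, w, hw, hx⟩ := hdec z2
    rw [hx, hdiag y c hy hyU' u hu w hw, smul_add] at he
    -- compare the two components
    have h3 : (1 - c * c) • u = (c * c - c) • ((z : Matrix ι ι E) *ᵥ w) := by
      rw [sub_smul, sub_smul, one_smul]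
      linear_combination (norm := module) he
    have h4 : (1 - c * c) • u = 0 := by
      have : (1 - c * c) • u ∈ U ⊓ U' :=
        ⟨U.smul_mem _ hu, by rw [h3]; exact U'.smul_mem _ ⟨w, hw, rfl⟩⟩
      rwa [hdisj, Submodule.mem_bot] at this
    by_contra hcc
    have hu0 : u = 0 := (smul_eq_zero.mp h4).resolve_left (sub_ne_zero.mpr (Ne.symm hcc))
    rw [h4] at h3
    rcases smul_eq_zero.mp h3.symm with h5 | h5
    · exact hc1 (by
        have h6 : c * (c - 1) = 0 := by linear_combination h5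
        exact sub_eq_zero.mp ((mul_eq_zero.mp h6).resolve_left hc0))
    · exact hne0 (by rw [hx, hu0, h5, add_zero])
  have hcm : c = -1 := (mul_self_eq_one_iff.mp hc2).resolve_left hc1
  refine ⟨?_, ?_, ?_⟩
  · apply Units.ext
    refine Matrix.ext_of_mulVec_single fun i => ?_
    obtain ⟨u, hu, w, hw, hx⟩ := hdec (Pi.single i 1)
    rw [Units.val_mul, Units.val_one, Matrix.one_mulVec, ← Matrix.mulVec_mulVec, hx,
      hdiag y c hy hyU' u hu w hw, Matrix.mulVec_add, hy u hu, Matrix.mulVec_smul, hyU' w hw, smul_smul, hc2,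
      one_smul]
  · intro h2
    exact hc1 (by linear_combination hcm - h2)
  · intro a haR ha ha1
    obtain ⟨d, hd⟩ := hcomm a haR z hz
    have haU' : ∀ w ∈ U, (a : Matrix ι ι E) *ᵥ ((z : Matrix ι ι E) *ᵥ w) = d • ((z : Matrix ι ι E) *ᵥ w) := by
      intro w hw
      rw [Matrix.mulVec_mulVec, hd, Matrix.smul_mulVec, ← Matrix.mulVec_mulVec, ha w hw]
    set z2 := (z : Matrix ι ι E) *ᵥ ((z : Matrix ι ι E) *ᵥ u₀) with hz2
    have he : (y : Matrix ι ι E) *ᵥ z2 = z2 := by
      rw [hz2, Matrix.mulVec_mulVec, hc, Matrix.smul_mulVec, ← Matrix.mulVec_mulVec, hyU' u₀ hu₀,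
        Matrix.mulVec_smul, smul_smul, hc2, one_smul]
    have hz2U : z2 ∈ U := by
      obtain ⟨u, hu, w, hw, hx⟩ := hdec z2
      rw [hx, hdiag y c hy hyU' u hu w hw] at he
      have h5 : (c - 1) • ((z : Matrix ι ι E) *ᵥ w) = 0 := by
        rw [sub_smul, one_smul, sub_eq_zero]
        exact add_left_cancel he
      rw [hx, (smul_eq_zero.mp h5).resolve_left (sub_ne_zero.mpr hc1), add_zero]
      exact hu
    have hd2 : d * d = 1 := by
      have h1 : (a : Matrix ι ι E) *ᵥ z2 = (d * d) • z2 := by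
        rw [hz2, Matrix.mulVec_mulVec, hd, Matrix.smul_mulVec, ← Matrix.mulVec_mulVec, haU' u₀ hu₀,
          Matrix.mulVec_smul, smul_smul]
      rw [ha z2 hz2U] at h1
      have h2 : (1 - d * d) • z2 = 0 := by rw [sub_smul, one_smul, ← h1, sub_self]
      have hne0 : z2 ≠ 0 := fun h => hu₀0 (zinj _ (zinj _ h))
      exact (sub_eq_zero.mp ((smul_eq_zero.mp h2).resolve_right hne0)).symm
    have hd1 : d ≠ 1 := by
      rintro rfl
      apply ha1
      apply Units.ext
      refine Matrix.ext_of_mulVec_single fun i => ?_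
      obtain ⟨u, hu, w, hw, hx⟩ := hdec (Pi.single i 1)
      rw [Units.val_one, Matrix.one_mulVec, hx, hdiag a 1 ha haU' u hu w hw, one_smul]
    have hdm : d = c := by rw [hcm]; exact (mul_self_eq_one_iff.mp hd2).resolve_left hd1
    apply Units.ext
    refine Matrix.ext_of_mulVec_single fun i => ?_
    obtain ⟨u, hu, w, hw, hx⟩ := hdec (Pi.single i 1)
    rw [hx, hdiag a d ha haU' u hu w hw, hdiag y c hy hyU' u hu w hw, hdm]

/-- A transvection normalises no group of symplectic type of class two, in dimension four. -/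
theorem tv_notMem_subgroupNormalizer_four (hn : Fintype.card ι = 4) {R : Subgroup (GL ι E)}
    (hirr : ActsAbsolutelyIrreducibly (matrixSet R)) (hclass : commutator R ≤ Subgroup.center R)
    {v φ : ι → E} (hv : φ ⬝ᵥ v = 0) (hv0 : v ≠ 0) (hφ0 : φ ≠ 0) :
    tv v φ hv ∉ subgroupNormalizer R := by
  intro hmem
  haveI : Nonempty ι := Fintype.card_pos_iff.mp (by omega)
  set t := tv v φ hv with ht
  have hnorm : ∀ r ∈ R, t * r * t⁻¹ ∈ R := fun r hr => (Subgroup.mem_normalizer_iff.mp hmem r).mp hr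
  have hcent : ∀ x : GL ι E, x ∈ R → (x : Matrix ι ι E) * vecMulVec v φ = vecMulVec v φ * (x : Matrix ι ι E) := by
    intro x hx
    obtain ⟨y, hy⟩ : ∃ y : GL ι E, y = t * x * t⁻¹ * x⁻¹ := ⟨_, rfl⟩
    have hyR : y ∈ R := hy ▸ R.mul_mem (hnorm x hx) (R.inv_mem hx)
    let L : (ι → E) →ₗ[E] (E × E) :=
      (dotProductBilin E E φ).prod (dotProductBilin E E (φ ᵥ* ((x⁻¹ : GL ι E) : Matrix ι ι E)))
    set U := LinearMap.ker L with hU
    have htU : ∀ u ∈ U, (t : Matrix ι ι E) *ᵥ u = u ∧ ((t⁻¹ : GL ι E) : Matrix ι ι E) *ᵥ u = u := by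
      intro u hu
      have h12 : φ ⬝ᵥ u = 0 := (Prod.ext_iff.mp (LinearMap.mem_ker.mp hu)).1
      refine ⟨by rw [ht, tv_mulVec, h12, zero_smul, add_zero], ?_⟩
      rw [ht, coe_tv_inv, Matrix.sub_mulVec, Matrix.one_mulVec, vecMulVec_mulVec, h12]
      simp
    have hfix : ∀ u ∈ U, (y : Matrix ι ι E) *ᵥ u = u := by
      intro u hu
      have h2 : φ ⬝ᵥ (((x⁻¹ : GL ι E) : Matrix ι ι E) *ᵥ u) = 0 := by
        rw [Matrix.dotProduct_mulVec]; exact (Prod.ext_iff.mp (LinearMap.mem_ker.mp hu)).2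
      rw [hy, Units.val_mul, Units.val_mul, Units.val_mul, ← Matrix.mulVec_mulVec, ← Matrix.mulVec_mulVec,
        ← Matrix.mulVec_mulVec]
      have e1 : ((t⁻¹ : GL ι E) : Matrix ι ι E) *ᵥ (((x⁻¹ : GL ι E) : Matrix ι ι E) *ᵥ u) =
          ((x⁻¹ : GL ι E) : Matrix ι ι E) *ᵥ u := by
        rw [ht, coe_tv_inv, Matrix.sub_mulVec, Matrix.one_mulVec, vecMulVec_mulVec, h2]
        simp
      rw [e1, Matrix.mulVec_mulVec _ (x : Matrix ι ι E), Units.mul_inv, Matrix.one_mulVec, (htU u hu).1]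
    have hdim : 2 ≤ Module.finrank E U := by
      have h1 := L.finrank_range_add_finrank_ker
      have h2 : Module.finrank E (LinearMap.range L) ≤ 2 :=
        (Submodule.finrank_le _).trans (by rw [Module.finrank_prod, Module.finrank_self])
      rw [Module.finrank_fintype_fun_eq_card, ← hU] at h1
      omega
    have hX : t * x = x * t → (x : Matrix ι ι E) * vecMulVec v φ = vecMulVec v φ * (x : Matrix ι ι E) := by
      intro h
      have h' := congrArg Units.val h
      rw [Units.val_mul, Units.val_mul, ht, coe_tv, add_mul, mul_add, one_mul, mul_one] at h'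
      exact (add_left_cancel h').symm
    by_cases hy1 : y = 1
    · rw [hy] at hy1
      exact hX (mul_inv_eq_iff_eq_mul.mp (mul_inv_eq_one.mp hy1))
    obtain ⟨hyy, h2, huniq⟩ := plane_fixer_unique hn hirr hclass hdim hyR hfix hy1
    have hty : t * y * t⁻¹ = y := by
      refine huniq _ (hnorm y hyR) (fun u hu => ?_) (fun h => hy1 ?_)
      · rw [Units.val_mul, Units.val_mul, ← Matrix.mulVec_mulVec, ← Matrix.mulVec_mulVec, (htU u hu).2,
          hfix u hu, (htU u hu).1]
      · exact conj_eq_one_iff.mp h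
    have e : t * t * x = x * (t * t) := by
      have e1 : t * x * t⁻¹ = y * x := by rw [hy]; group
      have e2 : t * (t * x * t⁻¹) * t⁻¹ = x := by
        rw [e1, show t * (y * x) * t⁻¹ = (t * y * t⁻¹) * (t * x * t⁻¹) by group, hty, e1, ← mul_assoc, hyy, one_mul]
      calc t * t * x = (t * (t * x * t⁻¹) * t⁻¹) * (t * t) := by group
        _ = x * (t * t) := by rw [e2]
    have e' := congrArg Units.val e
    simp only [Units.val_mul, ht, coe_tv] at e'
    have hN : vecMulVec v φ * vecMulVec v φ = (0 : Matrix ι ι E) := by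
      rw [vecMulVec_mul_vecMulVec, hv]
      simp
    have e'' : (2 : E) • ((x : Matrix ι ι E) * vecMulVec v φ) = (2 : E) • (vecMulVec v φ * (x : Matrix ι ι E)) := by
      rw [show (1 + vecMulVec v φ) * (1 + vecMulVec v φ) = 1 + (2 : E) • vecMulVec v φ by
        simp only [add_mul, mul_add, hN, one_mul, mul_one, add_zero, two_smul]; abel] at e'
      rw [add_mul, mul_add, one_mul, mul_one, Matrix.smul_mul, Matrix.mul_smul] at e'
      exact (add_left_cancel e').symm
    have := congrArg ((2 : E)⁻¹ • ·) e''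
    simpa only [smul_smul, inv_mul_cancel₀ h2, one_smul] using this
  obtain ⟨c, hc⟩ := hirr.2 (vecMulVec v φ) (by
    rintro _ ⟨x, hx, rfl⟩
    exact (hcent x hx).symm)
  obtain ⟨i, hi⟩ := Function.ne_iff.mp hv0
  obtain ⟨j, hj⟩ := Function.ne_iff.mp hφ0
  simp only [Pi.zero_apply] at hi hj
  by_cases hij : i = j
  · subst hij
    obtain ⟨k, hk⟩ : ∃ k, k ≠ i := by
      haveI : Nontrivial ι := Fintype.one_lt_card_iff_nontrivial.mp (by omega)
      exact exists_ne i
    have e1 := congrFun (congrFun hc i) i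
    have e2 := congrFun (congrFun hc k) k
    have e3 := congrFun (congrFun hc i) k
    simp [vecMulVec_apply, hk.symm, hi] at e1 e2 e3
    rw [e3, mul_zero] at e2
    rw [← e2] at e1
    exact (mul_ne_zero hi hj) e1
  · have e1 := congrFun (congrFun hc i) j
    simp [vecMulVec_apply, hij, hi] at e1
    exact hj e1

end general

variable {F : Type*} [Field F] [Fintype F] {n q : ℕ} {σ : F ≃+* F}

theorem not_su_le_subgroupNormalizer_of_four_le (hσ : IsQAut q σ) (hn : 4 ≤ n) {R : Subgroup (GL (Fin n) F)}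
    (hirr : ActsAbsolutelyIrreducibly (matrixSet R)) (hclass : commutator R ≤ Subgroup.center R) :
    ¬ suGL n F q ≤ subgroupNormalizer R := by
  intro hle
  obtain ⟨a, v, hv, hmem, hv0, hφ⟩ := utv_data hσ (n := n) (by omega)
  rcases hn.lt_or_eq with h | h
  · exact tv_notMem_subgroupNormalizer (by rw [Fintype.card_fin]; omega) hirr hclass _ hv0 hφ (hle hmem)
  · exact tv_notMem_subgroupNormalizer_four (by rw [Fintype.card_fin]; omega) hirr hclass _ hv0 hφ (hle hmem)

end Cfsg.Agent.Lib.MaxClass.Unitary
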