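import Mathlib
import Cfsg.Prelude.Def_GeometricClasses
import Cfsg.Agent.Lib.MaxClass.UnitaryRefine

/-!
In dimension four over a field with `q² ≤ 9` elements the determinant-one stabiliser of two totally isotropic
planes stabilises a symplectic structure over the fixed field.
-/

set_option autoImplicit false
set_option linter.style.haveILetI false

namespace Cfsg.Agent.Lib.MaxClass.Unitary

open Cfsg Cfsg.Geo Matrix
open Cfsg.Agent.Lib.Aschbacher
open Cfsg.Agent.Lib.MaxClass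

set_option maxHeartbeats 1000000

variable {F : Type*} [Field F] [Fintype F] {q : ℕ} {σ : F ≃+* F}

theorem ts_pair_four (hσ : IsQAut q σ) (hsmall : ∀ c : F, σ c = c → c ≠ 0 → c = 1 ∨ c = -1)
    {D : Fin 2 → Submodule F (Fin 4 → F)} (hD : IsMDecomposition 2 D)
    (hts : ∀ i, IsTotallySingularFor (hermForm 4 F q) (D i)) :
    ∃ (F₀ : Subfield F) (P : GL (Fin 4) F) (ζ : F), Fintype.card F = Nat.card F₀ ^ 2 ∧ ζ ≠ 0 ∧
      ζ + ζ ^ q = 0 ∧ IsFormRationalStructure (hermForm 4 F q) F₀ ζ P ∧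
      (∀ u : Fin 4 → F, (∀ i, u i ∈ F₀) → hermForm 4 F q ((P : Matrix (Fin 4) (Fin 4) F) *ᵥ u)
        ((P : Matrix (Fin 4) (Fin 4) F) *ᵥ u) = 0) ∧
      decompositionStabilizer D ⊓ suGL 4 F q ≤ subfieldSubgroup F₀ P := by
  classical
  obtain ⟨ρ, hρ, hρσ, -⟩ := exists_rho hσ
  obtain ⟨a, ha0, ha⟩ := exists_skew hσ
  have hd : ρ - σ ρ ≠ 0 := sub_ne_zero.mpr (Ne.symm hρσ)
  -- dual bases of the two planes
  let bas := Module.finBasisOfFinrankEq F (D 0) (hD.finrank_eq 0)
  set e₁ : Fin 4 → F := ↑(bas 0) with he₁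
  set e₂ : Fin 4 → F := ↑(bas 1) with he₂
  have heD : ∀ x ∈ D 0, ∃ c d : F, x = c • e₁ + d • e₂ := fun x hx =>
    ⟨bas.repr ⟨x, hx⟩ 0, bas.repr ⟨x, hx⟩ 1, by
      have h := bas.sum_repr ⟨x, hx⟩
      rw [Fin.sum_univ_two] at h
      exact (congrArg Subtype.val h).symm⟩
  let L : (D 1) →ₗ[F] (F × F) :=
    { toFun := fun y => (hermForm 4 F q (y : Fin 4 → F) e₁, hermForm 4 F q (y : Fin 4 → F) e₂)
      map_add' := fun y z => by simp only [Submodule.coe_add, herm_add_left hσ, Prod.mk_add_mk]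
      map_smul' := fun c y => by simp only [Submodule.coe_smul, herm_smul_left hσ, RingHom.id_apply,
        Prod.smul_mk, smul_eq_mul] }
  have hLinj : Function.Injective L := by
    rw [← LinearMap.ker_eq_bot, LinearMap.ker_eq_bot']
    intro y hy
    have h1 : hermForm 4 F q (y : Fin 4 → F) e₁ = 0 := congrArg Prod.fst hy
    have h2 : hermForm 4 F q (y : Fin 4 → F) e₂ = 0 := congrArg Prod.snd hy
    apply Subtype.ext
    refine eq_zero_of_herm hσ fun v => ?_
    rw [← herm_comm hσ]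
    have hv : v ∈ iSup D := by rw [hD.iSup_eq_top]; trivial
    suffices hz : hermForm 4 F q (y : Fin 4 → F) v = 0 by rw [hz, map_zero]
    induction hv using Submodule.iSup_induction' with
    | mem i x hx =>
      rcases Fin.exists_fin_two.mp ⟨i, rfl⟩ with rfl | rfl
      · obtain ⟨c, d, rfl⟩ := heD x hx
        rw [herm_add_right hσ, herm_smul_right hσ, herm_smul_right hσ, h1, h2, mul_zero, mul_zero, add_zero]
      · exact hts 1 _ y.2 _ hx
    | zero => rw [← herm_comm hσ, herm_zero_left hσ, map_zero]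
    | add x z _ _ hx hz => rw [herm_add_right hσ, hx, hz, add_zero]
  have hLsurj : Function.Surjective L :=
    (LinearMap.injective_iff_surjective_of_finrank_eq_finrank
      (by rw [hD.finrank_eq, Module.finrank_prod, Module.finrank_self])).mp hLinj
  obtain ⟨f₁, hf₁⟩ := hLsurj (1, 0)
  obtain ⟨f₂, hf₂⟩ := hLsurj (0, 1)
  have hfD : ∀ x ∈ D 1, ∃ c d : F, x = c • (f₁ : Fin 4 → F) + d • (f₂ : Fin 4 → F) := fun x hx =>
    ⟨hermForm 4 F q x e₁, hermForm 4 F q x e₂, by
      have h : (⟨x, hx⟩ : D 1) = hermForm 4 F q x e₁ • f₁ + hermForm 4 F q x e₂ • f₂ := hLinj (by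
        rw [map_add, map_smul, map_smul, hf₁, hf₂]
        simp [L])
      exact congrArg Subtype.val h⟩
  let B₀ : Fin 4 → (Fin 4 → F) := ![e₁, e₂, (f₁ : Fin 4 → F), (f₂ : Fin 4 → F)]
  let vec : (Fin 4 → F) → (Fin 4 → F) := fun c => c 0 • e₁ + c 1 • e₂ + c 2 • (f₁ : Fin 4 → F) + c 3 • (f₂ : Fin 4 → F)
  have e11 : hermForm 4 F q (f₁ : Fin 4 → F) e₁ = 1 := congrArg Prod.fst hf₁
  have e12 : hermForm 4 F q (f₁ : Fin 4 → F) e₂ = 0 := congrArg Prod.snd hf₁
  have e21 : hermForm 4 F q (f₂ : Fin 4 → F) e₁ = 0 := congrArg Prod.fst hf₂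
  have e22 : hermForm 4 F q (f₂ : Fin 4 → F) e₂ = 1 := congrArg Prod.snd hf₂
  have g11 : hermForm 4 F q e₁ (f₁ : Fin 4 → F) = 1 := by rw [← herm_comm hσ, e11, map_one]
  have g12 : hermForm 4 F q e₂ (f₁ : Fin 4 → F) = 0 := by rw [← herm_comm hσ, e12, map_zero]
  have g21 : hermForm 4 F q e₁ (f₂ : Fin 4 → F) = 0 := by rw [← herm_comm hσ, e21, map_zero]
  have g22 : hermForm 4 F q e₂ (f₂ : Fin 4 → F) = 1 := by rw [← herm_comm hσ, e22, map_one]
  have t11 : hermForm 4 F q e₁ e₁ = 0 := hts 0 _ (bas 0).2 _ (bas 0).2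
  have t12 : hermForm 4 F q e₁ e₂ = 0 := hts 0 _ (bas 0).2 _ (bas 1).2
  have t21 : hermForm 4 F q e₂ e₁ = 0 := hts 0 _ (bas 1).2 _ (bas 0).2
  have t22 : hermForm 4 F q e₂ e₂ = 0 := hts 0 _ (bas 1).2 _ (bas 1).2
  have hform : ∀ c d, hermForm 4 F q (vec c) (vec d) =
      c 0 * σ (d 2) + c 1 * σ (d 3) + c 2 * σ (d 0) + c 3 * σ (d 1) := by
    intro c d
    simp only [vec, herm_add_left hσ, herm_add_right hσ, herm_smul_left hσ, herm_smul_right hσ, e11, e12, e21, e22,
      g11, g12, g21, g22, t11, t12, t21, t22, hts 1 _ f₁.2 _ f₁.2, hts 1 _ f₁.2 _ f₂.2, hts 1 _ f₂.2 _ f₁.2,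
      hts 1 _ f₂.2 _ f₂.2]
    ring
  -- the basis of the real structure
  let Q : Fin 4 → Fin 4 → F := ![![1, 0, ρ, 0], ![0, 1, 0, ρ], ![0, -1, 0, -σ ρ], ![1, 0, σ ρ, 0]]
  let Pm : Matrix (Fin 4) (Fin 4) F := Matrix.of fun i j => vec (fun l => Q l j) i
  let co : F → F → Fin 4 → F := fun x y => ![x, y, -σ y, σ x]
  have hPc : ∀ c : Fin 4 → F, Pm *ᵥ c = vec ![c 0 + ρ * c 2, c 1 + ρ * c 3, -(c 1 + σ ρ * c 3), c 0 + σ ρ * c 2] := by
    intro c
    funext i
    simp [Pm, vec, Q, Matrix.mulVec, dotProduct, Fin.sum_univ_four]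
    ring
  have hvec0 : ∀ c, vec c = 0 → c = 0 := by
    intro c hc
    have key : ∀ d : Fin 4 → F, c 0 * σ (d 2) + c 1 * σ (d 3) + c 2 * σ (d 0) + c 3 * σ (d 1) = 0 := fun d => by
      rw [← hform, hc, herm_zero_left hσ]
    funext i
    fin_cases i
    · simpa using key ![0, 0, 1, 0]
    · simpa using key ![0, 0, 0, 1]
    · simpa using key ![1, 0, 0, 0]
    · simpa using key ![0, 1, 0, 0]
  have hPu : IsUnit Pm := by
    rw [← Matrix.mulVec_injective_iff_isUnit]
    intro c d hcd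
    have h : Pm *ᵥ (c - d) = 0 := by rw [Matrix.mulVec_sub, hcd, sub_self]
    rw [hPc] at h
    have h' := hvec0 _ h
    have k0 := congrFun h' 0
    have k1 := congrFun h' 1
    have k2 := congrFun h' 2
    have k3 := congrFun h' 3
    simp at k0 k1 k2 k3
    have z2 : c 2 - d 2 = 0 := by
      have : (ρ - σ ρ) * (c 2 - d 2) = 0 := by linear_combination k0 - k3
      exact (mul_eq_zero.mp this).resolve_left hd
    have z3 : c 3 - d 3 = 0 := by
      have : (ρ - σ ρ) * (c 3 - d 3) = 0 := by linear_combination k1 + k2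
      exact (mul_eq_zero.mp this).resolve_left hd
    funext i
    fin_cases i <;> simp only [Fin.zero_eta, Fin.mk_one, Fin.reduceFinMk] <;> refine sub_eq_zero.mp ?_
    · linear_combination k0 - ρ * z2
    · linear_combination k1 - ρ * z3
    · exact z2
    · exact z3
  obtain ⟨P, hP⟩ := hPu
  -- vectors of the structure
  have hlat : ∀ c : Fin 4 → F, (∀ i, c i ∈ fixedSub σ) →
      ∃ x y, (P : Matrix (Fin 4) (Fin 4) F) *ᵥ c = vec (co x y) := by
    intro c hc
    have k : ∀ i, σ (c i) = c i := hc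
    refine ⟨c 0 + ρ * c 2, c 1 + ρ * c 3, ?_⟩
    rw [hP, hPc]
    congr 1
    funext i
    fin_cases i <;> simp [co, k]
  have hcoord : ∀ x y, ∀ i, (((P⁻¹ : GL (Fin 4) F) : Matrix (Fin 4) (Fin 4) F) *ᵥ vec (co x y)) i ∈ fixedSub σ := by
    intro x y i
    let β : F → F := fun z => (z - σ z) / (ρ - σ ρ)
    have hβ : ∀ z, σ (β z) = β z := fun z => by
      simp only [β, map_div₀, map_sub, hσ.invol]
      rw [← neg_sub z, ← neg_sub ρ, neg_div_neg_eq]
    have hβ' : ∀ z, β z * (ρ - σ ρ) = z - σ z := fun z => div_mul_cancel₀ _ hd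
    let α : F → F := fun z => z - ρ * β z
    have hα : ∀ z, σ (α z) = α z := fun z => by
      simp only [α, map_sub, map_mul, hβ]
      linear_combination hβ' z
    have h : (P : Matrix (Fin 4) (Fin 4) F) *ᵥ ![α x, α y, β x, β y] = vec (co x y) := by
      rw [hP, hPc]
      congr 1
      funext j
      fin_cases j <;> simp [co, α]
      · linear_combination hβ' y
      · linear_combination -(hβ' x)
    rw [← h, Matrix.mulVec_mulVec, Units.inv_mul, Matrix.one_mulVec]
    fin_cases i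
    · exact hα x
    · exact hα y
    · exact hβ x
    · exact hβ y
  refine ⟨fixedSub σ, P, a, by rw [hσ.card_fixedSub, hσ.card], ha0, by rw [← hσ.eq_pow]; exact ha,
    fun u v hu hv => ?_, fun u hu => ?_, ?_⟩
  · obtain ⟨x, y, e⟩ := hlat u hu
    obtain ⟨x', y', e'⟩ := hlat v hv
    rw [e, e', hform]
    show σ _ = _
    simp [co, hσ.invol]
    linear_combination (σ y * σ x' - y * x' + x * y' - σ x * σ y') * ha
  · obtain ⟨x, y, e⟩ := hlat u hu
    rw [e, hform]
    simp [co, hσ.invol]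
    ring
  rintro g ⟨⟨π, hπ⟩, hgU, hgS⟩
  have hgf : ∀ u v, hermForm 4 F q ((g : Matrix (Fin 4) (Fin 4) F) *ᵥ u) ((g : Matrix (Fin 4) (Fin 4) F) *ᵥ v) =
      hermForm 4 F q u v := hgU
  -- the matrix of g in the dual bases
  let B0m : Matrix (Fin 4) (Fin 4) F := Matrix.of fun i j => B₀ j i
  have hB0 : ∀ c, B0m *ᵥ c = vec c := fun c => by
    funext i
    simp [B0m, B₀, vec, Matrix.mulVec, dotProduct, Fin.sum_univ_four]
    ring
  have hB0u : IsUnit B0m := by
    rw [← Matrix.mulVec_injective_iff_isUnit]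
    intro c d hcd
    refine sub_eq_zero.mp (hvec0 _ ?_)
    rw [← hB0, Matrix.mulVec_sub, hcd, sub_self]
  have hdetg : (g : Matrix (Fin 4) (Fin 4) F).det = 1 := by
    simpa using congrArg (fun z : Fˣ => (z : F)) (show Matrix.GeneralLinearGroup.det g = 1 from hgS)
  have himg : ∀ (j : Fin 2), ∀ x ∈ D j, (g : Matrix (Fin 4) (Fin 4) F) *ᵥ x ∈ D (π j) := fun j x hx => by
    rw [← hπ j]; exact ⟨x, hx, Matrix.toLin'_apply _ _⟩
  have hge : ∀ c, (g : Matrix (Fin 4) (Fin 4) F) *ᵥ vec c = c 0 • ((g : Matrix (Fin 4) (Fin 4) F) *ᵥ e₁) +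
      c 1 • ((g : Matrix (Fin 4) (Fin 4) F) *ᵥ e₂) + c 2 • ((g : Matrix (Fin 4) (Fin 4) F) *ᵥ (f₁ : Fin 4 → F)) +
      c 3 • ((g : Matrix (Fin 4) (Fin 4) F) *ᵥ (f₂ : Fin 4 → F)) := fun c => by
    simp only [vec, Matrix.mulVec_add, Matrix.mulVec_smul]
  -- the scalar making g rational
  obtain ⟨μ, hμ0, hμ⟩ : ∃ μ : F, μ ≠ 0 ∧
      ∀ x y, ∃ x' y', μ • ((g : Matrix (Fin 4) (Fin 4) F) *ᵥ vec (co x y)) = vec (co x' y') := by
    have hdetM : ∀ M : Matrix (Fin 4) (Fin 4) F, (∀ j, (g : Matrix (Fin 4) (Fin 4) F) *ᵥ B₀ j = vec (fun i => M i j)) →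
        M.det = 1 := by
      intro M hM
      have h : (g : Matrix (Fin 4) (Fin 4) F) * B0m = B0m * M := by
        refine Matrix.ext_of_mulVec_single fun j => ?_
        rw [← Matrix.mulVec_mulVec, ← Matrix.mulVec_mulVec, Matrix.mulVec_single_one B0m, Matrix.mulVec_single_one M,
          hB0]
        exact hM j
      have h' := congrArg Matrix.det h
      rw [Matrix.det_mul, Matrix.det_mul, hdetg, one_mul] at h'
      exact (mul_left_cancel₀ ((Matrix.isUnit_iff_isUnit_det _).mp hB0u).ne_zero (h'.symm.trans (mul_one _).symm))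
    rcases Fin.exists_fin_two.mp ⟨π 0, rfl⟩ with hπ0 | hπ0
    · have hπ1 : π 1 = 1 := by
        rcases Fin.exists_fin_two.mp ⟨π 1, rfl⟩ with h | h
        · exact absurd (π.injective (h.trans hπ0.symm)) (by decide)
        · exact h
      obtain ⟨a11, a21, E1⟩ := heD _ (hπ0 ▸ himg 0 e₁ (bas 0).2)
      obtain ⟨a12, a22, E2⟩ := heD _ (hπ0 ▸ himg 0 e₂ (bas 1).2)
      obtain ⟨b11, b21, F1⟩ := hfD _ (hπ1 ▸ himg 1 _ f₁.2)
      obtain ⟨b12, b22, F2⟩ := hfD _ (hπ1 ▸ himg 1 _ f₂.2)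
      have v1 : (g : Matrix (Fin 4) (Fin 4) F) *ᵥ e₁ = vec ![a11, a21, 0, 0] := by simp [E1, vec]
      have v2 : (g : Matrix (Fin 4) (Fin 4) F) *ᵥ e₂ = vec ![a12, a22, 0, 0] := by simp [E2, vec]
      have w1 : (g : Matrix (Fin 4) (Fin 4) F) *ᵥ (f₁ : Fin 4 → F) = vec ![0, 0, b11, b21] := by simp [F1, vec]
      have w2 : (g : Matrix (Fin 4) (Fin 4) F) *ᵥ (f₂ : Fin 4 → F) = vec ![0, 0, b12, b22] := by simp [F2, vec]
      have r11 := hgf e₁ (f₁ : Fin 4 → F)
      have r12 := hgf e₁ (f₂ : Fin 4 → F)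
      have r21 := hgf e₂ (f₁ : Fin 4 → F)
      have r22 := hgf e₂ (f₂ : Fin 4 → F)
      rw [v1, w1, hform, g11] at r11
      rw [v1, w2, hform, g21] at r12
      rw [v2, w1, hform, g12] at r21
      rw [v2, w2, hform, g22] at r22
      simp at r11 r12 r21 r22
      set d := a11 * a22 - a12 * a21 with hdd
      have hMd : d * (b11 * b22 - b12 * b21) = 1 := by
        have h := hdetM !![a11, a12, 0, 0; a21, a22, 0, 0; 0, 0, b11, b12; 0, 0, b21, b22] (fun j => by
          fin_cases j <;> simp [B₀, vec, E1, E2, F1, F2])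
        rw [Matrix.det_succ_row_zero] at h
        simp [Fin.sum_univ_succ, Matrix.det_fin_three, Fin.succAbove] at h
        linear_combination h
      have q11 : d * σ b11 = a22 := by rw [hdd]; linear_combination a22 * r11 - a21 * r21
      have q21 : d * σ b21 = -a12 := by rw [hdd]; linear_combination a11 * r21 - a12 * r11
      have q12 : d * σ b12 = -a21 := by rw [hdd]; linear_combination a22 * r12 - a21 * r22
      have q22 : d * σ b22 = a11 := by rw [hdd]; linear_combination a11 * r22 - a12 * r12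
      have hd0 : d ≠ 0 := left_ne_zero_of_mul_eq_one hMd
      have hdσ : σ d = d := by
        have h1 : d * d * (σ b11 * σ b22 - σ b12 * σ b21) = d := by
          calc d * d * (σ b11 * σ b22 - σ b12 * σ b21) = (d * σ b11) * (d * σ b22) - (d * σ b12) * (d * σ b21) := by ring
            _ = d := by rw [q11, q22, q12, q21, hdd]; ring
        have h2 : σ d * (σ b11 * σ b22 - σ b12 * σ b21) = 1 := by
          rw [← map_mul σ b11, ← map_mul σ b12, ← map_sub, ← map_mul, hMd, map_one]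
        have h3 : d * (σ b11 * σ b22 - σ b12 * σ b21) = 1 := mul_left_cancel₀ hd0 (by linear_combination h1)
        exact mul_right_cancel₀ (right_ne_zero_of_mul_eq_one h3) (h2.trans h3.symm)
      have p11 : d * b11 = σ a22 := by rw [← q11, map_mul, hdσ, hσ.invol]
      have p21 : d * b21 = -σ a12 := by rw [← map_neg, ← q21, map_mul, hdσ, hσ.invol]
      have p12 : d * b12 = -σ a21 := by rw [← map_neg, ← q12, map_mul, hdσ, hσ.invol]
      have p22 : d * b22 = σ a11 := by rw [← q22, map_mul, hdσ, hσ.invol]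
      obtain ⟨μ, hμ0, hμ⟩ : ∃ μ : F, μ ≠ 0 ∧ μ = d * σ μ := by
        rcases hsmall d hdσ hd0 with h | h
        · exact ⟨1, one_ne_zero, by rw [h, map_one, mul_one]⟩
        · exact ⟨a, ha0, by rw [h]; linear_combination ha⟩
      refine ⟨μ, hμ0, fun x y => ⟨μ * (a11 * x + a12 * y), μ * (a21 * x + a22 * y), ?_⟩⟩
      rw [hge, E1, E2, F1, F2]
      simp only [vec, co, Matrix.cons_val_zero, Matrix.cons_val_one, Matrix.cons_val_two, Matrix.cons_val_three,
        Matrix.head_cons, Matrix.tail_cons, map_mul, map_add]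
      funext i
      simp only [Pi.add_apply, Pi.smul_apply, smul_eq_mul]
      apply mul_left_cancel₀ hd0
      linear_combination (-μ * σ y * (f₁ : Fin 4 → F) i) * p11 + (μ * σ x * (f₁ : Fin 4 → F) i) * p12 +
        (-μ * σ y * (f₂ : Fin 4 → F) i) * p21 + (μ * σ x * (f₂ : Fin 4 → F) i) * p22 +
        ((σ x * σ a11 + σ y * σ a12) * (f₂ : Fin 4 → F) i - (σ x * σ a21 + σ y * σ a22) * (f₁ : Fin 4 → F) i) * hμ
    · have hπ1 : π 1 = 0 := by
        rcases Fin.exists_fin_two.mp ⟨π 1, rfl⟩ with h | h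
        · exact h
        · exact absurd (π.injective (h.trans hπ0.symm)) (by decide)
      obtain ⟨b11, b21, E1⟩ := hfD _ (hπ0 ▸ himg 0 e₁ (bas 0).2)
      obtain ⟨b12, b22, E2⟩ := hfD _ (hπ0 ▸ himg 0 e₂ (bas 1).2)
      obtain ⟨a11, a21, F1⟩ := heD _ (hπ1 ▸ himg 1 _ f₁.2)
      obtain ⟨a12, a22, F2⟩ := heD _ (hπ1 ▸ himg 1 _ f₂.2)
      have v1 : (g : Matrix (Fin 4) (Fin 4) F) *ᵥ e₁ = vec ![0, 0, b11, b21] := by simp [E1, vec]
      have v2 : (g : Matrix (Fin 4) (Fin 4) F) *ᵥ e₂ = vec ![0, 0, b12, b22] := by simp [E2, vec]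
      have w1 : (g : Matrix (Fin 4) (Fin 4) F) *ᵥ (f₁ : Fin 4 → F) = vec ![a11, a21, 0, 0] := by simp [F1, vec]
      have w2 : (g : Matrix (Fin 4) (Fin 4) F) *ᵥ (f₂ : Fin 4 → F) = vec ![a12, a22, 0, 0] := by simp [F2, vec]
      have r11 := hgf (f₁ : Fin 4 → F) e₁
      have r12 := hgf (f₁ : Fin 4 → F) e₂
      have r21 := hgf (f₂ : Fin 4 → F) e₁
      have r22 := hgf (f₂ : Fin 4 → F) e₂
      rw [v1, w1, hform, e11] at r11
      rw [v2, w1, hform, e12] at r12
      rw [v1, w2, hform, e21] at r21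
      rw [v2, w2, hform, e22] at r22
      simp at r11 r12 r21 r22
      set d := a11 * a22 - a12 * a21 with hdd
      have hMd : d * (b11 * b22 - b12 * b21) = 1 := by
        have h := hdetM !![0, 0, a11, a12; 0, 0, a21, a22; b11, b12, 0, 0; b21, b22, 0, 0] (fun j => by
          fin_cases j <;> simp [B₀, vec, E1, E2, F1, F2])
        rw [Matrix.det_succ_row_zero] at h
        simp [Fin.sum_univ_succ, Matrix.det_fin_three, Fin.succAbove] at h
        linear_combination h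
      have q11 : d * σ b11 = a22 := by rw [hdd]; linear_combination a22 * r11 - a21 * r21
      have q21 : d * σ b21 = -a12 := by rw [hdd]; linear_combination a11 * r21 - a12 * r11
      have q12 : d * σ b12 = -a21 := by rw [hdd]; linear_combination a22 * r12 - a21 * r22
      have q22 : d * σ b22 = a11 := by rw [hdd]; linear_combination a11 * r22 - a12 * r12
      have hd0 : d ≠ 0 := left_ne_zero_of_mul_eq_one hMd
      have hdσ : σ d = d := by
        have h1 : d * d * (σ b11 * σ b22 - σ b12 * σ b21) = d := by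
          calc d * d * (σ b11 * σ b22 - σ b12 * σ b21) = (d * σ b11) * (d * σ b22) - (d * σ b12) * (d * σ b21) := by ring
            _ = d := by rw [q11, q22, q12, q21, hdd]; ring
        have h2 : σ d * (σ b11 * σ b22 - σ b12 * σ b21) = 1 := by
          rw [← map_mul σ b11, ← map_mul σ b12, ← map_sub, ← map_mul, hMd, map_one]
        have h3 : d * (σ b11 * σ b22 - σ b12 * σ b21) = 1 := mul_left_cancel₀ hd0 (by linear_combination h1)
        exact mul_right_cancel₀ (right_ne_zero_of_mul_eq_one h3) (h2.trans h3.symm)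
      have p11 : d * b11 = σ a22 := by rw [← q11, map_mul, hdσ, hσ.invol]
      have p21 : d * b21 = -σ a12 := by rw [← map_neg, ← q21, map_mul, hdσ, hσ.invol]
      have p12 : d * b12 = -σ a21 := by rw [← map_neg, ← q12, map_mul, hdσ, hσ.invol]
      have p22 : d * b22 = σ a11 := by rw [← q22, map_mul, hdσ, hσ.invol]
      obtain ⟨μ, hμ0, hμ⟩ : ∃ μ : F, μ ≠ 0 ∧ μ = -d * σ μ := by
        rcases hsmall d hdσ hd0 with h | h
        · exact ⟨a, ha0, by rw [h]; linear_combination ha⟩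
        · exact ⟨1, one_ne_zero, by rw [h, map_one, mul_one, neg_neg]⟩
      refine ⟨μ, hμ0, fun x y => ⟨μ * (a12 * σ x - a11 * σ y), μ * (a22 * σ x - a21 * σ y), ?_⟩⟩
      rw [hge, E1, E2, F1, F2]
      simp only [vec, co, Matrix.cons_val_zero, Matrix.cons_val_one, Matrix.cons_val_two, Matrix.cons_val_three,
        Matrix.head_cons, Matrix.tail_cons, map_mul, map_sub, hσ.invol]
      funext i
      simp only [Pi.add_apply, Pi.smul_apply, smul_eq_mul]
      apply mul_left_cancel₀ hd0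
      linear_combination (μ * x * (f₁ : Fin 4 → F) i) * p11 + (μ * y * (f₁ : Fin 4 → F) i) * p12 +
        (μ * x * (f₂ : Fin 4 → F) i) * p21 + (μ * y * (f₂ : Fin 4 → F) i) * p22 +
        ((x * σ a22 - y * σ a21) * (f₁ : Fin 4 → F) i + (y * σ a11 - x * σ a12) * (f₂ : Fin 4 → F) i) * hμ
  -- rationality
  set k : GL (Fin 4) F := P⁻¹ * (scalarMat (Fin 4) μ hμ0 * g) * P with hk
  have hkF : ∀ i j, (k : Matrix (Fin 4) (Fin 4) F) i j ∈ fixedSub σ := by
    intro i j
    obtain ⟨x, y, e⟩ := hlat (Pi.single j 1) (fun l => by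
      rw [Pi.single_apply]; split_ifs
      exacts [(fixedSub σ).one_mem, (fixedSub σ).zero_mem])
    obtain ⟨x', y', e'⟩ := hμ x y
    have h : (k : Matrix (Fin 4) (Fin 4) F) *ᵥ Pi.single j 1 =
        ((P⁻¹ : GL (Fin 4) F) : Matrix (Fin 4) (Fin 4) F) *ᵥ vec (co x' y') := by
      rw [hk, Units.val_mul, Units.val_mul, Units.val_mul, coe_scalarMat, ← Matrix.mulVec_mulVec,
        ← Matrix.mulVec_mulVec, e, Matrix.smul_mul, one_mul, Matrix.smul_mulVec, e']
    have h' := congrFun h i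
    rw [Matrix.mulVec_single_one] at h'
    rw [show (k : Matrix (Fin 4) (Fin 4) F) i j = _ from h']
    exact hcoord x' y' i
  refine ⟨(scalarMat (Fin 4) μ hμ0)⁻¹ * k, Subgroup.mul_mem _ (Subgroup.mem_sup_right
    (Subgroup.inv_mem _ (scalarMat_mem _ _))) (Subgroup.mem_sup_left (mem_range_map_subfield _ hkF)), ?_⟩
  show P * ((scalarMat (Fin 4) μ hμ0)⁻¹ * k) * P⁻¹ = g
  rw [← mul_assoc P, ← scalars_commute (Subgroup.inv_mem _ (scalarMat_mem μ hμ0)) P, hk]
  group

end Cfsg.Agent.Lib.MaxClass.Unitary
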