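import Mathlib
import Cfsg.Prelude.Def_GeometricClasses
import Cfsg.Agent.Lib.MaxClass.UnitaryRefine
import Cfsg.Agent.Lib.MaxClass.LinearN4Q5

/-!
In `SU_4(3)` the stabiliser of four orthogonal lines normalises a group of symplectic type of order 64.
-/

set_option autoImplicit false
set_option linter.style.haveILetI false

namespace Cfsg.Agent.Lib.MaxClass.Unitary.FourPauli

open Cfsg Cfsg.Geo Matrix Equiv
open Cfsg.Agent.Lib.Aschbacher
open Cfsg.Agent.Lib.MaxClass
open Cfsg.Agent.Lib.MaxClass.Unitary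
open Cfsg.Agent.Lib.MaxClass.N4Q5 (xr chi pz px chi_xr chi_comm chi_sq xr_xr xr_zero xr_fix perm_chi
  perm_xr sign_table chiF_sq mul_px_apply px_mul_apply hadamard_pz hadamard_px px_pz pz_mul_pz hadamard_sq)

set_option maxHeartbeats 1000000

lemma chi_zero : ∀ i, chi 0 i = 1 := by decide
lemma chi_zero_right : ∀ a, chi a 0 = 1 := by decide
lemma xr_self : ∀ b, xr b b = 0 := by decide
lemma xr_assoc : ∀ i b b', xr (xr i b') b = xr i (xr b b') := by decide
lemma xr_eq : ∀ i b b', i = xr (xr i b) b' → b = b' := by decide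
lemma chi_ne : ∀ a a', a ≠ a' → ∃ i, (chi a i = 1 ∧ chi a' i = -1) ∨ (chi a i = -1 ∧ chi a' i = 1) := by decide
lemma chi_orth : ∀ k i, chi 0 k * chi 0 i + chi 1 k * chi 1 i + chi 2 k * chi 2 i + chi 3 k * chi 3 i =
    if k = i then 4 else 0 := by decide

variable {F : Type*} [Field F]

lemma chiF_ne (h2 : (2 : F) ≠ 0) {a a' : Fin 4} (h : a ≠ a') : ∃ i, (chi a i : F) ≠ chi a' i := by
  obtain ⟨i, ⟨h1, h1'⟩ | ⟨h1, h1'⟩⟩ := chi_ne a a' h <;> refine ⟨i, fun he => h2 ?_⟩ <;> rw [h1, h1'] at he <;>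
    push_cast at he
  · linear_combination he
  · linear_combination -he

lemma chiF_pow_four (a b : Fin 4) : (chi a b : F) ^ 4 = 1 := by
  linear_combination ((chi a b : F) * chi a b + 1) * chiF_sq (F := F) a b

lemma pz_zero : (pz 0 : Matrix (Fin 4) (Fin 4) F) = 1 := by
  rw [pz]; simp [chi_zero]

lemma px_zero : (px 0 : Matrix (Fin 4) (Fin 4) F) = 1 := by
  ext i j; simp [px, xr_zero, Matrix.one_apply]

lemma px_mul_px (b b' : Fin 4) : (px b : Matrix (Fin 4) (Fin 4) F) * px b' = px (xr b b') := by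
  ext i j
  rw [mul_px_apply]
  simp only [px, Matrix.of_apply, xr_assoc]

variable (P : GL (Fin 4) F)

/-- The Pauli matrices in the frame `P`. -/
def pp (a b : Fin 4) : Matrix (Fin 4) (Fin 4) F :=
  (P : Matrix (Fin 4) (Fin 4) F) * (pz a * px b) * ((P⁻¹ : GL (Fin 4) F) : Matrix (Fin 4) (Fin 4) F)

lemma pp_mul (a b a' b' : Fin 4) : pp P a b * pp P a' b' = (chi a' b : F) • pp P (xr a a') (xr b b') := by
  have h : (pz a * px b) * (pz a' * px b') = (chi a' b : F) • (pz (xr a a') * px (xr b b') : Matrix (Fin 4) (Fin 4) F) := by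
    rw [mul_assoc, ← mul_assoc (px b), px_pz, Matrix.smul_mul, Matrix.mul_smul, mul_assoc, px_mul_px, ← mul_assoc,
      pz_mul_pz]
  simp only [pp]
  rw [show ∀ A B C D E G : Matrix (Fin 4) (Fin 4) F, A * B * C * (D * E * G) = A * (B * (C * D) * E) * G from
    fun _ _ _ _ _ _ => by simp only [mul_assoc]]
  rw [Units.inv_mul, mul_one, h, Matrix.mul_smul, Matrix.smul_mul]

lemma pp_zero : pp P 0 0 = 1 := by
  rw [pp, pz_zero, px_zero, mul_one, mul_one, Units.mul_inv]

lemma pp_inj (h2 : (2 : F) ≠ 0) {a b a' b' : Fin 4} {c c' : F} (hc : c ≠ 0) (h : c • pp P a b = c' • pp P a' b') :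
    a = a' ∧ b = b' ∧ c = c' := by
  have h' : c • (pz a * px b : Matrix (Fin 4) (Fin 4) F) = c' • (pz a' * px b') := by
    have h1 := congrArg (fun M => ((P⁻¹ : GL (Fin 4) F) : Matrix (Fin 4) (Fin 4) F) * M * (P : Matrix (Fin 4) (Fin 4) F)) h
    simpa [pp, Matrix.mul_smul, Matrix.smul_mul, mul_assoc] using h1
  have hl : ∀ i, c * (chi a i : F) = c' * ((chi a' i : F) * if b = b' then 1 else 0) := by
    intro i
    have h1 := congrFun (congrFun h' i) (xr i b)
    simp only [Matrix.smul_apply, smul_eq_mul, pz, Matrix.diagonal_mul, px, Matrix.of_apply, xr_xr, if_true,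
      mul_one] at h1
    rw [h1]
    by_cases hb : b = b'
    · subst hb; simp [xr_xr]
    · rw [if_neg hb, if_neg fun he => hb (xr_eq _ _ _ he)]
  have hb : b = b' := by
    by_contra hb
    have h1 := hl 0
    rw [if_neg hb, chi_zero_right] at h1
    simp [hc] at h1
  have hc' : c = c' := by
    have h1 := hl 0
    rw [if_pos hb, chi_zero_right, chi_zero_right] at h1
    simpa using h1
  refine ⟨?_, hb, hc'⟩
  by_contra ha
  obtain ⟨i, hi⟩ := chiF_ne h2 ha
  have h1 := hl i
  rw [if_pos hb, mul_one, ← hc'] at h1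
  exact hi (mul_left_cancel₀ hc h1)

/-- The group generated by the Pauli matrices and the fourth roots of unity. -/
def pauli64 : Subgroup (GL (Fin 4) F) where
  carrier := {g | ∃ (c : F) (a b : Fin 4), c ^ 4 = 1 ∧ (g : Matrix (Fin 4) (Fin 4) F) = c • pp P a b}
  one_mem' := ⟨1, 0, 0, one_pow 4, by rw [pp_zero, one_smul, Units.val_one]⟩
  mul_mem' := by
    rintro g h ⟨c, a, b, hc, hg⟩ ⟨c', a', b', hc', hh⟩
    refine ⟨c * c' * (chi a' b : F), xr a a', xr b b', by rw [mul_pow, mul_pow, hc, hc', chiF_pow_four]; ring, ?_⟩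
    rw [Units.val_mul, hg, hh, Matrix.smul_mul, Matrix.mul_smul, smul_smul, pp_mul, smul_smul]
  inv_mem' := by
    rintro g ⟨c, a, b, hc, hg⟩
    refine ⟨c ^ 3 * (chi a b : F), a, b, by rw [mul_pow, ← pow_mul, chiF_pow_four]; linear_combination (c ^ 8 + c ^ 4 + 1) * hc, ?_⟩
    refine Units.inv_eq_of_mul_eq_one_right ?_
    rw [hg, Matrix.smul_mul, Matrix.mul_smul, smul_smul, pp_mul, smul_smul, xr_self, xr_self, pp_zero,
      show c * (c ^ 3 * (chi a b : F)) * chi a b = 1 by
        linear_combination ((chi a b : F) * chi a b) * hc + chiF_sq (F := F) a b, one_smul]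

/-- An element of the group. -/
def pu (c : F) (a b : Fin 4) (hc : c ^ 4 = 1) : GL (Fin 4) F where
  val := c • pp P a b
  inv := (c ^ 3 * (chi a b : F)) • pp P a b
  val_inv := by
    rw [Matrix.smul_mul, Matrix.mul_smul, smul_smul, pp_mul, smul_smul, xr_self, xr_self, pp_zero,
      show c * (c ^ 3 * (chi a b : F)) * chi a b = 1 by
        linear_combination ((chi a b : F) * chi a b) * hc + chiF_sq (F := F) a b, one_smul]
  inv_val := by
    rw [Matrix.smul_mul, Matrix.mul_smul, smul_smul, pp_mul, smul_smul, xr_self, xr_self, pp_zero,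
      show c ^ 3 * (chi a b : F) * c * chi a b = 1 by
        linear_combination ((chi a b : F) * chi a b) * hc + chiF_sq (F := F) a b, one_smul]

lemma pu_mem (c : F) (a b : Fin 4) (hc : c ^ 4 = 1) : pu P c a b hc ∈ pauli64 P := ⟨c, a, b, hc, rfl⟩

lemma root_ne_zero {c : F} (hc : c ^ 4 = 1) : c ≠ 0 := fun h => by simp [h] at hc

lemma card_roots (h2 : (2 : F) ≠ 0) {i : F} (hi : i ^ 2 = -1) : Nat.card {c : F // c ^ 4 = 1} = 4 := by
  classical
  rw [Nat.subtype_card ({1, -1, i, -i} : Finset F) (fun c => ?_)]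
  · have hi0 : i ≠ 0 := fun h => by simp [h] at hi
    have e1 : (1 : F) ≠ -1 := fun h => h2 (by linear_combination h)
    have e2 : (1 : F) ≠ i := fun h => h2 (by rw [← h] at hi; linear_combination hi)
    have e3 : (1 : F) ≠ -i := fun h => h2 (by linear_combination hi + (1 - i) * h)
    have e4 : (-1 : F) ≠ i := fun h => h2 (by rw [← h] at hi; linear_combination hi)
    have e5 : (-1 : F) ≠ -i := fun h => e2 (neg_injective h)
    have e6 : i ≠ -i := fun h => hi0 (by
      have : (2 : F) * i = 0 := by linear_combination h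
      exact (mul_eq_zero.mp this).resolve_left h2)
    simp [e1, e2, e3, e4, e5, e6]
  · simp only [Finset.mem_insert, Finset.mem_singleton]
    constructor
    · rintro (rfl | rfl | rfl | rfl)
      · exact one_pow 4
      · ring
      · linear_combination (c ^ 2 - 1) * hi
      · linear_combination (i ^ 2 - 1) * hi
    · intro hc
      have h : (c - 1) * ((c + 1) * ((c - i) * (c + i))) = 0 := by linear_combination hc - (c ^ 2 - 1) * hi
      rcases mul_eq_zero.mp h with h | h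
      · exact Or.inl (sub_eq_zero.mp h)
      rcases mul_eq_zero.mp h with h | h
      · exact Or.inr (Or.inl (eq_neg_of_add_eq_zero_left h))
      rcases mul_eq_zero.mp h with h | h
      · exact Or.inr (Or.inr (Or.inl (sub_eq_zero.mp h)))
      · exact Or.inr (Or.inr (Or.inr (eq_neg_of_add_eq_zero_left h)))

lemma card_pauli64 (h2 : (2 : F) ≠ 0) {i : F} (hi : i ^ 2 = -1) : Nat.card (pauli64 P) = 64 := by
  let φ : {c : F // c ^ 4 = 1} × Fin 4 × Fin 4 → pauli64 P := fun x =>
    ⟨pu P x.1 x.2.1 x.2.2 x.1.2, pu_mem P _ _ _ _⟩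
  have hinj : Function.Injective φ := by
    rintro ⟨⟨c, hc⟩, a, b⟩ ⟨⟨c', hc'⟩, a', b'⟩ h
    have h' : c • pp P a b = c' • pp P a' b' :=
      congrArg (fun g : pauli64 P => ((g : GL (Fin 4) F) : Matrix (Fin 4) (Fin 4) F)) h
    obtain ⟨rfl, rfl, rfl⟩ := pp_inj P h2 (root_ne_zero hc) h'
    rfl
  have hsurj : Function.Surjective φ := by
    rintro ⟨g, c, a, b, hc, hg⟩
    exact ⟨(⟨c, hc⟩, a, b), Subtype.ext (Units.ext hg.symm)⟩
  rw [← Nat.card_congr (Equiv.ofBijective φ ⟨hinj, hsurj⟩), Nat.card_prod, Nat.card_prod, card_roots h2 hi]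
  simp

lemma absIrred (h2 : (2 : F) ≠ 0) : ActsAbsolutelyIrreducibly (matrixSet (pauli64 P)) := by
  classical
  set Pm : Matrix (Fin 4) (Fin 4) F := (P : Matrix (Fin 4) (Fin 4) F)
  set Pi' : Matrix (Fin 4) (Fin 4) F := ((P⁻¹ : GL (Fin 4) F) : Matrix (Fin 4) (Fin 4) F)
  have hmem : ∀ a b, pp P a b ∈ matrixSet (pauli64 P) := fun a b =>
    ⟨pu P 1 a b (one_pow 4), pu_mem P _ _ _ _, one_smul _ _⟩
  have hPP : Pi' * Pm = 1 := Units.inv_mul P
  have hPP' : Pm * Pi' = 1 := Units.mul_inv P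
  have hback : ∀ a b, Pi' * pp P a b * Pm = pz a * px b := fun a b => by
    simp only [pp, mul_assoc]
    rw [hPP, mul_one, ← mul_assoc, hPP, one_mul]
  refine ⟨fun W hW => ?_, fun M hM => ?_⟩
  · let W' : Submodule F (Fin 4 → F) := W.map (Matrix.toLin' Pi')
    have hinv : ∀ a b, ∀ x ∈ W', (pz a * px b) *ᵥ x ∈ W' := by
      rintro a b _ ⟨w, hw, rfl⟩
      refine ⟨pp P a b *ᵥ w, hW _ (hmem a b) ⟨w, hw, Matrix.toLin'_apply _ _⟩, ?_⟩
      rw [Matrix.toLin'_apply, Matrix.toLin'_apply, Matrix.mulVec_mulVec, Matrix.mulVec_mulVec, ← hback,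
        mul_assoc _ Pm Pi', hPP', mul_one]
    have hW' : W' = ⊥ ∨ W' = ⊤ := by
      by_cases h0 : W' = ⊥
      · exact Or.inl h0
      obtain ⟨x, hx, hx0⟩ := Submodule.exists_mem_ne_zero_of_ne_bot h0
      obtain ⟨k, hk⟩ := Function.ne_iff.mp hx0
      have hz : ∀ a, (pz a : Matrix (Fin 4) (Fin 4) F) *ᵥ x ∈ W' := fun a => by
        simpa [px_zero] using hinv a 0 x hx
      have hek : (Pi.single k 1 : Fin 4 → F) ∈ W' := by
        have h4 : (4 : F) ≠ 0 := by
          rw [show (4 : F) = 2 * 2 by norm_num]; exact mul_ne_zero h2 h2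
        have e : ((chi 0 k : F) • (pz 0 *ᵥ x) + (chi 1 k : F) • (pz 1 *ᵥ x) + (chi 2 k : F) • (pz 2 *ᵥ x) +
            (chi 3 k : F) • (pz 3 *ᵥ x)) = (4 * x k) • (Pi.single k 1 : Fin 4 → F) := by
          funext i
          simp only [Pi.add_apply, Pi.smul_apply, smul_eq_mul, pz, Matrix.mulVec_diagonal]
          have h := congrArg (Int.cast (R := F)) (chi_orth k i)
          push_cast at h
          by_cases hki : k = i
          · subst hki; rw [if_pos rfl] at h; simp; linear_combination x k * h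
          · rw [if_neg hki] at h; simp [Ne.symm hki]; linear_combination x i * h
        have hm : (4 * x k) • (Pi.single k 1 : Fin 4 → F) ∈ W' :=
          e ▸ W'.add_mem (W'.add_mem (W'.add_mem (W'.smul_mem _ (hz 0)) (W'.smul_mem _ (hz 1))) (W'.smul_mem _ (hz 2)))
            (W'.smul_mem _ (hz 3))
        exact (W'.smul_mem_iff (mul_ne_zero h4 hk)).mp hm
      right
      rw [eq_top_iff]
      intro v _
      rw [pi_eq_sum_univ' v]
      refine W'.sum_mem fun j _ => W'.smul_mem _ ?_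
      have := hinv 0 (xr j k) _ hek
      rw [pz_zero, one_mul] at this
      convert this using 1
      funext l
      rw [Matrix.mulVec_single_one, Matrix.col_apply, px, Matrix.of_apply, Pi.single_apply]
      have : ∀ l j k : Fin 4, (l = xr k (xr j k)) ↔ l = j := by decide
      simp [this]
    rcases hW' with h | h
    · left
      rw [eq_bot_iff]
      intro w hw
      have h1 : Pi' *ᵥ w ∈ W' := ⟨w, hw, Matrix.toLin'_apply _ _⟩
      rw [h, Submodule.mem_bot] at h1
      have h2 := congrArg (Pm *ᵥ ·) h1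
      simpa [Matrix.mulVec_mulVec, hPP'] using h2
    · right
      rw [eq_top_iff]
      intro v _
      obtain ⟨w, hw, he⟩ : Pi' *ᵥ v ∈ W' := by rw [h]; trivial
      rw [Matrix.toLin'_apply] at he
      have h2 := congrArg (Pm *ᵥ ·) he
      simp only [Matrix.mulVec_mulVec, hPP', Matrix.one_mulVec] at h2
      exact h2 ▸ hw
  · set N := Pi' * M * Pm with hN
    have hNc : ∀ a b, N * (pz a * px b) = (pz a * px b) * N := by
      intro a b
      rw [← hback, hN, show Pi' * M * Pm * (Pi' * pp P a b * Pm) = Pi' * (M * (Pm * Pi') * pp P a b) * Pm by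
        simp only [mul_assoc], show Pi' * pp P a b * Pm * (Pi' * M * Pm) = Pi' * (pp P a b * (Pm * Pi') * M) * Pm by
        simp only [mul_assoc], hPP', mul_one, mul_one, hM _ (hmem a b)]
    have hoff : ∀ i j, i ≠ j → N i j = 0 := by
      intro i j hij
      obtain ⟨a, ha⟩ := chiF_ne h2 hij
      have h := congrFun (congrFun (hNc a 0) i) j
      rw [px_zero, mul_one, pz, Matrix.mul_diagonal, Matrix.diagonal_mul] at h
      have h' : ((chi i a : F) - chi j a) * N i j = 0 := by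
        rw [chi_comm i a, chi_comm j a]
        linear_combination -h
      exact (mul_eq_zero.mp h').resolve_left (sub_ne_zero.mpr ha)
    have hdiag : ∀ j, N j j = N 0 0 := by
      intro j
      have h := congrFun (congrFun (hNc 0 j) j) 0
      rw [pz_zero, one_mul, mul_px_apply, px_mul_apply] at h
      simpa [xr_self, (show ∀ j, xr 0 j = j by decide)] using h
    refine ⟨N 0 0, ?_⟩
    have hN1 : N = N 0 0 • 1 := by
      ext i j
      by_cases hij : i = j
      · subst hij; simp [hdiag i]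
      · simp [Matrix.one_apply_ne hij, hoff i j hij]
    calc M = Pm * N * Pi' := by
          rw [hN]; simp only [mul_assoc]; rw [hPP', mul_one, ← mul_assoc, hPP', one_mul]
      _ = N 0 0 • 1 := by
          conv_lhs => rw [hN1]
          rw [Matrix.mul_smul, mul_one, Matrix.smul_mul, hPP']

lemma mem_center_iff (h2 : (2 : F) ≠ 0) (g : pauli64 P) : g ∈ Subgroup.center (pauli64 P) ↔
    ∃ c : F, c ^ 4 = 1 ∧ ((g : GL (Fin 4) F) : Matrix (Fin 4) (Fin 4) F) = c • 1 := by
  constructor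
  · intro h
    obtain ⟨c, a, b, hc, hg⟩ := g.2
    obtain ⟨d, hd⟩ := (absIrred P h2).2 ((g : GL (Fin 4) F) : Matrix (Fin 4) (Fin 4) F) (by
      rintro _ ⟨x, hx, rfl⟩
      exact congrArg (fun z : pauli64 P => ((z : GL (Fin 4) F) : Matrix (Fin 4) (Fin 4) F))
        (Subgroup.mem_center_iff.mp h ⟨x, hx⟩).symm)
    refine ⟨c, hc, ?_⟩
    obtain ⟨rfl, rfl, -⟩ := pp_inj P h2 (root_ne_zero hc) (show c • pp P a b = d • pp P 0 0 by
      rw [← hg, pp_zero]; exact hd)
    rw [hg, pp_zero]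
  · rintro ⟨c, -, hg⟩
    rw [Subgroup.mem_center_iff]
    intro x
    apply Subtype.ext
    apply Units.ext
    rw [Subgroup.coe_mul, Subgroup.coe_mul, Units.val_mul, Units.val_mul, hg, Matrix.mul_smul, Matrix.smul_mul,
      mul_one, one_mul]

lemma card_center (h2 : (2 : F) ≠ 0) {i : F} (hi : i ^ 2 = -1) :
    Nat.card (Subgroup.center (pauli64 P)) = 4 := by
  refine Eq.trans ?_ (card_roots h2 hi)
  let φ : {c : F // c ^ 4 = 1} → Subgroup.center (pauli64 P) := fun x =>
    ⟨⟨pu P x 0 0 x.2, pu_mem P _ _ _ _⟩, (mem_center_iff P h2 _).mpr ⟨x, x.2, by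
      show (x : F) • pp P 0 0 = _
      rw [pp_zero]⟩⟩
  refine (Nat.card_congr (Equiv.ofBijective φ ⟨?_, ?_⟩)).symm
  · rintro ⟨c, hc⟩ ⟨c', hc'⟩ h
    have h' : c • pp P 0 0 = c' • pp P 0 0 := congrArg
      (fun g : Subgroup.center (pauli64 P) => (((g : pauli64 P) : GL (Fin 4) F) : Matrix (Fin 4) (Fin 4) F)) h
    exact Subtype.ext (pp_inj P h2 (root_ne_zero hc) h').2.2
  · rintro ⟨g, hg⟩
    obtain ⟨c, hc, he⟩ := (mem_center_iff P h2 g).mp hg
    refine ⟨⟨c, hc⟩, Subtype.ext (Subtype.ext (Units.ext ?_))⟩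
    show c • pp P 0 0 = _
    rw [pp_zero, he]

lemma pow_four (g : pauli64 P) : g ^ 4 = 1 := by
  obtain ⟨c, a, b, hc, hg⟩ := g.2
  apply Subtype.ext
  apply Units.ext
  rw [SubgroupClass.coe_pow, Units.val_pow_eq_pow_val, hg, smul_pow, hc, one_smul,
    show pp P a b ^ 4 = (pp P a b * pp P a b) * (pp P a b * pp P a b) by noncomm_ring, pp_mul, xr_self, xr_self,
    pp_zero, Matrix.smul_mul, one_mul, smul_smul, chiF_sq, one_smul]
  rfl

lemma exponent_eq (h2 : (2 : F) ≠ 0) {i : F} (hi : i ^ 2 = -1) : Monoid.exponent (pauli64 P) = 4 := by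
  have h4 : Monoid.exponent (pauli64 P) ∣ 2 ^ 2 := Monoid.exponent_dvd_of_forall_pow_eq_one (pow_four P)
  obtain ⟨k, hk, hk'⟩ := (Nat.dvd_prime_pow Nat.prime_two).mp h4
  have hi4 : i ^ 4 = 1 := by linear_combination (i ^ 2 - 1) * hi
  rcases Nat.lt_or_ge k 2 with hlt | hge
  · exfalso
    have h : Monoid.exponent (pauli64 P) ∣ 2 := by rw [hk']; interval_cases k <;> norm_num
    have h1 := congrArg (fun g : pauli64 P => ((g : GL (Fin 4) F) : Matrix (Fin 4) (Fin 4) F))
      (Monoid.exponent_dvd_iff_forall_pow_eq_one.mp h ⟨pu P i 0 0 hi4, pu_mem P _ _ _ _⟩)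
    simp only [SubgroupClass.coe_pow, Units.val_pow_eq_pow_val] at h1
    change (i • pp P 0 0) ^ 2 = (1 : Matrix (Fin 4) (Fin 4) F) at h1
    rw [pp_zero, smul_pow, one_pow, hi] at h1
    have h3 := congrFun (congrFun h1 0) 0
    simp at h3
    exact h2 (by linear_combination -h3)
  · rw [hk', show k = 2 by omega]
    rfl

lemma mem_normalizer [Finite F] {g : GL (Fin 4) F}
    (h : ∀ a b, ∃ (c : F) (a' b' : Fin 4), c ^ 4 = 1 ∧
      (g : Matrix (Fin 4) (Fin 4) F) * pp P a b = (c • pp P a' b') * (g : Matrix (Fin 4) (Fin 4) F)) :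
    g ∈ subgroupNormalizer (pauli64 P) := by
  have hmap : ∀ r ∈ pauli64 P, g * r * g⁻¹ ∈ pauli64 P := by
    rintro r ⟨c, a, b, hc, hr⟩
    obtain ⟨c', a', b', hc', he⟩ := h a b
    refine ⟨c * c', a', b', by rw [mul_pow, hc, hc', one_mul], ?_⟩
    rw [Units.val_mul, Units.val_mul, hr, Matrix.mul_smul, Matrix.smul_mul, he, mul_assoc, Units.mul_inv, mul_one,
      smul_smul]
  show g ∈ Subgroup.normalizer ((pauli64 P : Subgroup (GL (Fin 4) F)) : Set (GL (Fin 4) F))
  rw [Subgroup.mem_normalizer_iff]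
  intro r
  refine ⟨hmap r, fun hr => ?_⟩
  let φ : pauli64 P → pauli64 P := fun x => ⟨g * x * g⁻¹, hmap x x.2⟩
  have hφ : Function.Injective φ := fun x y hxy => Subtype.ext (by simpa [φ] using hxy)
  obtain ⟨x, hx⟩ := Finite.injective_iff_surjective.mp hφ ⟨_, hr⟩
  have : (x : GL (Fin 4) F) = r := by simpa [φ] using hx
  exact this ▸ x.2

lemma conj_frame {k : GL (Fin 4) F} {a b a' b' : Fin 4} {c : F}
    (h : (k : Matrix (Fin 4) (Fin 4) F) * (pz a * px b) = (c • (pz a' * px b')) * (k : Matrix (Fin 4) (Fin 4) F)) :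
    ((P * k * P⁻¹ : GL (Fin 4) F) : Matrix (Fin 4) (Fin 4) F) * pp P a b =
      (c • pp P a' b') * ((P * k * P⁻¹ : GL (Fin 4) F) : Matrix (Fin 4) (Fin 4) F) := by
  have hPP := Units.inv_mul P
  have hI : ∀ A : Matrix (Fin 4) (Fin 4) F, ((P⁻¹ : GL (Fin 4) F) : Matrix (Fin 4) (Fin 4) F) *
      ((P : Matrix (Fin 4) (Fin 4) F) * A) = A := fun A => by rw [← mul_assoc, hPP, one_mul]
  simp only [pp, Units.val_mul, Matrix.smul_mul, mul_assoc, hI]
  rw [show ∀ A, (k : Matrix (Fin 4) (Fin 4) F) * (pz a * (px b * A)) =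
      ((k : Matrix (Fin 4) (Fin 4) F) * (pz a * px b)) * A from fun A => by simp only [mul_assoc], h]
  simp only [Matrix.smul_mul, Matrix.mul_smul, mul_assoc]

lemma chi_sign (h4 : Fin 4 → F) (h0 : ∀ j, h4 j ^ 4 = 1) (hsq : ∀ j, h4 j ^ 2 = h4 0 ^ 2)
    (hprod : h4 0 * h4 1 * h4 2 * h4 3 = 1) : ∃ a : Fin 4, ∀ j, h4 j = h4 0 * chi a j := by
  classical
  obtain ⟨a, ha0, ha1, ha2, ha3⟩ := sign_table (decide (h4 1 = h4 0)) (decide (h4 2 = h4 0))
  have key : ∀ j, h4 j = h4 0 * (if h4 j = h4 0 then (1 : F) else -1) := fun j => by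
    split_ifs with h
    · rw [mul_one, h]
    · rw [mul_neg_one]
      exact (sq_eq_sq_iff_eq_or_eq_neg.mp (hsq j)).resolve_left h
  have h1 : h4 1 = h4 0 * (chi a 1 : F) := by
    rw [ha1]; refine (key 1).trans ?_
    by_cases h : h4 1 = h4 0 <;> simp [h]
  have h2 : h4 2 = h4 0 * (chi a 2 : F) := by
    rw [ha2]; refine (key 2).trans ?_
    by_cases h : h4 2 = h4 0 <;> simp [h]
  have h12 : (chi a 3 : F) = chi a 1 * chi a 2 := by rw [ha3, ha1, ha2]; push_cast; rfl
  refine ⟨a, fun j => ?_⟩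
  fin_cases j
  · simp [ha0]
  · exact h1
  · exact h2
  · show h4 3 = h4 0 * (chi a 3 : F)
    rw [h1, h2] at hprod
    rw [h12]
    linear_combination -(h4 3) * h0 0 + (h4 0 * (chi a 1 : F) * chi a 2) * hprod
      - (h4 0 ^ 4 * h4 3 * ((chi a 1 : F) * chi a 1)) * chiF_sq (F := F) a 2
      - (h4 0 ^ 4 * h4 3) * chiF_sq (F := F) a 1

/-- Monomial matrices with entries fourth roots of unity normalise the group. -/
lemma monomial_mem [Finite F] {k : GL (Fin 4) F} {π : Perm (Fin 4)} {d : Fin 4 → F}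
    (hk : ∀ i j, (k : Matrix (Fin 4) (Fin 4) F) i j = if i = π j then d j else 0)
    (hd : ∀ j, d j ^ 4 = 1) (hdet : (d 0 * d 1 * d 2 * d 3) ^ 2 = 1) :
    P * k * P⁻¹ ∈ subgroupNormalizer (pauli64 P) := by
  classical
  set K : Matrix (Fin 4) (Fin 4) F := (k : Matrix (Fin 4) (Fin 4) F) with hK
  have hz : ∀ a₁, ∃ (s : F) (a₂ : Fin 4), s ^ 4 = 1 ∧ K * pz a₁ = s • (pz a₂ * K) := by
    intro a₁
    obtain ⟨a₂, h⟩ := perm_chi π a₁
    refine ⟨((chi a₁ 0 * chi a₂ (π 0) : ℤ) : F), a₂, ?_, ?_⟩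
    · push_cast
      rw [mul_pow, chiF_pow_four, chiF_pow_four, one_mul]
    · ext i j
      rw [pz, Matrix.mul_diagonal, Matrix.smul_apply, pz, Matrix.diagonal_mul, hk, smul_eq_mul]
      split_ifs with hi
      · rw [hi, h j]; push_cast; ring
      · simp
  have hx : ∀ b₁, ∃ (s : F) (a₂ b₂ : Fin 4), s ^ 4 = 1 ∧ K * px b₁ = s • (pz a₂ * px b₂ * K) := by
    intro b₁
    obtain ⟨b₂, hb⟩ := perm_xr π b₁
    obtain ⟨r, hr⟩ : ∃ r : Fin 4 → F, r = fun j => d (xr j b₁) * d j ^ 3 := ⟨_, rfl⟩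
    have hr4 : ∀ j, r j ^ 4 = 1 := fun j => by
      simp only [hr, mul_pow, hd, one_mul]
      rw [← pow_mul, show (3 * 4) = 4 * 3 by norm_num, pow_mul, hd, one_pow]
    have hrsq : ∀ j, r j ^ 2 = (d (xr j b₁) * d j) ^ 2 := fun j => by
      simp only [hr]
      linear_combination (d (xr j b₁) ^ 2 * d j ^ 2) * hd j
    have hcases : ∀ j, xr j b₁ = j ∨ d (xr j b₁) * d j = d (xr 0 b₁) * d 0 ∨
        (d (xr j b₁) * d j) * (d (xr 0 b₁) * d 0) = d 0 * d 1 * d 2 * d 3 := by
      intro j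
      fin_cases b₁ <;> fin_cases j <;> first
        | exact Or.inl rfl
        | exact Or.inr (Or.inl rfl)
        | exact Or.inr (Or.inl (mul_comm _ _))
        | exact Or.inr (Or.inr (by simp [xr]; ring))
    have hsq : ∀ j, r j ^ 2 = r 0 ^ 2 := by
      intro j
      rw [hrsq, hrsq]
      rcases hcases j with h | h | h
      · have hb1 : b₁ = 0 := xr_fix j b₁ h
        rw [hb1, xr_zero, xr_zero]
        linear_combination hd j - hd 0
      · rw [h]
      · have h1 : ((d (xr j b₁) * d j) * (d (xr 0 b₁) * d 0)) ^ 2 = 1 := by rw [h]; exact hdet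
        have h2 : (d (xr 0 b₁) * d 0) ^ 4 = 1 := by rw [mul_pow, hd, hd, one_mul]
        linear_combination (d (xr 0 b₁) * d 0) ^ 2 * h1 - (d (xr j b₁) * d j) ^ 2 * h2
    have hprod : r 0 * r 1 * r 2 * r 3 = 1 := by
      have : d (xr 0 b₁) * d (xr 1 b₁) * d (xr 2 b₁) * d (xr 3 b₁) = d 0 * d 1 * d 2 * d 3 := by
        fin_cases b₁ <;> simp [xr] <;> ring
      simp only [hr]
      calc _ = (d (xr 0 b₁) * d (xr 1 b₁) * d (xr 2 b₁) * d (xr 3 b₁)) * (d 0 * d 1 * d 2 * d 3) ^ 3 := by ring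
        _ = (d 0 * d 1 * d 2 * d 3) ^ 2 * (d 0 * d 1 * d 2 * d 3) ^ 2 := by rw [this]; ring
        _ = 1 := by rw [hdet, one_mul]
    obtain ⟨a₁, hca⟩ := chi_sign r hr4 hsq hprod
    obtain ⟨a₂, ha₂⟩ := perm_chi π a₁
    refine ⟨r 0 * ((chi a₁ 0 * chi a₂ (π 0) * chi a₂ b₂ : ℤ) : F), a₂, b₂, ?_, ?_⟩
    · push_cast
      rw [mul_pow, mul_pow, mul_pow, hr4, chiF_pow_four, chiF_pow_four, chiF_pow_four]
      ring
    · ext i j
      rw [mul_px_apply, Matrix.smul_apply, smul_eq_mul, mul_assoc (pz a₂), pz, Matrix.diagonal_mul,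
        px_mul_apply, hk, hk, hb j]
      by_cases hi : i = xr (π j) b₂
      · rw [if_pos hi, if_pos (by rw [hi, xr_xr]), hi, chi_xr]
        have h1 : d (xr j b₁) = r 0 * (chi a₁ j : F) * d j := by
          rw [← hca j]; simp only [hr]
          linear_combination -(d (xr j b₁)) * hd j
        rw [h1, ha₂ j]
        push_cast
        linear_combination (-(r 0 * chi a₁ 0 * chi a₂ (π 0) * chi a₂ (π j) * d j)) * chiF_sq (F := F) a₂ b₂
      · rw [if_neg hi, if_neg (fun h => hi (by rw [← h, xr_xr]))]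
        simp
  refine mem_normalizer P fun a b => ?_
  obtain ⟨s, a₂, hs, hsa⟩ := hz a
  obtain ⟨s', a₃, b₃, hs', hsb⟩ := hx b
  refine ⟨s * s', xr a₂ a₃, b₃, by rw [mul_pow, hs, hs', one_mul], conj_frame P ?_⟩
  rw [← hK, ← mul_assoc, hsa, Matrix.smul_mul, mul_assoc (pz a₂), hsb, Matrix.mul_smul, smul_smul,
    ← pz_mul_pz, Matrix.smul_mul]
  simp only [mul_assoc]

/-- The group is of symplectic type. -/
theorem isSymplecticType [Finite F] (h2 : (2 : F) ≠ 0) {i : F} (hi : i ^ 2 = -1) :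
    IsSymplecticTypeGroup 2 (pauli64 P) := by
  classical
  refine ⟨Nat.prime_two, fun g => ⟨2, pow_four P g⟩, fun A hA hcomm => ?_, by rw [exponent_eq P h2 hi]; rfl⟩
  have hi4 : i ^ 4 = 1 := by linear_combination (i ^ 2 - 1) * hi
  have h40 : (4 : F) ≠ 0 := by rw [show (4 : F) = 2 * 2 by norm_num]; exact mul_ne_zero h2 h2
  -- images of elements of `A` under the normaliser commute with them
  have hstep : ∀ g ∈ A, ∀ h ∈ subgroupNormalizer (pauli64 P), ∃ g' ∈ A,
      ((g' : pauli64 P) : GL (Fin 4) F) = h * g * h⁻¹ ∧ g * g' = g' * g := by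
    intro g hg h hh
    have hN : ∀ r, r ∈ pauli64 P ↔ h * r * h⁻¹ ∈ pauli64 P := Subgroup.mem_normalizer_iff.mp hh
    let φ : pauli64 P ≃* pauli64 P :=
      { toFun := fun r => ⟨h * r * h⁻¹, (hN r).mp r.2⟩
        invFun := fun r => ⟨h⁻¹ * r * h, (hN _).mpr (by
          rw [show h * (h⁻¹ * (r : GL (Fin 4) F) * h) * h⁻¹ = r by group]; exact r.2)⟩
        left_inv := fun r => by ext1; simp [mul_assoc]
        right_inv := fun r => by ext1; simp [mul_assoc]
        map_mul' := fun r r' => by ext1; simp [mul_assoc] }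
    have hφA : φ g ∈ A := Subgroup.characteristic_iff_map_le.mp hA φ ⟨g, hg, rfl⟩
    exact ⟨φ g, hφA, rfl, congrArg Subtype.val (hcomm.is_comm.comm ⟨g, hg⟩ ⟨φ g, hφA⟩)⟩
  -- the translation part is trivial
  have hb : ∀ g ∈ A, ∀ (c : F) (a b : Fin 4), c ^ 4 = 1 →
      ((g : GL (Fin 4) F) : Matrix (Fin 4) (Fin 4) F) = c • pp P a b → b = 0 := by
    intro g hg c a b hc hge
    by_contra hb0
    obtain ⟨d, hd4, hdd, hd0, hdb⟩ : ∃ d : Fin 4 → F, (∀ j, d j ^ 4 = 1) ∧ (d 0 * d 1 * d 2 * d 3) ^ 2 = 1 ∧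
        d 0 = 1 ∧ d b = i := by
      fin_cases b
      · exact absurd rfl hb0
      · exact ⟨![1, i, i, 1], fun j => by fin_cases j <;> simp [hi4], by show (1 * i * i * 1) ^ 2 = 1; linear_combination (i ^ 2 - 1) * hi,
          rfl, rfl⟩
      · exact ⟨![1, i, i, 1], fun j => by fin_cases j <;> simp [hi4], by show (1 * i * i * 1) ^ 2 = 1; linear_combination (i ^ 2 - 1) * hi,
          rfl, rfl⟩
      · exact ⟨![1, i, 1, i], fun j => by fin_cases j <;> simp [hi4], by show (1 * i * 1 * i) ^ 2 = 1; linear_combination (i ^ 2 - 1) * hi,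
          rfl, rfl⟩
    let k : GL (Fin 4) F := Matrix.GeneralLinearGroup.mkOfDetNeZero (Matrix.diagonal d) (by
      rw [Matrix.det_diagonal]; exact Finset.prod_ne_zero_iff.mpr fun j _ => root_ne_zero (hd4 j))
    have hk : (k : Matrix (Fin 4) (Fin 4) F) = Matrix.diagonal d := rfl
    have hmem : P * k * P⁻¹ ∈ subgroupNormalizer (pauli64 P) :=
      monomial_mem P (π := 1) (d := d) (fun r j => by
        rw [hk, Matrix.diagonal_apply, Perm.one_apply]; by_cases h : r = j <;> simp [h]) hd4 hdd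
    obtain ⟨g', -, hg', hcm⟩ := hstep g hg _ hmem
    -- in the frame
    have e : P⁻¹ * (g : GL (Fin 4) F) * P * k * (P⁻¹ * (g : GL (Fin 4) F) * P) * k⁻¹ =
        k * (P⁻¹ * (g : GL (Fin 4) F) * P) * k⁻¹ * (P⁻¹ * (g : GL (Fin 4) F) * P) := by
      have h1 := congrArg Subtype.val hcm
      rw [Subgroup.coe_mul, Subgroup.coe_mul, hg'] at h1
      have h2 := congrArg (fun z => P⁻¹ * z * P) h1
      calc _ = P⁻¹ * ((g : GL (Fin 4) F) * (P * k * P⁻¹ * g * (P * k * P⁻¹)⁻¹)) * P := by group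
        _ = P⁻¹ * (P * k * P⁻¹ * g * (P * k * P⁻¹)⁻¹ * (g : GL (Fin 4) F)) * P := h2
        _ = _ := by group
    have hG : ((P⁻¹ * (g : GL (Fin 4) F) * P : GL (Fin 4) F) : Matrix (Fin 4) (Fin 4) F) = c • (pz a * px b) := by
      rw [Units.val_mul, Units.val_mul, hge, pp, Matrix.mul_smul, Matrix.smul_mul]
      simp only [← mul_assoc, Units.inv_mul, one_mul]
      simp only [mul_assoc, Units.inv_mul, mul_one]
    have hkinv : ((k⁻¹ : GL (Fin 4) F) : Matrix (Fin 4) (Fin 4) F) = Matrix.diagonal fun j => (d j)⁻¹ := by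
      refine Units.inv_eq_of_mul_eq_one_right ?_
      rw [hk, Matrix.diagonal_mul_diagonal]
      rw [← Matrix.diagonal_one]
      congr 1
      funext j
      exact mul_inv_cancel₀ (root_ne_zero (hd4 j))
    have e' := congrFun (congrFun (congrArg (fun z : GL (Fin 4) F => (z : Matrix (Fin 4) (Fin 4) F)) e) 0) 0
    simp only [Units.val_mul, hG, hk, hkinv] at e'
    simp only [Matrix.smul_mul, Matrix.mul_smul, Matrix.smul_apply, smul_eq_mul] at e'
    have hx0 : xr 0 b = b := (show ∀ j, xr 0 j = j by decide) b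
    have hM : ∀ r j, (pz a * px b : Matrix (Fin 4) (Fin 4) F) r j = if j = xr r b then (chi a r : F) else 0 := by
      intro r j
      rw [pz, Matrix.diagonal_mul, px, Matrix.of_apply]
      have : (r = xr j b) = (j = xr r b) := propext ((show ∀ r j b, (r = xr j b) ↔ (j = xr r b) by decide) r j b)
      simp only [this, mul_ite, mul_one, mul_zero]
    have hbb : xr b b = 0 := xr_self b
    have ev : ∀ D E : Fin 4 → F, (pz a * px b * Matrix.diagonal D * (pz a * px b) * Matrix.diagonal E :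
        Matrix (Fin 4) (Fin 4) F) 0 0 = (chi a b : F) * D b * E 0 := by
      intro D E
      rw [Matrix.mul_diagonal, Matrix.mul_apply, Finset.sum_eq_single b]
      · rw [Matrix.mul_diagonal, hM, hM, hx0, hbb, if_pos rfl, if_pos rfl, chi_zero_right]
        push_cast
        ring
      · intro j _ hj
        rw [Matrix.mul_diagonal, hM, hx0, if_neg hj, zero_mul, zero_mul]
      · simp
    have ev' : ∀ D E : Fin 4 → F, (Matrix.diagonal D * (pz a * px b) * Matrix.diagonal E * (pz a * px b) :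
        Matrix (Fin 4) (Fin 4) F) 0 0 = (chi a b : F) * D 0 * E b := by
      intro D E
      rw [Matrix.mul_apply, Finset.sum_eq_single b]
      · rw [Matrix.mul_diagonal, Matrix.diagonal_mul, hM, hM, hx0, hbb, if_pos rfl, if_pos rfl, chi_zero_right]
        push_cast
        ring
      · intro j _ hj
        rw [Matrix.mul_diagonal, Matrix.diagonal_mul, hM, hx0, if_neg hj, mul_zero, zero_mul, zero_mul]
      · simp
    rw [ev, ev', hd0, inv_one, hdb, mul_one, mul_one] at e'
    have hi0 : i ≠ 0 := root_ne_zero hi4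
    have hchi : (chi a b : F) ≠ 0 := root_ne_zero (chiF_pow_four a b)
    have h3 : i = i⁻¹ := mul_left_cancel₀ hchi (mul_left_cancel₀ (root_ne_zero hc) (mul_left_cancel₀ (root_ne_zero hc) e'))
    have h5 : i * i = 1 := by
      nth_rewrite 2 [h3]
      exact mul_inv_cancel₀ hi0
    exact h2 (by linear_combination hi - h5)
  -- so is the diagonal part, applying the character table
  let H4 : GL (Fin 4) F :=
    { val := N4Q5.hadamard
      inv := (4 : F)⁻¹ • N4Q5.hadamard
      val_inv := by rw [Matrix.mul_smul, hadamard_sq, smul_smul, inv_mul_cancel₀ h40, one_smul]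
      inv_val := by rw [Matrix.smul_mul, hadamard_sq, smul_smul, inv_mul_cancel₀ h40, one_smul] }
  have hHc : ∀ a b, ((P * H4 * P⁻¹ : GL (Fin 4) F) : Matrix (Fin 4) (Fin 4) F) * pp P a b =
      ((chi b a : F) • pp P b a) * ((P * H4 * P⁻¹ : GL (Fin 4) F) : Matrix (Fin 4) (Fin 4) F) := fun a b =>
    conj_frame P (by
      show N4Q5.hadamard * _ = _ * N4Q5.hadamard
      rw [← mul_assoc, hadamard_pz, mul_assoc, hadamard_px, ← mul_assoc, px_pz])
  have hHmem : P * H4 * P⁻¹ ∈ subgroupNormalizer (pauli64 P) :=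
    mem_normalizer P fun a b => ⟨_, b, a, chiF_pow_four b a, hHc a b⟩
  let z₀ : pauli64 P := ⟨pu P i 0 0 hi4, pu_mem P _ _ _ _⟩
  have hz₀ : ∀ k : ℕ, (((z₀ ^ k : pauli64 P) : GL (Fin 4) F) : Matrix (Fin 4) (Fin 4) F) = i ^ k • 1 := fun k => by
    rw [SubgroupClass.coe_pow, Units.val_pow_eq_pow_val]
    show (i • pp P 0 0) ^ k = _
    rw [pp_zero, smul_pow, one_pow]
  have hle : A ≤ Subgroup.zpowers z₀ := by
    intro g hg
    obtain ⟨c, a, b, hc, hge⟩ := g.2
    obtain rfl := hb g hg c a b hc hge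
    obtain ⟨g', hg'A, hg', -⟩ := hstep g hg _ hHmem
    have hg'e : (((g' : pauli64 P) : GL (Fin 4) F) : Matrix (Fin 4) (Fin 4) F) = (c * (chi 0 a : F)) • pp P 0 a := by
      rw [hg', Units.val_mul, Units.val_mul, hge, Matrix.mul_smul, Matrix.smul_mul, hHc, mul_assoc, Units.mul_inv,
        mul_one, smul_smul]
    obtain rfl := hb g' hg'A (c * (chi 0 a : F)) 0 a (by rw [mul_pow, hc, chiF_pow_four, one_mul]) hg'e
    have : ∃ k : ℕ, c = i ^ k := by
      have h : (c - 1) * ((c + 1) * ((c - i) * (c + i))) = 0 := by linear_combination hc - (c ^ 2 - 1) * hi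
      rcases mul_eq_zero.mp h with h | h
      · exact ⟨0, by rw [pow_zero]; exact sub_eq_zero.mp h⟩
      rcases mul_eq_zero.mp h with h | h
      · exact ⟨2, by rw [hi]; exact eq_neg_of_add_eq_zero_left h⟩
      rcases mul_eq_zero.mp h with h | h
      · exact ⟨1, by rw [pow_one]; exact sub_eq_zero.mp h⟩
      · exact ⟨3, by rw [pow_succ, hi, neg_one_mul]; exact eq_neg_of_add_eq_zero_left h⟩
    obtain ⟨k, rfl⟩ := this
    rw [pp_zero] at hge
    rw [show g = z₀ ^ k from Subtype.ext (Units.ext (hge.trans (hz₀ k).symm))]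
    exact pow_mem (Subgroup.mem_zpowers z₀) k
  exact isCyclic_of_injective (Subgroup.inclusion hle) (Subgroup.inclusion_injective hle)

variable [Fintype F] {σ : F ≃+* F}

/-- The stabiliser of four orthogonal lines normalises such a group. -/
theorem pauli_four (hσ : IsQAut 3 σ) {D : Fin 4 → Submodule F (Fin 4 → F)}
    (hD : IsNondegenerateMDecomposition (hermForm 4 F 3) 1 D) :
    ∃ R : Subgroup (GL (Fin 4) F), IsSymplecticTypeGroup 2 R ∧ ActsAbsolutelyIrreducibly (matrixSet R) ∧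
      R ≤ similarityGroup (hermForm 4 F 3) ∧ Nat.card R = 64 ∧ Nat.card (Subgroup.center R) = 4 ∧
      decompositionStabilizer D ⊓ suGL 4 F 3 ≤ subgroupNormalizer R := by
  classical
  have h3 : (3 : F) = 0 := by
    have h := FiniteField.cast_card_eq_zero F
    rw [hσ.card] at h
    push_cast at h
    exact (pow_eq_zero_iff two_ne_zero).mp (show (3 : F) ^ 2 = 0 by linear_combination h)
  have h2 : (2 : F) ≠ 0 := fun h => one_ne_zero (α := F) (by linear_combination h3 - h)
  obtain ⟨i, hi⟩ : ∃ i : F, i ^ 2 = -1 := by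
    obtain ⟨l, -, hl⟩ := exists_lambda hσ
    exact ⟨l ^ 2, by rw [hσ.eq_pow] at hl; linear_combination hl⟩
  -- an orthonormal frame
  have hv : ∀ j, ∃ v ∈ D j, hermForm 4 F 3 v v = 1 ∧ D j = Submodule.span F {v} := by
    intro j
    have h0 : D j ≠ ⊥ := fun h => by
      have := hD.decomp.finrank_eq j; rw [h, finrank_bot] at this; omega
    obtain ⟨w, hw, hw0⟩ := Submodule.exists_mem_ne_zero_of_ne_bot h0
    have hspan : D j = Submodule.span F {w} := by
      refine (Submodule.eq_of_le_of_finrank_le ((Submodule.span_singleton_le_iff_mem _ _).mpr hw) ?_).symm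
      rw [hD.decomp.finrank_eq, finrank_span_singleton hw0]
    obtain ⟨x, hx, hxw⟩ := (hD.nondegenerate j w hw hw0).1
    rw [hspan] at hx
    obtain ⟨l, rfl⟩ := Submodule.mem_span_singleton.mp hx
    have hww : hermForm 4 F 3 w w ≠ 0 := fun h => hxw (by rw [herm_smul_left hσ, h, mul_zero])
    obtain ⟨m, hm⟩ := exists_norm hσ (c := (hermForm 4 F 3 w w)⁻¹) (by rw [map_inv₀, herm_comm hσ])
    have hm0 : m ≠ 0 := fun h => by rw [h, zero_mul] at hm; exact inv_ne_zero hww hm.symm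
    refine ⟨m • w, (D j).smul_mem m hw, ?_, ?_⟩
    · rw [herm_smul_left hσ, herm_smul_right hσ, ← mul_assoc, hm, inv_mul_cancel₀ hww]
    · rw [hspan, Submodule.span_singleton_smul_eq (Ne.isUnit hm0)]
  choose v hvD hvv hspan using hv
  let Pm : Matrix (Fin 4) (Fin 4) F := Matrix.of fun r j => v j r
  have horth : ∀ j l, hermForm 4 F 3 (v j) (v l) = if j = l then 1 else 0 := fun j l => by
    split_ifs with h
    · subst h; exact hvv j
    · exact hD.orthogonal j l h _ (hvD j) _ (hvD l)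
  have hPm : ∀ u : Fin 4 → F, Pm *ᵥ u = ∑ j, u j • v j := fun u => by
    funext r
    simp [Pm, Matrix.mulVec, dotProduct, mul_comm]
  have hPf : ∀ u w, hermForm 4 F 3 (Pm *ᵥ u) (Pm *ᵥ w) = hermForm 4 F 3 u w := by
    intro u w
    rw [hPm, hPm, Fin.sum_univ_four, Fin.sum_univ_four]
    simp only [herm_add_left hσ, herm_add_right hσ, herm_smul_left hσ, herm_smul_right hσ, horth]
    rw [show hermForm 4 F 3 u w = ∑ r, u r * σ (w r) by simp only [hermForm, hσ.eq_pow], Fin.sum_univ_four]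
    simp
  have hPu : IsUnit Pm := by
    rw [← Matrix.mulVec_injective_iff_isUnit]
    intro a b hab
    have h : Pm *ᵥ (a - b) = 0 := by rw [Matrix.mulVec_sub, hab, sub_self]
    refine sub_eq_zero.mp (eq_zero_of_herm hσ fun w => ?_)
    rw [← hPf, h, ← herm_comm hσ, herm_zero_left hσ, map_zero]
  obtain ⟨P, hP⟩ := hPu
  refine ⟨pauli64 P, isSymplecticType P h2 hi, absIrred P h2, ?_, card_pauli64 P h2 hi, card_center P h2 hi, ?_⟩
  · rintro g ⟨c, a, b, hc, hg⟩
    refine ⟨1, fun u w => ?_⟩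
    have hcc : c * σ c = 1 := by rw [hσ.eq_pow]; linear_combination hc
    rw [Units.val_one, one_mul, hg, Matrix.smul_mulVec, Matrix.smul_mulVec, herm_smul_left hσ, herm_smul_right hσ,
      ← mul_assoc, hcc, one_mul]
    have hX : ∀ x y : Fin 4 → F, hermForm 4 F 3 ((pz a * px b) *ᵥ x) ((pz a * px b) *ᵥ y) = hermForm 4 F 3 x y := by
      intro x y
      have hval : ∀ (z : Fin 4 → F) r, ((pz a * px b) *ᵥ z) r = (chi a r : F) * z (xr r b) := fun z r => by
        rw [← Matrix.mulVec_mulVec, pz, Matrix.mulVec_diagonal]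
        congr 1
        have : ∀ j, (r = xr j b) = (j = xr r b) := fun j => propext ((show ∀ r j b, (r = xr j b) ↔ (j = xr r b) by decide) r j b)
        simp [px, Matrix.mulVec, dotProduct, ite_mul, this]
      simp only [hermForm]
      refine Fintype.sum_equiv ⟨fun r => xr r b, fun r => xr r b, fun r => xr_xr r b, fun r => xr_xr r b⟩ _ _
        fun r => ?_
      rw [hval, hval]
      show _ = x (xr r b) * y (xr r b) ^ 3
      linear_combination (x (xr r b) * y (xr r b) ^ 3) * chiF_pow_four (F := F) a r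
    have hXX : ∀ z, pp P a b *ᵥ z =
        Pm *ᵥ ((pz a * px b) *ᵥ (((P⁻¹ : GL (Fin 4) F) : Matrix (Fin 4) (Fin 4) F) *ᵥ z)) := fun z => by
      rw [pp, ← Matrix.mulVec_mulVec, ← Matrix.mulVec_mulVec, hP]
    have hback : ∀ z, Pm *ᵥ (((P⁻¹ : GL (Fin 4) F) : Matrix (Fin 4) (Fin 4) F) *ᵥ z) = z := fun z => by
      rw [Matrix.mulVec_mulVec, ← hP, Units.mul_inv, Matrix.one_mulVec]
    rw [hXX, hXX, hPf, hX, ← hPf, hback, hback]
  · rintro g ⟨⟨π, hπ⟩, hgU, hgS⟩
    have hgf : ∀ u w, hermForm 4 F 3 ((g : Matrix (Fin 4) (Fin 4) F) *ᵥ u) ((g : Matrix (Fin 4) (Fin 4) F) *ᵥ w) =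
        hermForm 4 F 3 u w := hgU
    have himg : ∀ j, ∃ e : F, (g : Matrix (Fin 4) (Fin 4) F) *ᵥ v j = e • v (π j) := fun j => by
      have h : (g : Matrix (Fin 4) (Fin 4) F) *ᵥ v j ∈ D (π j) := by
        rw [← hπ]; exact ⟨_, hvD j, Matrix.toLin'_apply _ _⟩
      rw [hspan] at h
      obtain ⟨e, he⟩ := Submodule.mem_span_singleton.mp h
      exact ⟨e, he.symm⟩
    choose e he using himg
    have he4 : ∀ j, e j ^ 4 = 1 := fun j => by
      have h := hgf (v j) (v j)
      rw [he, herm_smul_left hσ, herm_smul_right hσ, hvv, hvv, mul_one, hσ.eq_pow] at h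
      linear_combination h
    let K : Matrix (Fin 4) (Fin 4) F := Matrix.of fun r j => if r = π j then e j else 0
    have hK : (g : Matrix (Fin 4) (Fin 4) F) * Pm = Pm * K := by
      ext r j
      have h := congrFun (he j) r
      simp only [Matrix.mulVec, dotProduct, Pi.smul_apply, smul_eq_mul] at h
      rw [Matrix.mul_apply, Matrix.mul_apply]
      simp [Pm, K]
      linear_combination h
    have hkk : ((P⁻¹ * g * P : GL (Fin 4) F) : Matrix (Fin 4) (Fin 4) F) = K := by
      rw [Units.val_mul, Units.val_mul, mul_assoc, hP, hK, ← hP, ← mul_assoc, Units.inv_mul, one_mul]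
    have hdet : (e 0 * e 1 * e 2 * e 3) ^ 2 = 1 := by
      have h1 : Matrix.GeneralLinearGroup.det g = 1 := hgS
      have h : K.det = 1 := by
        rw [← hkk, ← Matrix.GeneralLinearGroup.val_det_apply, map_mul, map_mul, map_inv, h1, mul_one,
          inv_mul_cancel, Units.val_one]
      have hm : K = (Matrix.diagonal e).submatrix π.symm id := by
        ext r j
        simp only [K, Matrix.of_apply, Matrix.submatrix_apply, Matrix.diagonal_apply, id_eq, Equiv.symm_apply_eq]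
        split_ifs with h
        · rw [h, Equiv.symm_apply_apply]
        · rfl
      rw [hm, Matrix.det_permute, Matrix.det_diagonal, Fin.prod_univ_four] at h
      rcases Int.units_eq_one_or (Perm.sign π.symm) with hs | hs <;> rw [hs] at h <;> simp at h
      · rw [h, one_pow]
      · linear_combination (-(e 0 * e 1 * e 2 * e 3) + 1) * h
    have := monomial_mem P (k := P⁻¹ * g * P) (fun r j => by rw [hkk]; rfl) he4 hdet
    rwa [show P * (P⁻¹ * g * P) * P⁻¹ = g by group] at this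

end Cfsg.Agent.Lib.MaxClass.Unitary.FourPauli
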