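import Mathlib
import Cfsg.Prelude.Def_GeometricClasses
import Cfsg.Agent.Lib.Aschbacher.Unitary
import Cfsg.Agent.Lib.MaxClass.LinearMax
import Cfsg.Agent.Lib.MaxClass.UnitaryRefine
import Cfsg.Agent.Lib.MaxClass.UnitaryFourNormalizer

/-!
Maximal subgroups of the special unitary groups: one of the geometric types, with the parameters that can
occur, or in the residual class.
-/

set_option autoImplicit false
set_option linter.style.haveILetI false

namespace Cfsg.Agent.Lib.MaxClass.Unitary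

open Cfsg Cfsg.Geo Matrix
open Cfsg.Agent.Lib.Aschbacher
open Cfsg.Agent.Lib.MaxClass

set_option maxHeartbeats 1000000

variable {F : Type*} [Field F] [Fintype F] {n q : ℕ}

/-- A proper subfield from an index. -/
lemma subfield_ne_top {F₀ : Subfield F} {r : ℕ} (hr : r.Prime) (hcard : Fintype.card F = Nat.card F₀ ^ r) :
    F₀ ≠ ⊤ := by
  rintro rfl
  have htop : Nat.card (⊤ : Subfield F) = Fintype.card F := by
    rw [← Nat.card_eq_fintype_card]
    exact Nat.card_congr Subfield.topEquiv.toEquiv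
  rw [htop] at hcard
  have hlt := Nat.pow_lt_pow_right (Fintype.one_lt_card (α := F)) hr.one_lt
  rw [pow_one] at hlt
  exact hlt.ne hcard

/-- A group of symplectic type with centre of order divisible by the exponent has class two. -/
lemma class_two_of_data {R : Subgroup (GL (Fin n) F)} {r : ℕ} (hR : IsSymplecticTypeGroup r R)
    (h : (Odd r ∧ Nat.card (Subgroup.center R) = r) ∨ (r = 2 ∧ Nat.card (Subgroup.center R) = 4)) :
    commutator R ≤ Subgroup.center R := by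
  haveI := Fact.mk hR.prime
  refine commutator_le_center_of_exponent hR.pGroup hR.cyclic_of_characteristic ?_
  rw [hR.exponent_eq]
  rcases h with ⟨ho, hz⟩ | ⟨h2, hz⟩
  · rw [hz, (Nat.coprime_two_left.mpr ho).gcd_eq_one, mul_one]
  · rw [hz, h2]
    norm_num

/-- The parameters of the symplectic type class in the unitary case. -/
lemma symplectic_data (hF : Fintype.card F = q ^ 2) {r p e k : ℕ} {R : Subgroup (GL (Fin n) F)} (hn : 1 ≤ n)
    (hR : IsSymplecticTypeGroup r R) (hirr : ActsAbsolutelyIrreducibly (matrixSet R)) (hrp : r ≠ p)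
    (hmin : IsMinimalFieldFor (Nat.card (Subgroup.center R)) p e F)
    (hc : (Odd r ∧ Nat.card (Subgroup.center R) = r ∧ 1 ≤ k ∧ Nat.card R = r ^ (1 + 2 * k)) ∨
       (r = 2 ∧ e = 2 ∧ Nat.card (Subgroup.center R) = 4 ∧ Nat.card R = 2 ^ (2 + 2 * k))) :
    ∃ a : ℕ, p.Prime ∧ CharP F p ∧ q = p ^ a ∧ n = r ^ k ∧
      ((Odd r ∧ Nat.card (Subgroup.center R) = r ∧ 1 ≤ k ∧ Nat.card R = r ^ (1 + 2 * k) ∧ 2 * a ∣ r - 1 ∧
          p ^ (2 * a) % r = 1 ∧ ∀ d : ℕ, 0 < d → d < 2 * a → p ^ d % r ≠ 1) ∨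
        (r = 2 ∧ a = 1 ∧ p % 4 = 3 ∧ Nat.card (Subgroup.center R) = 4 ∧ Nat.card R = 2 ^ (2 + 2 * k))) := by
  obtain ⟨hp, hchar, hcard, hdvd, hlt⟩ := hmin
  haveI := hchar
  haveI : Nonempty (Fin n) := ⟨⟨0, hn⟩⟩
  obtain ⟨b, -, hb⟩ := (Nat.dvd_prime_pow hp).mp
    (show q ∣ p ^ e by rw [← hcard, hF]; exact dvd_pow_self q two_ne_zero)
  have he2 : e = 2 * b := by
    apply Nat.pow_right_injective hp.two_le
    show p ^ e = p ^ (2 * b)
    rw [← hcard, hF, hb, ← pow_mul, mul_comm]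
  have he : 0 < e := by
    rcases Nat.eq_zero_or_pos e with h | h
    · have := Fintype.one_lt_card (α := F)
      rw [hcard, h, pow_zero] at this
      omega
    · exact h
  refine ⟨b, hp, hchar, hb, ?_⟩
  rcases hc with ⟨hodd, hz, hk, hRc⟩ | ⟨rfl, he', hz, hRc⟩
  · have hdeg := symplecticType_degree hrp hR hirr hz
      (by rw [hR.exponent_eq, (Nat.coprime_two_left.mpr hodd).gcd_eq_one, mul_one])
      (by rw [hRc, pow_add, pow_one] : Nat.card R = r * r ^ (2 * k))
    rw [Fintype.card_fin] at hdeg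
    rw [hz] at hdvd hlt
    obtain ⟨f1, f2, f3⟩ := minimal_exponent_facts hR.prime hp hrp he hdvd hlt
    exact ⟨hdeg, Or.inl ⟨hodd, hz, hk, hRc, he2 ▸ f1, he2 ▸ f2, he2 ▸ f3⟩⟩
  · have hdeg := symplecticType_degree hrp hR hirr hz
      (by rw [hR.exponent_eq]; norm_num)
      (by rw [hRc, pow_add]; norm_num : Nat.card R = 4 * 2 ^ (2 * k))
    rw [Fintype.card_fin] at hdeg
    have h4 := hlt 1 one_pos (by omega)
    rw [hz, pow_one] at h4
    obtain ⟨j, hj⟩ := hp.odd_of_ne_two (fun h => hrp h.symm)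
    refine ⟨hdeg, Or.inr ⟨rfl, by omega, ?_, hz, hRc⟩⟩
    have : ¬ 4 ∣ 2 * j := by
      rwa [show p - 1 = 2 * j by omega] at h4
    omega

/-- A group of exponent `r` prime to `q - 1` of similitudes consists of isometries. -/
theorem le_GU_of_exponent (hF : Fintype.card F = q ^ 2) {r : ℕ} {R : Subgroup (GL (Fin n) F)}
    (hR : IsSymplecticTypeGroup r R) (hsim : R ≤ similarityGroup (hermForm n F q))
    (hexp : Monoid.exponent R = r) (hq1 : q % r ≠ 1) : R ≤ GU n F q := by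
  classical
  obtain ⟨σ, hσ⟩ := exists_qAut hF
  intro x hx
  rcases Nat.eq_zero_or_pos n with rfl | hn
  · intro u v
    simp [hermForm]
  obtain ⟨c, hc⟩ := hsim hx
  let e : Fin n → F := Pi.single ⟨0, hn⟩ 1
  have he : hermForm n F q e e = 1 := by simp [e, herm_single_left hσ]
  have hpow : ∀ (k : ℕ) (u v : Fin n → F), hermForm n F q (((x ^ k : GL (Fin n) F) : Matrix (Fin n) (Fin n) F) *ᵥ u)
      (((x ^ k : GL (Fin n) F) : Matrix (Fin n) (Fin n) F) *ᵥ v) = (c : F) ^ k * hermForm n F q u v := by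
    intro k
    induction k with
    | zero => intro u v; simp
    | succ k ih =>
      intro u v
      rw [pow_succ', Units.val_mul, ← Matrix.mulVec_mulVec, ← Matrix.mulVec_mulVec, hc, ih, pow_succ]
      ring
  have hxr : x ^ r = 1 := by
    have h := Monoid.pow_exponent_eq_one (⟨x, hx⟩ : R)
    rw [hexp] at h
    exact congrArg Subtype.val h
  have hcr : (c : F) ^ r = 1 := by
    have h := hpow r e e
    rw [hxr, Units.val_one, Matrix.one_mulVec, he, mul_one] at h
    exact h.symm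
  have hcσ : σ (c : F) = c := by
    have h := hc e e
    rw [he, mul_one] at h
    rw [← h, herm_comm hσ]
  have hcq : (c : F) ^ (q - 1) = 1 := by
    apply mul_right_cancel₀ c.ne_zero
    rw [one_mul, ← pow_succ, Nat.sub_add_cancel hσ.one_lt.le, ← hσ.eq_pow, hcσ]
  have hco : Nat.Coprime r (q - 1) := by
    rw [hR.prime.coprime_iff_not_dvd]
    intro h
    obtain ⟨j, hj⟩ := h
    apply hq1
    have hq2 := hσ.one_lt
    rw [show q = 1 + r * j by omega, Nat.add_mul_mod_self_left, Nat.mod_eq_of_lt hR.prime.one_lt]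
  have hc1 : (c : F) = 1 := by
    have h1 : orderOf (c : F) ∣ r := orderOf_dvd_of_pow_eq_one hcr
    have h2 : orderOf (c : F) ∣ q - 1 := orderOf_dvd_of_pow_eq_one hcq
    exact orderOf_eq_one_iff.mp (Nat.eq_one_of_dvd_coprimes hco h1 h2)
  intro u v
  show hermForm n F q ((x : Matrix (Fin n) (Fin n) F) *ᵥ u) ((x : Matrix (Fin n) (Fin n) F) *ᵥ v) = _
  rw [hc, hc1, one_mul]

/-- Maximal subgroups of `SU_n(q)`, `4 ≤ n < 27`. -/
theorem unitary_max (hF : Fintype.card F = q ^ 2) (hn : 4 ≤ n) (hn' : n < 27) {H : Subgroup (GL (Fin n) F)}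
    (hH : IsMaximalIn (suGL n F q) H) :
    (∃ W : Submodule F (Fin n → F), W ≠ ⊥ ∧ IsTotallySingularFor (hermForm n F q) W ∧
      H = subspaceStabilizer W ⊓ suGL n F q) ∨
    (∃ W : Submodule F (Fin n → F), W ≠ ⊥ ∧ IsNondegenerateOn (hermForm n F q) W ∧
      2 * Module.finrank F W < n ∧ H = subspaceStabilizer W ⊓ suGL n F q) ∨
    (∃ (t k : ℕ) (D : Fin t → Submodule F (Fin n → F)), IsNondegenerateMDecomposition (hermForm n F q) k D ∧
      t * k = n ∧ (k = 2 → 3 ≤ q) ∧ H = decompositionStabilizer D ⊓ suGL n F q) ∨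
    (∃ (k : ℕ) (D : Fin 2 → Submodule F (Fin n → F)), 2 * k = n ∧ IsMDecomposition k D ∧
      (∀ i, IsTotallySingularFor (hermForm n F q) (D i)) ∧ H = decompositionStabilizer D ⊓ suGL n F q) ∨
    (∃ (r : ℕ) (K : Subalgebra F (Matrix (Fin n) (Fin n) F)), r.Prime ∧ Odd r ∧ r ∣ n ∧ IsFieldSubalgebra r K ∧
      IsAdjointClosedFor (hermForm n F q) K ∧ H = subalgebraNormalizer K ⊓ suGL n F q) ∨
    (∃ (n₁ n₂ : ℕ) (e : Fin n ≃ Fin n₁ × Fin n₂) (P : GL (Fin n) F)
      (f₁ : (Fin n₁ → F) → (Fin n₁ → F) → F) (f₂ : (Fin n₂ → F) → (Fin n₂ → F) → F),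
      2 ≤ n₁ ∧ n₁ < n₂ ∧ n₁ * n₂ = n ∧ (n₁ = 2 → 3 ≤ q) ∧ IsUnitaryFormPow q f₁ ∧ IsUnitaryFormPow q f₂ ∧
      IsTensorFormStructure (fun x : F => x ^ q) (hermForm n F q) f₁ f₂ e P ∧
      H = tensorProductSubgroup n₁ n₂ e P ⊓ suGL n F q) ∨
    (∃ (F₀ : Subfield F) (r : ℕ) (P : GL (Fin n) F), r.Prime ∧ Odd r ∧ Fintype.card F = Nat.card F₀ ^ r ∧
      IsFormRationalStructure (hermForm n F q) F₀ 1 P ∧ H = subfieldSubgroup F₀ P ⊓ suGL n F q) ∨
    (∃ (F₀ : Subfield F) (P : GL (Fin n) F), Odd q ∧ Fintype.card F = Nat.card F₀ ^ 2 ∧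
      IsFormRationalStructure (hermForm n F q) F₀ 1 P ∧ H = subfieldSubgroup F₀ P ⊓ suGL n F q) ∨
    (∃ (F₀ : Subfield F) (P : GL (Fin n) F) (ζ : F), Even n ∧ Fintype.card F = Nat.card F₀ ^ 2 ∧ ζ ≠ 0 ∧
      ζ + ζ ^ q = 0 ∧ IsFormRationalStructure (hermForm n F q) F₀ ζ P ∧
      (∀ u : Fin n → F, (∀ i, u i ∈ F₀) → hermForm n F q ((P : Matrix (Fin n) (Fin n) F) *ᵥ u)
        ((P : Matrix (Fin n) (Fin n) F) *ᵥ u) = 0) ∧
      H = subfieldSubgroup F₀ P ⊓ suGL n F q) ∨
    (∃ (r p a k : ℕ) (R : Subgroup (GL (Fin n) F)), p.Prime ∧ CharP F p ∧ q = p ^ a ∧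
      IsSymplecticTypeGroup r R ∧ ActsAbsolutelyIrreducibly (matrixSet R) ∧
      R ≤ similarityGroup (hermForm n F q) ∧ n = r ^ k ∧
      ((Odd r ∧ Nat.card (Subgroup.center R) = r ∧ 1 ≤ k ∧ Nat.card R = r ^ (1 + 2 * k) ∧ 2 * a ∣ r - 1 ∧
          p ^ (2 * a) % r = 1 ∧ ∀ d : ℕ, 0 < d → d < 2 * a → p ^ d % r ≠ 1) ∨
        (r = 2 ∧ a = 1 ∧ p % 4 = 3 ∧ Nat.card (Subgroup.center R) = 4 ∧ Nat.card R = 2 ^ (2 + 2 * k))) ∧
      H = subgroupNormalizer R ⊓ suGL n F q) ∨
    (∃ (k : ℕ) (e : Fin n ≃ (Fin 2 → Fin k)) (P : GL (Fin n) F) (f₁ : (Fin k → F) → (Fin k → F) → F),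
      3 ≤ k ∧ k ^ 2 = n ∧ ¬ (q = 2 ∧ k = 3) ∧ IsUnitaryFormPow q f₁ ∧
      IsTensorPowerFormStructure (fun x : F => x ^ q) (hermForm n F q) f₁ e P ∧
      H = tensorWreathSubgroup k 2 e P ⊓ suGL n F q) ∨
    InUnitaryResidualClass H := by
  classical
  obtain ⟨σ, hσ⟩ := exists_qAut hF
  have hq2 := hσ.one_lt
  have hHU : H ≤ GU n F q := hH.1.le.trans inf_le_left
  rcases unitary_class_or_residual hF (by omega) H hHU with ⟨M, hM, hle⟩ | hres
  swap
  · right; right; right; right; right; right; right; right; right; right; right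
    exact hres
  have key : ∀ X : Subgroup (GL (Fin n) F), H ≤ X → ¬ suGL n F q ≤ X → H = X ⊓ suGL n F q :=
    fun X h1 h2 => eq_inf_of_maximal_le hH h1 h2
  rcases hM with hM | hM | hM | hM
  rcases hM with hM | hM | hM | hM | hM | hM | hM | hM
  · obtain ⟨W, h0, hts, rfl⟩ := hM
    exact Or.inl ⟨W, h0, hts, key _ (hle.trans inf_le_left)
      (not_su_le_subspaceStabilizer hσ (by omega) h0 (ts_ne_top hσ (by omega) hts))⟩
  · obtain ⟨W, h0, hnd, hlt, rfl⟩ := hM
    have h1 : W ≠ ⊤ := fun h => by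
      rw [h, finrank_top, Module.finrank_fintype_fun_eq_card, Fintype.card_fin] at hlt
      omega
    exact Or.inr (Or.inl ⟨W, h0, hnd, hlt, key _ (hle.trans inf_le_left)
      (not_su_le_subspaceStabilizer hσ (by omega) h0 h1)⟩)
  · obtain ⟨t, k, D, hD, rfl⟩ := hM
    have htk : t * k = n := by simpa using isMDecomposition_card hD.decomp
    by_cases h22 : k = 2 ∧ q = 2
    · obtain ⟨rfl, rfl⟩ := h22
      obtain ⟨D', hD', hle'⟩ := planes_refine hσ hD
      exact Or.inr (Or.inr (Or.inl ⟨n, 1, D', hD', mul_one n, fun h => absurd h (by omega),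
        key _ (hle.trans hle') (not_su_le_lines hσ (by omega) rfl hD')⟩))
    refine Or.inr (Or.inr (Or.inl ⟨t, k, D, hD, htk, fun h => by omega, key _ (hle.trans inf_le_left) ?_⟩))
    rcases Nat.lt_or_ge k 2 with hk | hk
    · obtain rfl : k = 1 := by have := hD.decomp.pos; omega
      exact not_su_le_lines hσ (by omega) (by omega) hD
    · exact not_su_le_decompositionStabilizer hσ (by omega) hD.decomp hk
  · obtain ⟨k, D, h2k, hD, hts, rfl⟩ := hM
    exact Or.inr (Or.inr (Or.inr (Or.inl ⟨k, D, h2k, hD, hts, key _ (hle.trans inf_le_left)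
      (not_su_le_decompositionStabilizer hσ (by omega) hD (by omega))⟩)))
  · obtain ⟨F₀, r, P, hr, hodd, hcard, hrat, rfl⟩ := hM
    right; right; right; right; right; right; left
    exact ⟨F₀, r, P, hr, hodd, hcard, hrat, key _ (hle.trans inf_le_left)
      (not_su_le_subfieldSubgroup hσ (by omega) (subfield_ne_top hr hcard) P)⟩
  · obtain ⟨F₀, P, hodd, hcard, hrat, rfl⟩ := hM
    right; right; right; right; right; right; right; left
    exact ⟨F₀, P, hodd, hcard, hrat, key _ (hle.trans inf_le_left)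
      (not_su_le_subfieldSubgroup hσ (by omega) (subfield_ne_top Nat.prime_two hcard) P)⟩
  · obtain ⟨F₀, P, ζ, hev, hcard, hζ0, hζ, hrat, halt, rfl⟩ := hM
    right; right; right; right; right; right; right; right; left
    exact ⟨F₀, P, ζ, hev, hcard, hζ0, hζ, hrat, halt, key _ (hle.trans inf_le_left)
      (not_su_le_subfieldSubgroup hσ (by omega) (subfield_ne_top Nat.prime_two hcard) P)⟩
  · obtain ⟨r, R, p, e, k, hR, hirr, hsim, hrp, hmin, hc, rfl⟩ := hM
    obtain ⟨a, hp, hchar, hq, hdeg, hdata⟩ := symplectic_data hF (by omega) hR hirr hrp hmin hc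
    right; right; right; right; right; right; right; right; right; left
    refine ⟨r, p, a, k, R, hp, hchar, hq, hR, hirr, hsim, hdeg, hdata, key _ (hle.trans inf_le_left) ?_⟩
    refine not_su_le_subgroupNormalizer_of_four_le hσ hn hirr (class_two_of_data hR ?_)
    rcases hdata with ⟨h1, h2, -⟩ | ⟨h1, -, -, h2, -⟩
    exacts [Or.inl ⟨h1, h2⟩, Or.inr ⟨h1, h2⟩]
  · obtain ⟨r, K, hr, hodd, hK, hadj, rfl⟩ := hM
    haveI : Nonempty (Fin n) := ⟨⟨0, by omega⟩⟩
    right; right; right; right; left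
    exact ⟨r, K, hr, hodd, by simpa using finrank_dvd_of_isFieldSubalgebra hK, hK, hadj,
      key _ (hle.trans inf_le_left) (not_su_le_subalgebraNormalizer hσ (by omega) hr.two_le hK)⟩
  · obtain ⟨n₁, n₂, e, P, f₁, f₂, h1, h2, hf1, hf2, hform, rfl⟩ := hM
    have hnn : n₁ * n₂ = n := by simpa using (Fintype.card_congr e).symm
    by_cases h22 : n₁ = 2 ∧ q = 2
    · obtain ⟨rfl, rfl⟩ := h22
      obtain ⟨D, hD, hle'⟩ := tensor_refine hσ (by omega) hf1 hf2 hform
      exact Or.inr (Or.inr (Or.inl ⟨2, n₂, D, hD, hnn, fun h => by omega, key _ (hle.trans hle')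
        (not_su_le_decompositionStabilizer hσ (by omega) hD.decomp (by omega))⟩))
    right; right; right; right; right; left
    exact ⟨n₁, n₂, e, P, f₁, f₂, h1, h2, hnn, fun h => by omega, hf1, hf2, hform,
      key _ (hle.trans inf_le_left) (not_su_le_tensorProductSubgroup hσ h1 (by omega) e P)⟩
  · obtain ⟨k, t, e, P, f₁, hk, ht, hex, hf1, hform, rfl⟩ := hM
    have hkt : k ^ t = n := by simpa using (Fintype.card_congr e).symm
    obtain rfl : t = 2 := by
      by_contra hne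
      have : 27 ≤ k ^ t := le_trans (le_trans (by norm_num : (27 : ℕ) ≤ 3 ^ 3) (Nat.pow_le_pow_left hk 3))
        (Nat.pow_le_pow_right (by omega) (by omega))
      omega
    right; right; right; right; right; right; right; right; right; right; left
    exact ⟨k, e, P, f₁, hk, hkt, hex, hf1, hform,
      key _ (hle.trans inf_le_left) (not_su_le_tensorWreathSubgroup hσ hk e P)⟩

end Cfsg.Agent.Lib.MaxClass.Unitary
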