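import Mathlib
import Cfsg.Prelude.Def_GeometricClasses
import Cfsg.Agent.Lib.MaxClass.UnitaryRefine
import Cfsg.Agent.Lib.MaxClass.LinearMax

/-!
In `SU_6(2)` the stabiliser of an orthonormal frame of lines is not maximal: it permutes a set of 126 points
with a further transvection.
-/

set_option autoImplicit false
set_option linter.style.haveILetI false

namespace Cfsg.Agent.Lib.MaxClass.Unitary

open Cfsg Cfsg.Geo Matrix
open Cfsg.Agent.Lib.Aschbacher
open Cfsg.Agent.Lib.MaxClass

set_option maxHeartbeats 1000000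

variable {F : Type*} [Field F] [Fintype F] {n q : ℕ} {σ : F ≃+* F}

/-- Addition of four symbols. -/
def add4 : Fin 4 → Fin 4 → Fin 4 := ![![0, 1, 2, 3], ![1, 0, 3, 2], ![2, 3, 0, 1], ![3, 2, 1, 0]]

/-- Multiplication of four symbols. -/
def mul4 : Fin 4 → Fin 4 → Fin 4 := ![![0, 0, 0, 0], ![0, 1, 2, 3], ![0, 2, 3, 1], ![0, 3, 1, 2]]

/-- The predicate of the 126 points on six symbols. -/
def root6 (a b c d e f : Fin 4) : Bool :=
  decide (((if a = 0 then 0 else 1) + (if b = 0 then 0 else 1) + (if c = 0 then 0 else 1) +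
      (if d = 0 then 0 else 1) + (if e = 0 then 0 else 1) + (if f = 0 then 0 else 1) : ℕ) = 2) ||
    decide (mul4 (mul4 (mul4 (mul4 (mul4 a b) c) d) e) f = 1)

/-- The points are preserved by the transvection at the all-one vector. -/
def root6Step (a b c d e f : Fin 4) : Bool :=
  let s := add4 (add4 (add4 (add4 (add4 a b) c) d) e) f
  !root6 a b c d e f || root6 (add4 a s) (add4 b s) (add4 c s) (add4 d s) (add4 e s) (add4 f s)

theorem root6Step_eq : ∀ a b c d e f : Fin 4, root6Step a b c d e f = true := by decide +kernel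

/-- The set of 126 points, as vectors. -/
def sigmaSet (F : Type*) [Field F] : Set (Fin 6 → F) :=
  {x | (∃ s : Finset (Fin 6), s.card = 2 ∧ ∀ i, i ∈ s ↔ x i ≠ 0) ∨ ∏ i, x i = 1}

omit [Fintype F] in
lemma mem_sigmaSet [DecidableEq F] (x : Fin 6 → F) :
    x ∈ sigmaSet F ↔ ((Finset.univ.filter fun i => x i ≠ 0).card = 2 ∨ ∏ i, x i = 1) := by
  refine or_congr ⟨fun ⟨s, hs, hmem⟩ => ?_, fun h => ⟨_, h, fun i => by simp⟩⟩ Iff.rfl
  rw [← hs]
  congr 1
  ext i
  simp [hmem]

/-- The transvection at the all-one vector preserves the points. -/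
lemma sigmaSet_step (hσ : IsQAut 2 σ) {x : Fin 6 → F} (hx : x ∈ sigmaSet F) :
    (fun i => x i + ∑ j, x j) ∈ sigmaSet F := by
  classical
  obtain ⟨w, hw⟩ := exists_omega hσ
  have h2 := two_eq_zero_two hσ
  have hw0 : w ≠ 0 := fun h => by simp [h] at hw
  have hw1 : w + 1 ≠ 0 := fun h => one_ne_zero (α := F) (by linear_combination hw - w * h)
  let η : Fin 4 → F := ![0, 1, w, w + 1]
  have hne : w ≠ 1 := fun h => hw1 (by rw [h]; linear_combination h2)
  have hη : Function.Injective η := by
    intro a b hab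
    fin_cases a <;> fin_cases b <;>
      first
        | rfl
        | (simp [η] at hab; done)
        | (simp [η] at hab; exact absurd hab hne)
        | (simp [η] at hab; exact absurd hab.symm hne)
        | (simp [η] at hab; exact absurd hab.symm hw0)
        | (simp [η] at hab; exact absurd hab hw0)
        | (simp [η] at hab; exact absurd hab.symm hw1)
        | (simp [η] at hab; exact absurd hab hw1)
        | (simp [η] at hab; exact absurd (by linear_combination hab) hw0)
        | (simp [η] at hab; exact absurd (by linear_combination -hab) hw0)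
        | (simp [η] at hab; exact absurd (by linear_combination hab - h2) hne)
  have hsurj : Function.Surjective η := by
    refine ((Fintype.bijective_iff_injective_and_card η).mpr ⟨hη, ?_⟩).2
    rw [Fintype.card_fin, hσ.card]
    norm_num
  have hadd : ∀ a b, η (add4 a b) = η a + η b := by
    intro a b
    fin_cases a <;> fin_cases b <;> simp [η, add4] <;>
      first
        | linear_combination h2
        | linear_combination -h2
        | linear_combination -w * h2
        | linear_combination -(w + 1) * h2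
        | linear_combination w * h2
        | linear_combination (w + 1) * h2
        | ring
  have hmul : ∀ a b, η (mul4 a b) = η a * η b := by
    intro a b
    fin_cases a <;> fin_cases b <;> simp [η, mul4] <;>
      first
        | linear_combination hw
        | linear_combination -hw
        | linear_combination hw - h2
        | linear_combination -hw + (w + 1) * h2
        | linear_combination -hw + w * h2
        | linear_combination -hw + h2
  choose c hc using fun i => hsurj (x i)
  have hz : ∀ a, η a ≠ 0 ↔ a ≠ 0 := fun a => by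
    have h0 : η 0 = 0 := rfl
    rw [← h0]
    exact hη.ne_iff
  have hone : η 1 = 1 := rfl
  have hroot : ∀ (y : Fin 6 → F) (d : Fin 6 → Fin 4), (∀ i, η (d i) = y i) →
      (y ∈ sigmaSet F ↔ root6 (d 0) (d 1) (d 2) (d 3) (d 4) (d 5) = true) := by
    intro y d hd
    rw [mem_sigmaSet, root6, Bool.or_eq_true, decide_eq_true_iff, decide_eq_true_iff, Finset.card_filter,
      Fin.sum_univ_six, Fin.prod_univ_six]
    simp only [← hd, hz, ne_eq, ite_not]
    refine or_congr Iff.rfl ?_
    rw [← hmul, ← hmul, ← hmul, ← hmul, ← hmul, ← hone, hη.eq_iff]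
  have hsum : η (add4 (add4 (add4 (add4 (add4 (c 0) (c 1)) (c 2)) (c 3)) (c 4)) (c 5)) = ∑ j, x j := by
    simp only [hadd, hc, Fin.sum_univ_six]
  set s := add4 (add4 (add4 (add4 (add4 (c 0) (c 1)) (c 2)) (c 3)) (c 4)) (c 5) with hs
  rw [hroot _ c hc] at hx
  rw [hroot _ (fun i => add4 (c i) s) (fun i => by rw [hadd, hc, hsum])]
  have h := root6Step_eq (c 0) (c 1) (c 2) (c 3) (c 4) (c 5)
  simp only [root6Step, hx, Bool.not_true, Bool.false_or, ← hs] at h
  exact h

/-- The stabiliser of an orthonormal frame in `SU_6(2)` is not maximal. -/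
theorem lines_not_maximal_six (hσ : IsQAut 2 σ) {H : Subgroup (GL (Fin 6) F)}
    (hH : IsMaximalIn (suGL 6 F 2) H) {t : ℕ} {D : Fin t → Submodule F (Fin 6 → F)}
    (hD : IsNondegenerateMDecomposition (hermForm 6 F 2) 1 D) (hle : H ≤ decompositionStabilizer D) : False := by
  classical
  obtain rfl : t = 6 := by simpa using isMDecomposition_card hD.decomp
  have h2 := two_eq_zero_two hσ
  have hreal : ∀ c : F, σ c = c → c ≠ 0 → c = 1 := fun c hc hc0 => by
    rw [hσ.eq_pow, sq] at hc
    exact mul_left_cancel₀ hc0 (hc.trans (mul_one c).symm)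
  have hb : ∀ i, ∃ b ∈ D i, hermForm 6 F 2 b b = 1 := by
    intro i
    obtain ⟨u, hu, huu⟩ := exists_anisotropic (isUnitaryForm_herm hσ) (W := D i)
      (fun h => by have := hD.decomp.finrank_eq i; rw [h, finrank_bot] at this; omega) (hD.nondegenerate i)
    exact ⟨u, hu, hreal _ (herm_comm hσ u u) huu⟩
  choose b hb hbb using hb
  let Bm : Matrix (Fin 6) (Fin 6) F := Matrix.of fun r j => b j r
  have hBB : Bmᵀ * twist σ Bm = 1 := by
    ext i j
    have e : (Bmᵀ * twist σ Bm) i j = hermForm 6 F 2 (b i) (b j) := by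
      rw [Matrix.mul_apply]
      exact Finset.sum_congr rfl fun r _ => by rw [← hσ.eq_pow]; rfl
    rw [e, Matrix.one_apply]
    split_ifs with h
    · rw [h, hbb]
    · exact hD.orthogonal i j h _ (hb i) _ (hb j)
  have hBl : twist σ Bmᵀ * Bm = 1 := by
    have h := congrArg (twist σ) hBB
    rwa [twist_mul, twist_twist hσ.invol, twist_one] at h
  let B : GL (Fin 6) F := ⟨Bm, twist σ Bmᵀ, mul_eq_one_comm.mp hBl, hBl⟩
  have hBU : B ∈ GU 6 F 2 := hσ.mem_GU.mpr hBB
  have hBe : ∀ j, (B : Matrix (Fin 6) (Fin 6) F) *ᵥ Pi.single j 1 = b j := fun j => by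
    rw [Matrix.mulVec_single_one]; rfl
  set X : Subgroup (GL (Fin 6) F) :=
    (stabilizing (glToMat (Fin 6) F) (sigmaSet F)).map (MulAut.conj B).toMonoidHom with hX
  have hmemX : ∀ g, g ∈ X ↔ ∀ v, v ∈ sigmaSet F ↔
      ((B⁻¹ * g * B : GL (Fin 6) F) : Matrix (Fin 6) (Fin 6) F) *ᵥ v ∈ sigmaSet F := by
    intro g
    constructor
    · rintro ⟨y, hy, rfl⟩
      have e : B⁻¹ * (MulAut.conj B).toMonoidHom y * B = y := by
        show B⁻¹ * (B * y * B⁻¹) * B = y
        group
      rw [e]
      exact hy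
    · intro h
      exact ⟨B⁻¹ * g * B, h, show B * (B⁻¹ * g * B) * B⁻¹ = g by group⟩
  -- monomial elements
  have hHX : H ≤ X := by
    intro g hg
    rw [hmemX]
    obtain ⟨π, hπ⟩ := hle hg
    have hgS := hH.1.le hg
    set h := B⁻¹ * g * B with hh
    have ha : ∀ j, ∃ a : F, (h : Matrix (Fin 6) (Fin 6) F) *ᵥ Pi.single j 1 = Pi.single (π j) a := by
      intro j
      have hgb : (g : Matrix (Fin 6) (Fin 6) F) *ᵥ b j ∈ D (π j) := by
        rw [← hπ j]; exact ⟨b j, hb j, Matrix.toLin'_apply _ _⟩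
      have hb0 : (⟨b (π j), hb (π j)⟩ : D (π j)) ≠ 0 := fun h0 => by
        have h1 : b (π j) = 0 := congrArg Subtype.val h0
        have h3 := hbb (π j)
        rw [h1, herm_zero_left hσ] at h3
        exact zero_ne_one h3
      obtain ⟨a, ha⟩ := (finrank_eq_one_iff_of_nonzero' _ hb0).mp (hD.decomp.finrank_eq (π j)) ⟨_, hgb⟩
      have ha' : a • b (π j) = (g : Matrix (Fin 6) (Fin 6) F) *ᵥ b j := congrArg Subtype.val ha
      refine ⟨a, ?_⟩
      rw [hh, Units.val_mul, Units.val_mul, ← Matrix.mulVec_mulVec, ← Matrix.mulVec_mulVec, hBe, ← ha',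
        Matrix.mulVec_smul, ← hBe, Matrix.mulVec_mulVec, Units.inv_mul, Matrix.one_mulVec, ← Pi.single_smul,
        smul_eq_mul, mul_one]
    choose a ha using ha
    have hent : ∀ i j, (h : Matrix (Fin 6) (Fin 6) F) i j = if i = π j then a j else 0 := fun i j => by
      have := congrFun (ha j) i
      rw [Matrix.mulVec_single_one, Pi.single_apply] at this
      exact this
    have hm : (h : Matrix (Fin 6) (Fin 6) F) = (Matrix.diagonal a).submatrix π.symm id := by
      ext i j
      rw [hent, Matrix.submatrix_apply, Matrix.diagonal_apply]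
      simp only [id_eq, Equiv.symm_apply_eq]
      split_ifs with h'
      · rw [h', Equiv.symm_apply_apply]
      · rfl
    have hprod : ∏ j, a j = 1 := by
      have hdet : (h : Matrix (Fin 6) (Fin 6) F).det = 1 := by
        have h1 : Matrix.GeneralLinearGroup.det h = 1 := by
          rw [hh, map_mul, map_mul, map_inv, show Matrix.GeneralLinearGroup.det g = 1 from hgS.2, mul_one,
            inv_mul_cancel]
        simpa using congrArg (fun u : Fˣ => (u : F)) h1
      rw [hm, Matrix.det_permute, Matrix.det_diagonal] at hdet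
      rcases Int.units_eq_one_or (Equiv.Perm.sign π.symm) with h' | h' <;> rw [h'] at hdet <;> simp at hdet
      · exact hdet
      · linear_combination hdet + (∏ j, a j) * h2
    have hval : ∀ v j, ((h : Matrix (Fin 6) (Fin 6) F) *ᵥ v) (π j) = a j * v j := fun v j => by
      rw [Matrix.mulVec, dotProduct, Finset.sum_eq_single j]
      · rw [hent, if_pos rfl]
      · intro k _ hk
        rw [hent, if_neg (fun e => hk (π.injective e).symm), zero_mul]
      · simp
    have ha0 : ∀ j, a j ≠ 0 := fun j hj => by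
      rw [Finset.prod_eq_zero (Finset.mem_univ j) hj] at hprod
      exact zero_ne_one hprod
    intro v
    rw [mem_sigmaSet, mem_sigmaSet]
    refine or_congr (Eq.congr ?_ rfl) (Eq.congr ?_ rfl)
    · refine Finset.card_equiv π fun j => ?_
      simp [hval, ha0 j]
    · rw [← Equiv.prod_comp π (fun i => ((h : Matrix (Fin 6) (Fin 6) F) *ᵥ v) i)]
      simp only [hval, Finset.prod_mul_distrib, hprod, one_mul]
  -- the two transvections
  have h11 : (1 : F) + σ 1 = 0 := by rw [map_one]; linear_combination h2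
  have hiso₀ : hermForm 6 F 2 (fun _ => (1 : F)) (fun _ => 1) = 0 := by
    simp [hermForm]
    linear_combination (3 : F) * h2
  set v₁ : Fin 6 → F := ![1, 1, 1, 1, 0, 0] with hv₁
  have hiso₁ : hermForm 6 F 2 v₁ v₁ = 0 := by
    simp [hermForm, hv₁, Fin.sum_univ_six]
    linear_combination (2 : F) * h2
  set t₀ := utv hσ 1 (fun _ => (1 : F)) hiso₀
  set t₁ := utv hσ 1 v₁ hiso₁
  have hconjS : ∀ t, t ∈ suGL 6 F 2 → B * t * B⁻¹ ∈ suGL 6 F 2 := fun t ht =>
    ⟨(GU 6 F 2).mul_mem ((GU 6 F 2).mul_mem hBU ht.1) ((GU 6 F 2).inv_mem hBU), (MonoidHom.normal_ker _).conj_mem _ ht.2 B⟩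
  have ht₀X : B * t₀ * B⁻¹ ∈ X := by
    rw [hmemX, show B⁻¹ * (B * t₀ * B⁻¹) * B = t₀ by group]
    have hstep : ∀ v, (t₀ : Matrix (Fin 6) (Fin 6) F) *ᵥ v = fun i => v i + ∑ j, v j := fun v => by
      rw [utv_mulVec]
      funext i
      simp [hermForm]
    intro v
    refine ⟨fun hv => hstep v ▸ sigmaSet_step hσ hv, fun hv => ?_⟩
    have h := sigmaSet_step hσ hv
    rw [← hstep] at h
    convert h using 1
    rw [hstep, hstep]
    funext i
    simp only [Fin.sum_univ_six]
    first
      | linear_combination -(4 * (v 0 + v 1 + v 2 + v 3 + v 4 + v 5)) * h2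
      | linear_combination (4 * (v 0 + v 1 + v 2 + v 3 + v 4 + v 5)) * h2
  rcases hH.2 (X ⊓ suGL 6 F 2) (le_inf hHX hH.1.le) inf_le_right with hM | hM
  · have hmem : B * t₀ * B⁻¹ ∈ H := hM ▸ ⟨ht₀X, hconjS _ (utv_mem hσ h11 _ _)⟩
    obtain ⟨π, hπ⟩ := hle hmem
    obtain ⟨k, hk⟩ : ∃ k : Fin 6, k ≠ π 0 ∧ k ≠ 0 := by
      by_cases h : π 0 = 1
      · exact ⟨2, by rw [h]; decide, by decide⟩
      · exact ⟨1, Ne.symm h, by decide⟩
    have h1 : ((B * t₀ * B⁻¹ : GL (Fin 6) F) : Matrix (Fin 6) (Fin 6) F) *ᵥ b 0 ∈ D (π 0) := by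
      rw [← hπ 0]; exact ⟨b 0, hb 0, Matrix.toLin'_apply _ _⟩
    have h3 := hD.orthogonal (π 0) k hk.1.symm _ h1 _ (hb k)
    rw [Units.val_mul, Units.val_mul, ← Matrix.mulVec_mulVec, ← Matrix.mulVec_mulVec, ← hBe 0,
      Matrix.mulVec_mulVec _ ((B⁻¹ : GL (Fin 6) F) : Matrix (Fin 6) (Fin 6) F), Units.inv_mul, Matrix.one_mulVec,
      ← hBe k] at h3
    have h4 : hermForm 6 F 2 ((t₀ : Matrix (Fin 6) (Fin 6) F) *ᵥ Pi.single 0 1) (Pi.single k 1) = 0 := by
      rw [← h3]; exact (hBU _ _).symm
    rw [herm_single_right hσ, utv_mulVec] at h4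
    simp [herm_single_left hσ, hk.2] at h4
  · have hmem : B * t₁ * B⁻¹ ∈ X := (hM.symm ▸ hconjS _ (utv_mem hσ h11 _ _) : B * t₁ * B⁻¹ ∈ X ⊓ suGL 6 F 2).1
    rw [hmemX, show B⁻¹ * (B * t₁ * B⁻¹) * B = t₁ by group] at hmem
    have hroot : (Pi.single 0 1 + Pi.single 4 1 : Fin 6 → F) ∈ sigmaSet F := by
      refine Or.inl ⟨{0, 4}, by decide, fun i => ?_⟩
      fin_cases i <;> simp
    have himg : (t₁ : Matrix (Fin 6) (Fin 6) F) *ᵥ (Pi.single 0 1 + Pi.single 4 1) = ![0, 1, 1, 1, 1, 0] := by
      rw [utv_mulVec]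
      funext i
      fin_cases i <;> simp [hermForm, hv₁, Fin.sum_univ_six] <;> linear_combination h2
    have h := (hmem _).mp hroot
    rw [himg, mem_sigmaSet] at h
    rcases h with h | h
    · rw [Finset.card_filter, Fin.sum_univ_six] at h
      simp at h
    · rw [Fin.prod_univ_six] at h
      simp at h

end Cfsg.Agent.Lib.MaxClass.Unitary
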