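import Mathlib
import Cfsg.Prelude.Def_GeometricClasses
import Cfsg.Agent.Lib.MaxClass.UnitaryRefine

/-!
In dimension six over four elements the determinant-one normaliser of an adjoint-closed cubic field stabilises
a symplectic structure over two elements.
-/

set_option autoImplicit false
set_option linter.style.haveILetI false

namespace Cfsg.Agent.Lib.MaxClass.Unitary

open Cfsg Cfsg.Geo Matrix
open Cfsg.Agent.Lib.Aschbacher
open Cfsg.Agent.Lib.MaxClass
open scoped Kronecker

set_option maxHeartbeats 2000000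

variable {F : Type*} [Field F] [Fintype F] {σ : F ≃+* F}

theorem field_six (hσ : IsQAut 2 σ) {K : Subalgebra F (Matrix (Fin 6) (Fin 6) F)} (hK : IsFieldSubalgebra 3 K)
    (hadj : IsAdjointClosedFor (hermForm 6 F 2) K) :
    ∃ (F₀ : Subfield F) (P : GL (Fin 6) F) (ζ : F), Fintype.card F = Nat.card F₀ ^ 2 ∧ ζ ≠ 0 ∧
      ζ + ζ ^ 2 = 0 ∧ IsFormRationalStructure (hermForm 6 F 2) F₀ ζ P ∧
      (∀ u : Fin 6 → F, (∀ i, u i ∈ F₀) → hermForm 6 F 2 ((P : Matrix (Fin 6) (Fin 6) F) *ᵥ u)
        ((P : Matrix (Fin 6) (Fin 6) F) *ᵥ u) = 0) ∧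
      subalgebraNormalizer K ⊓ suGL 6 F 2 ≤ subfieldSubgroup F₀ P := by
  classical
  have h2 := two_eq_zero_two hσ
  haveI hch : CharP F 2 := CharTwo.of_one_ne_zero_of_two_eq_zero one_ne_zero h2
  haveI : Nontrivial K := ⟨⟨1, 0, fun h => by
    have := congrArg (fun a : K => (a : Matrix (Fin 6) (Fin 6) F) 0 0) h
    simp at this⟩⟩
  letI fK : Field K :=
    IsField.toField
      { exists_pair_ne := exists_pair_ne K
        mul_comm := fun x y => Subtype.ext (hK.comm x x.2 y y.2)
        mul_inv_cancel := fun {x} hx => by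
          obtain ⟨y, hy, hxy⟩ := hK.inv x x.2 (fun h => hx (Subtype.ext h))
          exact ⟨⟨y, hy⟩, Subtype.ext hxy⟩ }
  haveI : Finite K := inferInstance
  haveI : Fintype K := Fintype.ofFinite K
  haveI : FiniteDimensional F K := FiniteDimensional.of_finrank_pos (by rw [hK.finrank_eq]; norm_num)
  haveI : CharP K 2 := charP_of_injective_algebraMap (algebraMap F K).injective 2
  haveI : Fact (Nat.Prime 2) := ⟨Nat.prime_two⟩
  have hcardK : Fintype.card K = 64 := by
    rw [Module.card_eq_pow_finrank (K := F), hσ.card, hK.finrank_eq]; norm_num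
  let act : K → (Fin 6 → F) → (Fin 6 → F) := fun k x => (k : Matrix (Fin 6) (Fin 6) F) *ᵥ x
  have act_add : ∀ a b x, act (a + b) x = act a x + act b x := fun a b x => Matrix.add_mulVec _ _ _
  have act_vadd : ∀ a x y, act a (x + y) = act a x + act a y := fun a x y => Matrix.mulVec_add _ _ _
  have act_mul : ∀ a b x, act (a * b) x = act a (act b x) := fun a b x => (Matrix.mulVec_mulVec _ _ _).symm
  have act_one : ∀ x, act 1 x = x := fun x => Matrix.one_mulVec x
  have act_zero : ∀ x, act 0 x = 0 := fun x => Matrix.zero_mulVec x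
  have act_smul : ∀ (c : F) a x, act (c • a) x = c • act a x := fun c a x => Matrix.smul_mulVec c _ _
  have act_map : ∀ (c : F) x, act (algebraMap F K c) x = c • x := fun c x => by
    rw [Algebra.algebraMap_eq_smul_one, act_smul, act_one]
  -- the adjoint map
  have hdual : ∀ k : K, ∃! k' : K, ∀ u v, hermForm 6 F 2 (act k u) v = hermForm 6 F 2 u (act k' v) := by
    intro k
    obtain ⟨k', hk', h⟩ := hadj k k.2
    refine ⟨⟨k', hk'⟩, h, fun y hy => ?_⟩
    apply Subtype.ext
    refine Matrix.ext_of_mulVec_single fun j => ?_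
    refine sub_eq_zero.mp (eq_zero_of_herm hσ fun v => ?_)
    have e : ∀ a b, hermForm 6 F 2 v (a - b) = hermForm 6 F 2 v a - hermForm 6 F 2 v b := fun a b => by
      rw [eq_sub_iff_add_eq, ← herm_add_right hσ, sub_add_cancel]
    rw [e, sub_eq_zero]
    exact (hy v (Pi.single j 1)).symm.trans (h v (Pi.single j 1))
  choose bar hbar hbaru using hdual
  have bar_mul : ∀ a b, bar (a * b) = bar a * bar b := fun a b =>
    (hbaru (a * b) _ fun u v => by
      show hermForm 6 F 2 (act (a * b) u) v = hermForm 6 F 2 u (act (bar a * bar b) v)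
      rw [mul_comm (bar a), act_mul, act_mul, hbar, hbar]).symm
  have bar_add : ∀ a b, bar (a + b) = bar a + bar b := fun a b =>
    (hbaru (a + b) _ fun u v => by
      show hermForm 6 F 2 (act (a + b) u) v = hermForm 6 F 2 u (act (bar a + bar b) v)
      rw [act_add, act_add, herm_add_left hσ, herm_add_right hσ, hbar, hbar]).symm
  have bar_map : ∀ c : F, bar (algebraMap F K c) = algebraMap F K (σ c) := fun c =>
    (hbaru _ _ fun u v => by
      show hermForm 6 F 2 (act (algebraMap F K c) u) v = hermForm 6 F 2 u (act (algebraMap F K (σ c)) v)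
      rw [act_map, act_map, herm_smul_left hσ, herm_smul_right hσ, hσ.invol]).symm
  have bar_bar : ∀ a, bar (bar a) = a := fun a =>
    (hbaru (bar a) a fun u v => by
      rw [← herm_comm hσ, ← hbar, herm_comm hσ]).symm
  have bar_one : bar 1 = 1 := by rw [← map_one (algebraMap F K), bar_map, map_one]
  have bar_zero : bar 0 = 0 := by rw [← map_zero (algebraMap F K), bar_map, map_zero]
  have bar_inv : ∀ a, bar a⁻¹ = (bar a)⁻¹ := by
    intro a
    by_cases ha : a = 0
    · rw [ha, _root_.inv_zero, bar_zero, _root_.inv_zero]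
    · exact eq_inv_of_mul_eq_one_left (by rw [← bar_mul, inv_mul_cancel₀ ha, bar_one])
  -- the form over the field
  have hrep : ∀ x y, ∃! k : K, ∀ a, hermForm 6 F 2 (act a x) y = Algebra.trace F K (a * k) := by
    intro x y
    let L : K →ₗ[F] F :=
      { toFun := fun a => hermForm 6 F 2 (act a x) y
        map_add' := fun a b => by rw [act_add, herm_add_left hσ]
        map_smul' := fun c a => by rw [act_smul, herm_smul_left hσ]; rfl }
    have hnd : (Algebra.traceForm F K).Nondegenerate := traceForm_nondegenerate F K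
    refine ⟨((Algebra.traceForm F K).toDual hnd).symm L, fun a => ?_, fun k hk => ?_⟩
    · have h := LinearMap.BilinForm.apply_toDual_symm_apply (B := Algebra.traceForm F K) (hB := hnd) L a
      rw [Algebra.traceForm_apply] at h
      rw [mul_comm]
      exact h.symm
    · rw [eq_comm, LinearEquiv.symm_apply_eq]
      ext a
      show hermForm 6 F 2 (act a x) y = Algebra.traceForm F K k a
      rw [Algebra.traceForm_apply, mul_comm]
      exact hk a
  choose h hh hhu using hrep
  have h_left : ∀ a x y, h (act a x) y = a * h x y := fun a x y =>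
    (hhu _ _ _ fun b => by rw [← act_mul, hh, mul_assoc]).symm
  have h_add : ∀ x x' y, h (x + x') y = h x y + h x' y := fun x x' y =>
    (hhu _ _ _ fun b => by rw [act_vadd, herm_add_left hσ, hh, hh, mul_add, map_add]).symm
  have htr : ∀ k, σ (Algebra.trace F K k) = Algebra.trace F K (bar k) := by
    intro k
    have e : ∀ k : K, algebraMap F K (Algebra.trace F K k) =
        k + k * k * (k * k) + k * k * (k * k) * (k * k * (k * k)) * (k * k * (k * k) * (k * k * (k * k))) := by
      intro k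
      rw [FiniteField.algebraMap_trace_eq_sum_pow, hK.finrank_eq, Nat.card_eq_fintype_card, hσ.card,
        Finset.sum_range_succ, Finset.sum_range_succ, Finset.sum_range_succ, Finset.sum_range_zero]
      ring
    apply (algebraMap F K).injective
    rw [← bar_map, e, e]
    simp only [bar_add, bar_mul]
  have htrθ : ∀ (θ : K →ₐ[F] K) (k : K), Algebra.trace F K (θ k) = Algebra.trace F K k := by
    intro θ k
    apply (algebraMap F K).injective
    have e := θ.commutes (Algebra.trace F K k)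
    rw [FiniteField.algebraMap_trace_eq_sum_pow, map_sum] at e
    rw [FiniteField.algebraMap_trace_eq_sum_pow, FiniteField.algebraMap_trace_eq_sum_pow]
    simpa only [map_pow] using e
  have h_herm : ∀ x y, h y x = bar (h x y) := by
    intro x y
    refine (hhu y x _ fun a => ?_).symm
    have e := hbar (bar a) x y
    rw [bar_bar, hh] at e
    rw [← herm_comm hσ, ← e, htr, bar_mul, bar_bar]
  have h_right : ∀ a x y, h x (act a y) = bar a * h x y := fun a x y => by
    rw [h_herm, h_left, bar_mul, ← h_herm]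
  have h_add' : ∀ x y y', h x (y + y') = h x y + h x y' := fun x y y' => by
    rw [h_herm, h_add, bar_add, ← h_herm, ← h_herm]
  have hcomb : ∀ a b c d x y, h (act a x + act b y) (act c x + act d y) =
      a * bar c * h x x + a * bar d * h x y + b * bar c * h y x + b * bar d * h y y := fun a b c d x y => by
    rw [h_add, h_add', h_add', h_left, h_left, h_left, h_left, h_right, h_right, h_right, h_right]
    ring
  -- the fixed field of the adjoint
  let barHom : K →+* K :=
    { toFun := bar, map_one' := bar_one, map_mul' := bar_mul, map_zero' := bar_zero, map_add' := bar_add }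
  let K₀ : Subfield K := barHom.eqLocusField (RingHom.id K)
  have mem0 : ∀ k, k ∈ K₀ ↔ bar k = k := fun k => Iff.rfl
  obtain ⟨ρ, hρ, hρσ, -⟩ := exists_rho hσ
  set r : K := algebraMap F K ρ with hr
  have hr' : bar r = algebraMap F K (σ ρ) := bar_map ρ
  have hrd : r - bar r ≠ 0 := by
    rw [hr', hr, ← map_sub]
    exact fun h0 => hρσ ((sub_eq_zero.mp ((algebraMap F K).injective (h0.trans (map_zero _).symm))).symm)
  have bar_sub : ∀ a b, bar (a - b) = bar a - bar b := fun a b => map_sub barHom a b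
  have hdec : ∀ k, ∃ a ∈ K₀, ∃ b ∈ K₀, k = a + r * b := by
    intro k
    have hb : bar ((k - bar k) / (r - bar r)) = (k - bar k) / (r - bar r) := by
      rw [div_eq_mul_inv, bar_mul, bar_inv, bar_sub, bar_sub, bar_bar, bar_bar, ← neg_sub k, ← neg_sub r,
        inv_neg, neg_mul_neg, ← div_eq_mul_inv]
    refine ⟨k - r * ((k - bar k) / (r - bar r)), (mem0 _).mpr ?_, _, (mem0 _).mpr hb, by ring⟩
    rw [bar_sub, bar_mul, hb]
    linear_combination (mul_div_cancel₀ (k - bar k) hrd)
  have hK₀card : Nat.card K₀ = 8 := by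
    let f : K₀ × K₀ → K := fun ab => (ab.1 : K) + r * ab.2
    have hf : Function.Bijective f := by
      refine ⟨fun x y hxy => ?_, fun k => ?_⟩
      · have e : ((x.1 : K) - y.1) = r * ((y.2 : K) - x.2) := by
          have hxy' : (x.1 : K) + r * x.2 = y.1 + r * y.2 := hxy
          linear_combination hxy'
        have e' := congrArg bar e
        rw [bar_sub, bar_mul, bar_sub, (mem0 _).mp x.1.2, (mem0 _).mp y.1.2, (mem0 _).mp x.2.2,
          (mem0 _).mp y.2.2, e] at e'
        have e'' : (r - bar r) * ((y.2 : K) - x.2) = 0 := by linear_combination e'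
        have h2' := (mul_eq_zero.mp e'').resolve_left hrd
        have h1' : (x.1 : K) - y.1 = 0 := by rw [e, h2', mul_zero]
        exact Prod.ext (Subtype.ext (sub_eq_zero.mp h1')) (Subtype.ext (sub_eq_zero.mp h2').symm)
      · obtain ⟨a, ha, b, hb, rfl⟩ := hdec k
        exact ⟨(⟨a, ha⟩, ⟨b, hb⟩), rfl⟩
    have e := Nat.card_congr (Equiv.ofBijective f hf)
    rw [Nat.card_prod, Nat.card_eq_fintype_card (α := K), hcardK] at e
    exact Nat.mul_self_inj.mp (e.trans (by norm_num : (64 : ℕ) = 8 * 8))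
  have pow8 : ∀ k, k ∈ K₀ ↔ k ^ 8 = k := fun k => by rw [mem_subfield_iff, hK₀card]
  -- a fixed basis
  obtain ⟨η, hη⟩ : ∃ η : Module.Basis (Fin 3) F K, ∀ i, bar (η i) = η i := by
    obtain ⟨s, hs, hspan, hli⟩ := exists_linearIndependent F (K₀ : Set K)
    have htop : Submodule.span F s = ⊤ := by
      rw [hspan, eq_top_iff]
      intro k _
      obtain ⟨a, ha, b, hb, rfl⟩ := hdec k
      refine add_mem (Submodule.subset_span ha) ?_
      rw [hr, ← Algebra.smul_def]
      exact Submodule.smul_mem _ _ (Submodule.subset_span hb)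
    let bs : Module.Basis s F K := Module.Basis.mk hli (by rw [Subtype.range_coe, htop])
    haveI : Fintype s := Fintype.ofFinite _
    have hc : Fintype.card s = 3 := by rw [← Module.finrank_eq_card_basis bs, hK.finrank_eq]
    refine ⟨bs.reindex (Fintype.equivFinOfCardEq hc), fun i => (mem0 _).mp ?_⟩
    rw [Module.Basis.reindex_apply, Module.Basis.mk_apply]
    exact hs ((Fintype.equivFinOfCardEq hc).symm i).2
  have bar_sum : ∀ c : Fin 3 → F, bar (∑ i, c i • η i) = ∑ i, σ (c i) • η i := by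
    intro c
    show barHom _ = _
    rw [map_sum]
    refine Finset.sum_congr rfl fun i _ => ?_
    show bar _ = _
    rw [Algebra.smul_def, bar_mul, bar_map, hη, ← Algebra.smul_def]
  have hrepr : ∀ k ∈ K₀, ∀ i, σ (η.repr k i) = η.repr k i := by
    intro k hk i
    have e := congrArg (fun x => η.repr x i) (bar_sum (fun i => η.repr k i))
    simp only [η.sum_repr, (mem0 _).mp hk, η.repr_sum_self] at e
    exact e.symm
  -- a hyperbolic pair
  have hh0 : ∀ x, (∀ y, h y x = 0) → x = 0 := fun x hx => eq_zero_of_herm hσ fun v => by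
    have e := hh v x 1
    rw [act_one, hx, mul_zero, map_zero] at e
    exact e
  have self0 : ∀ x, h x x ∈ K₀ := fun x => (mem0 _).mpr (h_herm x x).symm
  have h_act_sub : ∀ x a y, h (x - act a y) y = h x y - a * h y y := fun x a y => by
    rw [eq_sub_iff_add_eq, ← h_left, ← h_add, sub_add_cancel]
  obtain ⟨u, hu0, huu⟩ : ∃ u, u ≠ 0 ∧ h u u = 0 := by
    by_contra hcon
    push Not at hcon
    set e₁ : Fin 6 → F := Pi.single 0 1
    have he1 : h e₁ e₁ ≠ 0 := hcon _ (by simp [e₁])
    obtain ⟨x, hx⟩ : ∃ x, ∀ a : K, x ≠ act a e₁ := by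
      by_contra hc
      push Not at hc
      have hsurj : Function.Surjective (fun a : K => act a e₁) := fun x => by
        obtain ⟨a, ha⟩ := hc x; exact ⟨a, ha.symm⟩
      have := Fintype.card_le_of_surjective _ hsurj
      rw [hcardK, Fintype.card_fun, Fintype.card_fin, hσ.card] at this
      norm_num at this
    set e₂ := x - act (h x e₁ / h e₁ e₁) e₁ with he2
    have he20 : e₂ ≠ 0 := fun h0 => hx _ (sub_eq_zero.mp h0)
    have h21 : h e₂ e₁ = 0 := by rw [he2, h_act_sub, div_mul_cancel₀ _ he1, sub_self]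
    have h12 : h e₁ e₂ = 0 := by rw [h_herm, h21, bar_zero]
    have h22 := hcon _ he20
    set y : K := (h e₁ e₁ / h e₂ e₂) ^ 4 with hy
    have hyK : y ∈ K₀ := pow_mem (K₀.div_mem (self0 _) (self0 _)) 4
    have hyy : y * y = h e₁ e₁ / h e₂ e₂ := by
      rw [hy, ← pow_add]
      exact (pow8 _).mp (K₀.div_mem (self0 _) (self0 _))
    refine hcon (e₁ + act y e₂) (fun h0 => ?_) ?_
    · have e := congrArg (fun z => h z e₁) h0
      simp only [h_add, h_left, h21, mul_zero, add_zero] at e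
      have e0 : h 0 e₁ = 0 := by rw [← act_zero e₁, h_left, zero_mul]
      exact he1 (e.trans e0)
    · have e := hcomb 1 y 1 y e₁ e₂
      rw [act_one] at e
      rw [e, h12, h21, bar_one, (mem0 _).mp hyK, hyy, div_mul_cancel₀ _ h22, mul_zero, mul_zero, add_zero,
        add_zero, mul_one, one_mul, CharTwo.add_self_eq_zero]
  obtain ⟨w, hww, huw⟩ : ∃ w, h w w = 0 ∧ h u w = 1 := by
    obtain ⟨x, hx⟩ : ∃ x, h x u ≠ 0 := by
      by_contra hc
      push Not at hc
      exact hu0 (hh0 u hc)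
    obtain ⟨w₀, hw0⟩ : ∃ z, z = act (h x u)⁻¹ x := ⟨_, rfl⟩
    have hw0u : h w₀ u = 1 := by rw [hw0, h_left, inv_mul_cancel₀ hx]
    have huw0 : h u w₀ = 1 := by rw [h_herm, hw0u, bar_one]
    set c : K := r / (r + bar r) * h w₀ w₀ with hc
    have hsum : r + bar r ≠ 0 := by rwa [← CharTwo.sub_eq_add]
    have hcc : c + bar c = h w₀ w₀ := by
      rw [hc, bar_mul, div_eq_mul_inv, bar_mul, bar_inv, bar_add, bar_bar, (mem0 _).mp (self0 w₀), add_comm (bar r) r,
        ← add_mul, ← add_mul, mul_inv_cancel₀ hsum, one_mul]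
    refine ⟨act 1 w₀ + act c u, ?_, ?_⟩
    · rw [hcomb, hw0u, huw0, huu, bar_one]
      linear_combination hcc + (h w₀ w₀) * (CharTwo.two_eq_zero (R := K))
    · rw [h_add', h_right, h_right, huw0, huu, mul_zero, add_zero, bar_one, one_mul]
  have hwu : h w u = 1 := by rw [h_herm, huw, bar_one]
  have hind : ∀ a b, act a u + act b w = 0 → a = 0 ∧ b = 0 := by
    intro a b h0
    have e0 : ∀ z, h 0 z = 0 := fun z => by rw [← act_zero z, h_left, zero_mul]
    have e1 := congrArg (fun z => h z u) h0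
    have e2 := congrArg (fun z => h z w) h0
    simp only [h_add, h_left, huu, hwu, huw, hww, e0, mul_zero, mul_one, zero_add, add_zero] at e1 e2
    exact ⟨e2, e1⟩
  have hpair : ∀ a b c d, h (act a u + act b w) (act c u + act d w) = a * bar d + b * bar c := fun a b c d => by
    rw [hcomb, huu, hww, huw, hwu]; ring
  -- the basis
  let ep : Fin 6 ≃ Fin 2 × Fin 3 := (finCongr (show 6 = 2 * 3 by norm_num)).trans finProdFinEquiv.symm
  let uw : Fin 2 → (Fin 6 → F) := ![u, w]
  let Pm : Matrix (Fin 6) (Fin 6) F := Matrix.of fun i j => act (η (ep j).2) (uw (ep j).1) i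
  have hPv : ∀ c, Pm *ᵥ c = act (∑ i, c (ep.symm (0, i)) • η i) u + act (∑ i, c (ep.symm (1, i)) • η i) w := by
    intro c
    have esum : ∀ (d : Fin 3 → F) x, act (∑ i, d i • η i) x = ∑ i, d i • act (η i) x := fun d x => by
      simp only [Fin.sum_univ_three, act_add, act_smul]
    rw [esum, esum]
    funext l
    rw [Matrix.mulVec, dotProduct, ← Equiv.sum_comp ep.symm, Fintype.sum_prod_type, Fin.sum_univ_two, Pi.add_apply,
      Finset.sum_apply, Finset.sum_apply]
    simp [Pm, uw, mul_comm]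
  have hPu : IsUnit Pm := by
    rw [← Matrix.mulVec_injective_iff_isUnit]
    intro c d hcd
    have e : Pm *ᵥ (c - d) = 0 := by rw [Matrix.mulVec_sub, hcd, sub_self]
    rw [hPv] at e
    obtain ⟨ea, eb⟩ := hind _ _ e
    have ea' := Fintype.linearIndependent_iff.mp η.linearIndependent _ ea
    have eb' := Fintype.linearIndependent_iff.mp η.linearIndependent _ eb
    funext j
    have : j = ep.symm ((ep j).1, (ep j).2) := (ep.symm_apply_apply j).symm
    rw [this]
    rcases Fin.exists_fin_two.mp ⟨(ep j).1, rfl⟩ with e | e <;> rw [e]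
    · exact sub_eq_zero.mp (ea' _)
    · exact sub_eq_zero.mp (eb' _)
  obtain ⟨P, hP⟩ := hPu
  set F₀ := fixedSub σ with hF₀
  have hreal : ∀ c ∈ F₀, c ≠ 0 → c = 1 := fun c hc hc0 => by
    have e : c * c = c := by rw [← sq, ← hσ.eq_pow]; exact hc
    exact mul_left_cancel₀ hc0 (e.trans (mul_one c).symm)
  have hlat : ∀ c : Fin 6 → F, (∀ i, c i ∈ F₀) →
      ∃ a ∈ K₀, ∃ b ∈ K₀, (P : Matrix (Fin 6) (Fin 6) F) *ᵥ c = act a u + act b w := by
    intro c hc
    refine ⟨_, (mem0 _).mpr ?_, _, (mem0 _).mpr ?_, by rw [hP, hPv]⟩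
    · rw [bar_sum]
      exact Finset.sum_congr rfl fun i _ => by rw [show σ (c _) = c _ from hc _]
    · rw [bar_sum]
      exact Finset.sum_congr rfl fun i _ => by rw [show σ (c _) = c _ from hc _]
  have hcoord : ∀ a ∈ K₀, ∀ b ∈ K₀, ∀ j, (((P⁻¹ : GL (Fin 6) F) : Matrix (Fin 6) (Fin 6) F) *ᵥ
      (act a u + act b w)) j ∈ F₀ := by
    intro a ha b hb j
    let c : Fin 6 → F := fun l => ![η.repr a (ep l).2, η.repr b (ep l).2] (ep l).1
    have e : (P : Matrix (Fin 6) (Fin 6) F) *ᵥ c = act a u + act b w := by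
      rw [hP, hPv]
      simp [c, η.sum_repr]
    rw [← e, Matrix.mulVec_mulVec, Units.inv_mul, Matrix.one_mulVec]
    show σ (c j) = c j
    simp only [c]
    rcases Fin.exists_fin_two.mp ⟨(ep j).1, rfl⟩ with e | e <;> rw [e]
    · exact hrepr a ha _
    · exact hrepr b hb _
  have hform : ∀ a b c d, hermForm 6 F 2 (act a u + act b w) (act c u + act d w) =
      Algebra.trace F K (a * bar d + b * bar c) := fun a b c d => by
    rw [← hpair, ← one_mul (h _ _), ← hh, act_one]
  refine ⟨F₀, P, 1, by rw [hσ.card_fixedSub, hσ.card], one_ne_zero, by rw [one_pow]; exact CharTwo.add_self_eq_zero 1,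
    fun x y hx hy => ?_, fun x hx => ?_, ?_⟩
  · obtain ⟨a, ha, b, hb, e1⟩ := hlat x hx
    obtain ⟨c, hc, d, hd, e2⟩ := hlat y hy
    rw [one_mul, e1, e2, hform, (mem0 _).mp hd, (mem0 _).mp hc]
    show σ _ = _
    rw [htr, (mem0 _).mp (K₀.add_mem (K₀.mul_mem ha hd) (K₀.mul_mem hb hc))]
    rfl
  · obtain ⟨a, ha, b, hb, e1⟩ := hlat x hx
    rw [e1, hform, (mem0 _).mp hb, (mem0 _).mp ha, mul_comm b a, CharTwo.add_self_eq_zero, map_zero]
  rintro g ⟨hgK, hgU, hgS⟩
  -- the induced automorphism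
  let θ : K →ₐ[F] K :=
    (((conjM g).toAlgHom.comp K.val).codRestrict K fun x => (hgK (x : Matrix (Fin 6) (Fin 6) F)).mp x.2)
  have hθ : ∀ a x, (g : Matrix (Fin 6) (Fin 6) F) *ᵥ act a x = act (θ a) ((g : Matrix (Fin 6) (Fin 6) F) *ᵥ x) := by
    intro a x
    show (g : Matrix (Fin 6) (Fin 6) F) *ᵥ ((a : Matrix (Fin 6) (Fin 6) F) *ᵥ x) =
      conjM g (a : Matrix (Fin 6) (Fin 6) F) *ᵥ ((g : Matrix (Fin 6) (Fin 6) F) *ᵥ x)
    rw [conjM_apply, Matrix.mulVec_mulVec, Matrix.mulVec_mulVec]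
    simp only [mul_assoc, Units.inv_mul, mul_one]
  have hθinj : Function.Injective θ := fun a b hab => θ.toRingHom.injective hab
  have hsurj : Function.Surjective θ := Finite.surjective_of_injective hθinj
  have hgh : ∀ x y, h ((g : Matrix (Fin 6) (Fin 6) F) *ᵥ x) ((g : Matrix (Fin 6) (Fin 6) F) *ᵥ y) = θ (h x y) :=
    fun x y => (hhu _ _ _ fun a => by
      obtain ⟨a₀, rfl⟩ := hsurj a
      rw [← hθ, ← map_mul, htrθ, ← hh]
      exact hgU _ _).symm
  have hθ0 : ∀ a ∈ K₀, θ a ∈ K₀ := fun a ha => (pow8 _).mpr (by rw [← map_pow, (pow8 a).mp ha])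
  have hco : ∀ x, ∃ a b, x = act a u + act b w := fun x =>
    ⟨∑ i, (((P⁻¹ : GL (Fin 6) F) : Matrix (Fin 6) (Fin 6) F) *ᵥ x) (ep.symm (0, i)) • η i,
      ∑ i, (((P⁻¹ : GL (Fin 6) F) : Matrix (Fin 6) (Fin 6) F) *ᵥ x) (ep.symm (1, i)) • η i,
      by rw [← hPv, ← hP, Matrix.mulVec_mulVec, Units.mul_inv, Matrix.one_mulVec]⟩
  obtain ⟨α, γ, hgu⟩ := hco ((g : Matrix (Fin 6) (Fin 6) F) *ᵥ u)
  obtain ⟨β, δ, hgw⟩ := hco ((g : Matrix (Fin 6) (Fin 6) F) *ᵥ w)
  have E1 : α * bar γ + γ * bar α = 0 := by rw [← hpair, ← hgu, hgh, huu, map_zero]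
  have E2 : β * bar δ + δ * bar β = 0 := by rw [← hpair, ← hgw, hgh, hww, map_zero]
  have E3 : α * bar δ + γ * bar β = 1 := by rw [← hpair, ← hgu, ← hgw, hgh, huw, map_one]
  have E4 : bar α * δ + bar γ * β = 1 := by
    have e := congrArg bar E3
    rwa [bar_add, bar_mul, bar_mul, bar_bar, bar_bar, bar_one] at e
  obtain ⟨Δ, hΔ⟩ : ∃ Δ : K, Δ = α * δ + β * γ := ⟨_, rfl⟩
  have hα : α = bar α * Δ := by rw [hΔ]; linear_combination -α * E4 + β * E1 - bar α * γ * β * (CharTwo.two_eq_zero (R := K))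
  have hγ : γ = bar γ * Δ := by rw [hΔ]; linear_combination -γ * E4 + δ * E1 - bar γ * α * δ * (CharTwo.two_eq_zero (R := K))
  have hβ : β = bar β * Δ := by rw [hΔ]; linear_combination -β * E3 + α * E2 - bar β * α * δ * (CharTwo.two_eq_zero (R := K))
  have hδ : δ = bar δ * Δ := by rw [hΔ]; linear_combination -δ * E3 + γ * E2 - bar δ * γ * β * (CharTwo.two_eq_zero (R := K))
  have hΔ1 : Δ * bar Δ = 1 := by
    have key : ∀ x, x ≠ 0 → x = bar x * Δ → Δ * bar Δ = 1 := fun x hx0 hx => by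
      have e := congrArg bar hx
      rw [bar_mul, bar_bar] at e
      apply mul_left_cancel₀ hx0
      rw [mul_one]
      linear_combination -hx - Δ * e
    by_cases hα0 : α = 0
    · refine key γ (fun hγ0 => ?_) hγ
      rw [hα0, hγ0] at E3
      simp at E3
    · exact key α hα0 hα
  obtain ⟨ν, hν⟩ : ∃ ν : K, ν = Δ ^ 32 := ⟨_, rfl⟩
  have hνν : ν * ν = Δ := by
    rw [hν, ← pow_add]
    have e := FiniteField.pow_card Δ
    rwa [hcardK] at e
  have hν1 : ν * bar ν = 1 := by
    rw [hν, show bar (Δ ^ 32) = bar Δ ^ 32 from map_pow barHom Δ 32, ← mul_pow, hΔ1, one_pow]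
  have hν0 : ν ≠ 0 := left_ne_zero_of_mul_eq_one hν1
  have hdiv : ∀ x, x = bar x * Δ → x / ν ∈ K₀ := by
    intro x hx
    rw [mem0, div_eq_mul_inv, bar_mul, bar_inv]
    have e : (bar ν)⁻¹ = ν := inv_eq_of_mul_eq_one_left hν1
    rw [e]
    apply mul_right_cancel₀ hν0
    rw [mul_assoc x, inv_mul_cancel₀ hν0, mul_one, mul_assoc, hνν, ← hx]
  -- the rational part
  have hlattice : ∀ j, ∃ a ∈ K₀, ∃ b ∈ K₀, (g : Matrix (Fin 6) (Fin 6) F) *ᵥ
      ((P : Matrix (Fin 6) (Fin 6) F) *ᵥ Pi.single j 1) = act ν (act a u + act b w) := by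
    intro j
    obtain ⟨a, ha, b, hb, e⟩ := hlat (Pi.single j 1) (fun i => by
      rw [Pi.single_apply]; split_ifs
      exacts [F₀.one_mem, F₀.zero_mem])
    refine ⟨θ a * (α / ν) + θ b * (β / ν), K₀.add_mem (K₀.mul_mem (hθ0 a ha) (hdiv α hα))
      (K₀.mul_mem (hθ0 b hb) (hdiv β hβ)), θ a * (γ / ν) + θ b * (δ / ν),
      K₀.add_mem (K₀.mul_mem (hθ0 a ha) (hdiv γ hγ)) (K₀.mul_mem (hθ0 b hb) (hdiv δ hδ)), ?_⟩
    rw [e, Matrix.mulVec_add, hθ, hθ, hgu, hgw, act_vadd, act_vadd, act_vadd, ← act_mul, ← act_mul,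
      ← act_mul, ← act_mul, ← act_mul, ← act_mul]
    have e1 : ν * (θ a * (α / ν) + θ b * (β / ν)) = θ a * α + θ b * β := by field_simp
    have e2 : ν * (θ a * (γ / ν) + θ b * (δ / ν)) = θ a * γ + θ b * δ := by field_simp
    rw [e1, e2, act_add, act_add]
    abel
  let Nν : GL (Fin 6) F := ⟨(ν : Matrix (Fin 6) (Fin 6) F), ((ν⁻¹ : K) : Matrix (Fin 6) (Fin 6) F),
    congrArg Subtype.val (mul_inv_cancel₀ hν0), congrArg Subtype.val (inv_mul_cancel₀ hν0)⟩
  obtain ⟨k₀, hk₀⟩ : ∃ k₀ : GL (Fin 6) F, k₀ = P⁻¹ * (Nν⁻¹ * g) * P := ⟨_, rfl⟩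
  have hk₀F : ∀ i j, (k₀ : Matrix (Fin 6) (Fin 6) F) i j ∈ F₀ := by
    intro i j
    obtain ⟨a, ha, b, hb, e⟩ := hlattice j
    have e' : (k₀ : Matrix (Fin 6) (Fin 6) F) *ᵥ Pi.single j 1 =
        ((P⁻¹ : GL (Fin 6) F) : Matrix (Fin 6) (Fin 6) F) *ᵥ (act a u + act b w) := by
      rw [hk₀]
      simp only [Units.val_mul, ← Matrix.mulVec_mulVec, e]
      congr 1
      show act ν⁻¹ (act ν _) = _
      rw [← act_mul, inv_mul_cancel₀ hν0, act_one]
    have e'' := congrFun e' i
    rw [Matrix.mulVec_single_one] at e''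
    show (k₀ : Matrix (Fin 6) (Fin 6) F) i j ∈ F₀
    rw [show (k₀ : Matrix (Fin 6) (Fin 6) F) i j = _ from e'']
    exact hcoord a ha b hb i
  have hk₀mem := mem_range_map_subfield F₀ hk₀F
  have hdetk : (k₀ : Matrix (Fin 6) (Fin 6) F).det = 1 := by
    refine hreal _ ?_ ((Matrix.isUnit_iff_isUnit_det _).mp k₀.isUnit).ne_zero
    obtain ⟨k', hk'⟩ := hk₀mem
    rw [← hk']
    show ((k' : Matrix (Fin 6) (Fin 6) F₀).map F₀.subtype).det ∈ F₀
    rw [← RingHom.mapMatrix_apply, ← RingHom.map_det]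
    exact SetLike.coe_mem _
  have hdetN : ((ν : K) : Matrix (Fin 6) (Fin 6) F).det = 1 := by
    have e : Nν * (P * k₀ * P⁻¹) = g := by rw [hk₀]; group
    have e' := congrArg (fun z : GL (Fin 6) F => (z : Matrix (Fin 6) (Fin 6) F).det) e
    have hg1 : (g : Matrix (Fin 6) (Fin 6) F).det = 1 := by
      simpa using congrArg (fun z : Fˣ => (z : F)) (show Matrix.GeneralLinearGroup.det g = 1 from hgS)
    simp only [Units.val_mul, Matrix.det_mul, hg1, hdetk, mul_one] at e'
    rw [← Matrix.det_mul, Units.mul_inv, Matrix.det_one, mul_one] at e'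
    exact e'
  -- the scalar
  have hν21 : ν ^ 21 = 1 := by
    let L : Matrix (Fin 3) (Fin 3) F := Algebra.leftMulMatrix η ν
    have e : (P : Matrix (Fin 6) (Fin 6) F) * ((1 : Matrix (Fin 2) (Fin 2) F) ⊗ₖ L).submatrix ep ep =
        (ν : Matrix (Fin 6) (Fin 6) F) * (P : Matrix (Fin 6) (Fin 6) F) := by
      refine Matrix.ext_of_mulVec_single fun j => ?_
      rw [← Matrix.mulVec_mulVec, ← Matrix.mulVec_mulVec, hP, hPv, Matrix.mulVec_single_one, Matrix.mulVec_single_one]
      have hcol : (fun i => Pm i j) = act (η (ep j).2) (uw (ep j).1) := rfl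
      show _ = act ν (Pm.col j)
      rw [show Pm.col j = act (η (ep j).2) (uw (ep j).1) from hcol, ← act_mul]
      have hsum : ∀ l, ∑ i, L i l • η i = ν * η l := fun l => by
        simp only [L, Algebra.leftMulMatrix_eq_repr_mul, η.sum_repr]
      simp only [Matrix.col_apply, Matrix.submatrix_apply, Equiv.apply_symm_apply, kroneckerMap_apply]
      rcases Fin.exists_fin_two.mp ⟨(ep j).1, rfl⟩ with e | e <;>
        simp [e, uw, hsum, act_zero, Matrix.one_apply]
    have e' := congrArg Matrix.det e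
    rw [Matrix.det_mul, Matrix.det_mul, hdetN, one_mul, Matrix.det_submatrix_equiv_self, Matrix.det_kronecker,
      Matrix.det_one, one_pow, one_mul, Fintype.card_fin, ← Algebra.norm_eq_matrix_det η] at e'
    have hN2 : Algebra.norm F ν * Algebra.norm F ν = 1 := by
      rw [← sq]
      exact mul_left_cancel₀ ((Matrix.isUnit_iff_isUnit_det _).mp P.isUnit).ne_zero (by rw [e', mul_one])
    have hN : Algebra.norm F ν = 1 := by
      have e2 : (Algebra.norm F ν + 1) * (Algebra.norm F ν + 1) = 0 := by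
        linear_combination hN2 + (Algebra.norm F ν + 1) * h2
      linear_combination mul_self_eq_zero.mp e2 - h2
    have e3 := FiniteField.algebraMap_norm_eq_pow (K := F) (K' := K) (x := ν)
    rw [hN, map_one, Nat.card_eq_fintype_card, Nat.card_eq_fintype_card, hcardK, hσ.card] at e3
    exact e3.symm
  have hν3 : ν ^ 3 = 1 := by
    have hz8 : (ν ^ 3) ^ 8 = ν ^ 3 := by
      rw [← pow_mul, show 3 * 8 = 21 + 3 by norm_num, pow_add, hν21, one_mul]
    have hzb : bar (ν ^ 3) = ν ^ 3 := (pow8 _).mpr hz8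
    have hz2 : ν ^ 3 * ν ^ 3 = 1 := by
      nth_rewrite 2 [← hzb]
      rw [show bar (ν ^ 3) = bar ν ^ 3 from map_pow barHom ν 3, ← mul_pow, hν1, one_pow]
    calc ν ^ 3 = (ν ^ 21) * ν ^ 3 := by rw [hν21, one_mul]
      _ = (ν ^ 3 * ν ^ 3) ^ 4 := by ring
      _ = 1 := by rw [hz2, one_pow]
  obtain ⟨c, hc⟩ : ∃ c : F, algebraMap F K c = ν := by
    have hmem : ν ∈ (algebraMap F K).fieldRange := by
      rw [mem_subfield_iff]
      have hcard : Nat.card (algebraMap F K).fieldRange = 4 := by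
        rw [← Nat.card_congr (RingEquiv.ofBijective (algebraMap F K).rangeRestrictField
          ⟨(algebraMap F K).rangeRestrictField.injective,
            fun ⟨y, x, hx⟩ => ⟨x, Subtype.ext hx⟩⟩).toEquiv,
          Nat.card_eq_fintype_card, hσ.card]
        norm_num
      rw [hcard, pow_succ, hν3, one_mul]
    exact RingHom.mem_fieldRange.mp hmem
  have hc0 : c ≠ 0 := fun h0 => hν0 (by rw [← hc, h0, map_zero])
  refine ⟨scalarMat (Fin 6) c hc0 * k₀, Subgroup.mul_mem _ (Subgroup.mem_sup_right (scalarMat_mem _ _))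
    (Subgroup.mem_sup_left hk₀mem), ?_⟩
  apply Units.ext
  show ((P * (scalarMat (Fin 6) c hc0 * k₀) * P⁻¹ : GL (Fin 6) F) : Matrix (Fin 6) (Fin 6) F) = _
  have hNc : Nν = scalarMat (Fin 6) c hc0 := Units.ext (by
    rw [coe_scalarMat]
    show (ν : Matrix (Fin 6) (Fin 6) F) = _
    rw [← hc, Algebra.algebraMap_eq_smul_one]
    rfl)
  have e : P * (scalarMat (Fin 6) c hc0 * k₀) * P⁻¹ = g := by
    rw [← mul_assoc P, ← scalars_commute (scalarMat_mem c hc0) P, ← hNc, hk₀]
    group
  rw [e]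

end Cfsg.Agent.Lib.MaxClass.Unitary
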