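import Mathlib
import Cfsg.Prelude.Def_GeometricClasses
import Cfsg.Agent.Lib.MaxClass.UnitaryNotTop
import Cfsg.Agent.Lib.Aschbacher.UnitarySubfield

/-!
The special unitary group in dimension three is in no stabiliser of orthogonal lines and in no normaliser of a
group of symplectic type.
-/

set_option autoImplicit false
set_option linter.style.haveILetI false

namespace Cfsg.Agent.Lib.MaxClass.Unitary

open Cfsg Cfsg.Geo Matrix
open Cfsg.Agent.Lib.Aschbacher
open Cfsg.Agent.Lib.MaxClass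

set_option maxHeartbeats 1000000

section general

variable {ι : Type} [Fintype ι] [DecidableEq ι] {E : Type*} [Field E]

/-- A transvection normalises no group of symplectic type of class two, in dimension three away from 2 and 3. -/
theorem tv_notMem_subgroupNormalizer_three (hn : Fintype.card ι = 3) (h2 : (2 : E) ≠ 0) (h3 : (3 : E) ≠ 0)
    {R : Subgroup (GL ι E)} (hirr : ActsAbsolutelyIrreducibly (matrixSet R))
    (hclass : commutator R ≤ Subgroup.center R)
    {v φ : ι → E} (hv : φ ⬝ᵥ v = 0) (hv0 : v ≠ 0) (hφ0 : φ ≠ 0) :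
    tv v φ hv ∉ subgroupNormalizer R := by
  classical
  intro hmem
  haveI : Nonempty ι := Fintype.card_pos_iff.mp (by omega)
  obtain ⟨N, hN⟩ : ∃ N, N = vecMulVec v φ := ⟨_, rfl⟩
  have hNN : N * N = 0 := by
    rw [hN, vecMulVec_mul_vecMulVec, hv]
    simp
  -- scalar or traceless
  have htr : ∀ y ∈ R, (∃ c : E, (y : Matrix ι ι E) = c • 1) ∨ (y : Matrix ι ι E).trace = 0 := by
    intro y hy
    by_cases hcm : ∀ z ∈ R, z * y = y * z
    · left
      exact hirr.2 (y : Matrix ι ι E) (by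
        rintro _ ⟨z, hz, rfl⟩
        exact (congrArg Units.val (hcm z hz)).symm)
    · right
      push Not at hcm
      obtain ⟨z, hz, hne⟩ := hcm
      have hmemc : (⟨y, hy⟩ : R) * ⟨z, hz⟩ * ⟨y, hy⟩⁻¹ * ⟨z, hz⟩⁻¹ ∈ Subgroup.center R :=
        hclass (Subgroup.commutator_mem_commutator (Subgroup.mem_top _) (Subgroup.mem_top _))
      obtain ⟨c, hc⟩ := (mem_scalars_iff _).mp (center_mem_scalars hirr hmemc)
      have e : y * z = (((⟨y, hy⟩ : R) * ⟨z, hz⟩ * ⟨y, hy⟩⁻¹ * ⟨z, hz⟩⁻¹ : R) : GL ι E) * (z * y) := by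
        simp only [Subgroup.coe_mul, Subgroup.coe_inv]
        group
      have e' := congrArg Units.val e
      rw [Units.val_mul, Units.val_mul, hc, Matrix.smul_mul, Matrix.one_mul, Units.val_mul] at e'
      have hc1 : (c : E) ≠ 1 := fun h => by
        rw [h, one_smul] at e'
        exact hne (Units.ext (by rw [Units.val_mul, Units.val_mul, e']))
      have e2 := congrArg (fun M => (((z⁻¹ : GL ι E) : Matrix ι ι E) * M).trace) e'
      simp only [Matrix.mul_smul, Matrix.trace_smul, smul_eq_mul, ← mul_assoc, Units.inv_mul, one_mul] at e2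
      rw [Matrix.trace_mul_cycle, Units.mul_inv, one_mul] at e2
      have e3 : ((c : E) - 1) * (y : Matrix ι ι E).trace = 0 := by linear_combination -e2
      exact (mul_eq_zero.mp e3).resolve_left (sub_ne_zero.mpr hc1)
  have hstep : ∀ x ∈ R, ∀ k : E, ∀ hk : (k • φ) ⬝ᵥ v = 0, tv v (k • φ) hk ∈ subgroupNormalizer R →
      (x : Matrix ι ι E) * (k • N) = (k • N) * (x : Matrix ι ι E) ∨
      k * k * (N * ((x : Matrix ι ι E) * N * ((x⁻¹ : GL ι E) : Matrix ι ι E))).trace = 3 := by
    intro x hx k hk hkN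
    obtain ⟨t, ht⟩ : ∃ t, t = tv v (k • φ) hk := ⟨_, rfl⟩
    rw [← ht] at hkN
    obtain ⟨y, hy⟩ : ∃ y : GL ι E, y = t * x * t⁻¹ * x⁻¹ := ⟨_, rfl⟩
    have hyR : y ∈ R := hy ▸ R.mul_mem ((Subgroup.mem_normalizer_iff.mp hkN x).mp hx) (R.inv_mem hx)
    have htk : (t : Matrix ι ι E) = 1 + k • N := by rw [ht, coe_tv, hN, vecMulVec_smul]
    have htk' : ((t⁻¹ : GL ι E) : Matrix ι ι E) = 1 - k • N := by rw [ht, coe_tv_inv, hN, vecMulVec_smul]
    obtain ⟨X, hX⟩ : ∃ X, X = (x : Matrix ι ι E) * N * ((x⁻¹ : GL ι E) : Matrix ι ι E) := ⟨_, rfl⟩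
    have hyval : (y : Matrix ι ι E) = (1 + k • N) * (1 - k • X) := by
      rw [hy, Units.val_mul, Units.val_mul, Units.val_mul, htk, htk', hX, mul_assoc, mul_assoc, ← mul_assoc (x : Matrix ι ι E),
        mul_sub, mul_one, sub_mul, Units.mul_inv, Matrix.mul_smul, Matrix.smul_mul]
    rcases htr y hyR with ⟨c, hc⟩ | h0
    · left
      -- a fixed vector
      let L : (ι → E) →ₗ[E] (E × E) :=
        (dotProductBilin E E φ).prod (dotProductBilin E E (φ ᵥ* ((x⁻¹ : GL ι E) : Matrix ι ι E)))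
      obtain ⟨u, hu, hu0⟩ := Submodule.exists_mem_ne_zero_of_ne_bot (show LinearMap.ker L ≠ ⊥ from fun h => by
        have h1 := L.finrank_range_add_finrank_ker
        have h2 : Module.finrank E (LinearMap.range L) ≤ 2 :=
          (Submodule.finrank_le _).trans (by rw [Module.finrank_prod, Module.finrank_self])
        rw [Module.finrank_fintype_fun_eq_card, h, finrank_bot] at h1
        omega)
      have h12 : φ ⬝ᵥ u = 0 ∧ (φ ᵥ* ((x⁻¹ : GL ι E) : Matrix ι ι E)) ⬝ᵥ u = 0 :=
        Prod.ext_iff.mp (LinearMap.mem_ker.mp hu)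
      have hNu : N *ᵥ u = 0 := by rw [hN, vecMulVec_mulVec, h12.1]; simp
      have hXu : X *ᵥ u = 0 := by
        have h2' : φ ⬝ᵥ (((x⁻¹ : GL ι E) : Matrix ι ι E) *ᵥ u) = 0 := by
          rw [Matrix.dotProduct_mulVec]; exact h12.2
        rw [hX, ← Matrix.mulVec_mulVec, ← Matrix.mulVec_mulVec, hN, vecMulVec_mulVec, h2']
        simp
      have hyu : (y : Matrix ι ι E) *ᵥ u = u := by
        rw [hyval, ← Matrix.mulVec_mulVec, Matrix.sub_mulVec, Matrix.one_mulVec, Matrix.smul_mulVec, hXu, smul_zero,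
          sub_zero, Matrix.add_mulVec, Matrix.one_mulVec, Matrix.smul_mulVec, hNu, smul_zero, add_zero]
      rw [hc, Matrix.smul_mulVec, Matrix.one_mulVec] at hyu
      have hc1 : c = 1 := by
        have h' : (c - 1) • u = 0 := by rw [sub_smul, one_smul, hyu, sub_self]
        exact sub_eq_zero.mp ((smul_eq_zero.mp h').resolve_right hu0)
      have hy1 : y = 1 := Units.ext (by rw [hc, hc1, one_smul, Units.val_one])
      rw [hy] at hy1
      have h := congrArg Units.val (mul_inv_eq_iff_eq_mul.mp (mul_inv_eq_one.mp hy1))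
      rw [Units.val_mul, Units.val_mul, htk, add_mul, mul_add, one_mul, mul_one] at h
      exact (add_left_cancel h).symm
    · right
      have hprod : (y : Matrix ι ι E) = 1 + k • N - k • X - (k * k) • (N * X) := by
        rw [hyval]
        simp only [add_mul, mul_sub, Matrix.smul_mul, Matrix.mul_smul, one_mul, mul_one, smul_smul, smul_sub]
        abel
      have hNt : N.trace = 0 := by rw [hN, Matrix.trace_vecMulVec, dotProduct_comm]; exact hv
      have hXt : X.trace = 0 := by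
        rw [hX, Matrix.trace_mul_cycle, Units.inv_mul, one_mul, hNt]
      rw [hprod, Matrix.trace_sub, Matrix.trace_sub, Matrix.trace_add, Matrix.trace_smul, Matrix.trace_smul,
        Matrix.trace_smul, Matrix.trace_one, hn, hNt, hXt, smul_eq_mul, smul_eq_mul] at h0
      rw [← hX]
      push_cast at h0
      linear_combination -h0
  have hcent : ∀ x ∈ R, (x : Matrix ι ι E) * N = N * (x : Matrix ι ι E) := by
    intro x hx
    have hk1 : ((1 : E) • φ) ⬝ᵥ v = 0 := by rw [one_smul]; exact hv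
    have hk2 : ((2 : E) • φ) ⬝ᵥ v = 0 := by rw [smul_dotProduct, hv, smul_zero]
    have ht1 : tv v ((1 : E) • φ) hk1 ∈ subgroupNormalizer R := by
      rwa [show tv v ((1 : E) • φ) hk1 = tv v φ hv from Units.ext (by rw [coe_tv, coe_tv, one_smul])]
    have ht2 : tv v ((2 : E) • φ) hk2 ∈ subgroupNormalizer R := by
      rw [show tv v ((2 : E) • φ) hk2 = tv v φ hv * tv v φ hv from Units.ext (by
        rw [Units.val_mul, coe_tv, coe_tv, vecMulVec_smul, ← hN, add_mul, mul_add, mul_add, hNN, two_smul]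
        simp only [one_mul, mul_one, add_zero]
        abel)]
      exact mul_mem hmem hmem
    rcases hstep x hx 1 hk1 ht1 with h | h
    · simpa using h
    rcases hstep x hx 2 hk2 ht2 with h' | h'
    · have h'' := congrArg ((2 : E)⁻¹ • ·) h'
      simpa only [Matrix.mul_smul, Matrix.smul_mul, smul_smul, inv_mul_cancel₀ h2, one_smul] using h''
    · exact absurd (show (3 : E) * 3 = 0 by linear_combination h' - 4 * h) (mul_ne_zero h3 h3)
  obtain ⟨c, hc⟩ := hirr.2 N (by
    rintro _ ⟨x, hx, rfl⟩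
    exact (hcent x hx).symm)
  rw [hN] at hc
  obtain ⟨i, hi⟩ := Function.ne_iff.mp hv0
  obtain ⟨j, hj⟩ := Function.ne_iff.mp hφ0
  simp only [Pi.zero_apply] at hi hj
  by_cases hij : i = j
  · subst hij
    obtain ⟨k, hk⟩ : ∃ k, k ≠ i := by
      haveI : Nontrivial ι := Fintype.one_lt_card_iff_nontrivial.mp (by omega)
      exact exists_ne i
    have e1 := congrFun (congrFun hc i) i
    have e2 := congrFun (congrFun hc k) k
    have e3 := congrFun (congrFun hc i) k
    simp [vecMulVec_apply, hk.symm, hi] at e1 e2 e3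
    rw [e3, mul_zero] at e2
    rw [← e2] at e1
    exact (mul_ne_zero hi hj) e1
  · have e1 := congrFun (congrFun hc i) j
    simp [vecMulVec_apply, hij, hi] at e1
    exact hj e1

end general

variable {F : Type*} [Field F] [Fintype F] {q : ℕ} {σ : F ≃+* F}

theorem not_su_le_subgroupNormalizer_three (hσ : IsQAut q σ) (h2 : (2 : F) ≠ 0) (h3 : (3 : F) ≠ 0)
    {R : Subgroup (GL (Fin 3) F)} (hirr : ActsAbsolutelyIrreducibly (matrixSet R))
    (hclass : commutator R ≤ Subgroup.center R) : ¬ suGL 3 F q ≤ subgroupNormalizer R := by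
  intro hle
  obtain ⟨a, v, hv, hmem, hv0, hφ⟩ := utv_data hσ (n := 3) (by omega)
  exact tv_notMem_subgroupNormalizer_three (by rw [Fintype.card_fin]) h2 h3 hirr hclass _ hv0 hφ (hle hmem)

/-- Orthogonal lines, in dimension three. -/
theorem not_su_le_lines_three (hσ : IsQAut q σ) (hq : 3 ≤ q)
    {D : Fin 3 → Submodule F (Fin 3 → F)} (hD : IsNondegenerateMDecomposition (hermForm 3 F q) 1 D) :
    ¬ suGL 3 F q ≤ decompositionStabilizer D := by
  classical
  intro hle
  obtain ⟨a, ha0, ha⟩ := exists_skew hσ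
  have hb : ∀ i, ∃ b ∈ D i, hermForm 3 F q b b ≠ 0 := by
    intro i
    obtain ⟨b, hb, hb0⟩ : ∃ b ∈ D i, b ≠ 0 := (D i).ne_bot_iff.mp fun h => by
      have := hD.decomp.finrank_eq i
      rw [h, finrank_bot] at this
      omega
    obtain ⟨x, hx, hxb⟩ := (hD.nondegenerate i b hb hb0).1
    obtain ⟨c, hc⟩ := (finrank_eq_one_iff_of_nonzero' (⟨b, hb⟩ : D i) (fun h => hb0 (congrArg Subtype.val h))).mp
      (hD.decomp.finrank_eq i) ⟨x, hx⟩
    refine ⟨b, hb, fun h => hxb ?_⟩
    have hc' : c • b = x := congrArg Subtype.val hc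
    rw [← hc', herm_smul_left hσ, h, mul_zero]
  choose b hb hbb using hb
  have horth : ∀ i j, i ≠ j → hermForm 3 F q (b i) (b j) = 0 := fun i j h => hD.orthogonal i j h _ (hb i) _ (hb j)
  have hfix : ∀ i, σ (hermForm 3 F q (b i) (b i)) = hermForm 3 F q (b i) (b i) := fun i => herm_comm hσ _ _
  obtain ⟨h01, h02, h12⟩ : (0 : Fin 3) ≠ 1 ∧ (0 : Fin 3) ≠ 2 ∧ (1 : Fin 3) ≠ 2 := by decide
  -- a value of the fixed field avoiding two
  obtain ⟨c, hcF, hc0, hcA⟩ : ∃ c : F, σ c = c ∧ c ≠ 0 ∧ c ≠ -hermForm 3 F q (b 0) (b 0) := by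
    by_contra hcon
    push Not at hcon
    have hsub : ((fixedSub σ : Subfield F) : Set F) ⊆ ↑({0, -hermForm 3 F q (b 0) (b 0)} : Finset F) := by
      intro x hx
      by_cases h : x = 0
      · simp [h]
      · simp [hcon x hx h]
    have hle' := Set.ncard_le_ncard hsub (Finset.finite_toSet _)
    rw [Set.ncard_coe_finset, ← Nat.card_coe_set_eq] at hle'
    have h2' := hle'.trans Finset.card_le_two
    rw [show Nat.card ((fixedSub σ : Subfield F) : Set F) = q from hσ.card_fixedSub] at h2'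
    omega
  have hpick : ∀ j (d : F), σ d = d → d ≠ 0 → ∃ y : F, y ≠ 0 ∧ y * σ y * hermForm 3 F q (b j) (b j) = d := by
    intro j d hd hd0
    obtain ⟨y, hy⟩ := exists_norm hσ (c := d / hermForm 3 F q (b j) (b j)) (by rw [map_div₀, hd, hfix])
    refine ⟨y, fun h => ?_, ?_⟩
    · rw [h, zero_mul] at hy
      exact div_ne_zero hd0 (hbb j) hy.symm
    · rw [hy, div_mul_cancel₀ _ (hbb j)]
  obtain ⟨y, hy0, hy⟩ := hpick 1 c hcF hc0
  obtain ⟨z, hz0, hz⟩ := hpick 2 (-hermForm 3 F q (b 0) (b 0) - c) (by rw [map_sub, map_neg, hfix, hcF])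
    (fun h => hcA (by linear_combination -h))
  obtain ⟨v, hv'⟩ : ∃ v, v = b 0 + y • b 1 + z • b 2 := ⟨_, rfl⟩
  have h0v : hermForm 3 F q (b 0) v = hermForm 3 F q (b 0) (b 0) := by
    simp [hv', herm_add_right hσ, herm_smul_right hσ, horth _ _ h01, horth _ _ h02]
  have hv : hermForm 3 F q v v = 0 := by
    simp only [hv', herm_add_left hσ, herm_add_right hσ, herm_smul_left hσ, herm_smul_right hσ,
      horth _ _ h01, horth _ _ h02, horth _ _ h12, horth _ _ h01.symm, horth _ _ h02.symm, horth _ _ h12.symm]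
    linear_combination hy + hz
  obtain ⟨π, hπ⟩ := hle (utv_mem hσ ha v hv)
  have hmem : (utv hσ a v hv : Matrix (Fin 3) (Fin 3) F) *ᵥ b 0 ∈ D (π 0) := by
    rw [← hπ 0]
    exact ⟨b 0, hb 0, Matrix.toLin'_apply _ _⟩
  have key : ∀ k, k ≠ π 0 → k ≠ 0 → hermForm 3 F q v (b k) = 0 := by
    intro k hk hk0
    have h1 := hD.orthogonal (π 0) k (Ne.symm hk) _ hmem _ (hb k)
    rw [utv_mulVec, herm_add_left hσ, herm_smul_left hσ, horth _ _ (Ne.symm hk0), zero_add, h0v] at h1
    exact (mul_eq_zero.mp h1).resolve_left (mul_ne_zero ha0 (hbb 0))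
  have h1 : hermForm 3 F q v (b 1) ≠ 0 := by
    simp [hv', herm_add_left hσ, herm_smul_left hσ, horth _ _ h01, horth _ _ h12.symm, hy0, hbb 1]
  have h2 : hermForm 3 F q v (b 2) ≠ 0 := by
    simp [hv', herm_add_left hσ, herm_smul_left hσ, horth _ _ h02, horth _ _ h12, hz0, hbb 2]
  rcases eq_or_ne 1 (π 0) with h | h
  · exact h2 (key 2 (h ▸ h12.symm) h02.symm)
  · exact h1 (key 1 h h01.symm)

end Cfsg.Agent.Lib.MaxClass.Unitary
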